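import Cfsg.Agent.H164.EP.RestF4_mg
import Cfsg.Agent.H892.EP.Good_m3
import Cfsg.Agent.H892.EP.TM_m3
import Cfsg.Agent.H163.Steinberg
import Cfsg.Agent.FixBN.SplitRGD
import Cfsg.Agent.S1054
import Cfsg.Agent.H592.EP.Norm_m3
import Cfsg.Agent.H113.PSU.Rank3_m3
import Cfsg.Agent.H30.FiE.Ctx
import Cfsg.Agent.H52.GowFi23
import Cfsg.Agent.H30.GraphFi24A
import Mathlib
import Cfsg.Agent.H841.Phi_m3
import Cfsg.Agent.H30.RealFi
import Cfsg.Agent.H961.SepFi23
import Cfsg.Agent.H672.SporIM.RankRows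
import Cfsg.Agent.LThreeFi23.CentUuComp
import Cfsg.Agent.H947.PQ.Own_m3
import Cfsg.Agent.H33.IMLie
import Cfsg.Agent.H452.FprPsl2
import Cfsg.Agent.H984.SLCyc
import Cfsg.Agent.H979.LieSplit
import Cfsg.Agent.H400.LieLocal
import Cfsg.Agent.H45.GG.Series_m3
import Cfsg.Agent.Nodes.WittModel
import Cfsg.Agent.Nodes.WittU
import Cfsg.Agent.TitsThree.KInstU
import Cfsg.Agent.H697.EP.PsuWeil_m3
import Cfsg.Agent.H537.EP.OfMJ
import Cfsg.Agent.ClassicalGeometry.HermLines4
import Cfsg.Agent.H720.RowsNeg_m3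
import Cfsg.Agent.H130.TorEmb
import Cfsg.Agent.H658.HeightZeroSq
import Cfsg.Agent.H809.Evn.Cyc
import Cfsg.Agent.H973.KB.Cyc_m3
import Cfsg.Agent.H644.CentralQuot
import Cfsg.Agent.H684.CoverCount_m3
import Cfsg.Agent.H595.AbCount
import Cfsg.Agent.S0919
import Cfsg.Agent.S0936
import Cfsg.Agent.S0907
import Cfsg.Agent.ChevalleyStructure.CoxeterGeom
import Cfsg.Agent.S2378
import Cfsg.Agent.S1093
import Cfsg.Agent.Lib.FinFast
import Cfsg.Agent.H646.DefectBasic
import Cfsg.Agent.H729.CharTwoBlock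
import Cfsg.Agent.H968.Rat.RowMathieu
import Cfsg.Agent.H447.RealMathieu
import Cfsg.Agent.H417.DegMTwelve
import Cfsg.Agent.H417.DegMTwentyTwo
import Cfsg.Agent.H417.RecogMathieu
import Cfsg.Agent.H590.MElevenDeg
import Cfsg.Agent.SporadicA.M11Facts2
import Cfsg.Agent.CoThreeStd.MTwelveCent
import Cfsg.Agent.CpAutTThree.MTwelve
import Cfsg.Agent.H733.EP.MCent
import Cfsg.Agent.H642.PQ.Full
import Cfsg.Agent.H417.DegMTwentyThree
import Cfsg.Agent.M24Order.Three
import Cfsg.Agent.SporadicA.M24.KFiveLocal_mg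
import Cfsg.Agent.S0422
import Cfsg.Agent.S0364
import Cfsg.Agent.H481.EP.Fi22_m3
import Cfsg.Agent.H635.PQ.Co3NB
import Cfsg.Agent.H434.EP.ON
import Cfsg.Agent.H661.SporHN
import Cfsg.Agent.H788.RatB.Ly
import Cfsg.Agent.H204.Ore.LyFive_m3
import Cfsg.Agent.H809.RealB0.Ly_m3
import Cfsg.Agent.H894.DefZero
import Cfsg.Agent.H145.BR.Count
import Cfsg.Agent.H217.Odm.Real_m3
import Cfsg.Agent.H438.Fpr.HNC
import Cfsg.Agent.H525.RO.HnElt
import Cfsg.Agent.H755.CC.HNFive
import Cfsg.Agent.H478.HN3D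
import Cfsg.Agent.H399.Two.HN
import Cfsg.Agent.H845.HNNineteen
import Cfsg.Agent.H472.EP.J4
import Cfsg.Agent.H892.EP.Chain_m3
import Cfsg.Agent.H877.EP.HS_m3
import Cfsg.Agent.H541.EP.HeRu
import Cfsg.Agent.FastGrp
import Cfsg.Agent.Prune
set_option linter.all false

section
prune_inst 0x7f00000000000000000000000000000000000000000000000000000000000000000000000000000000000000000000000000000000000000000000000000000000000000000000000000000000000000003fffffffffffffffffffffffffffbeffbdfbfeffff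

section
prune_inst 0x4010000

-- part: H531/EP/TorFam
section
set_option linter.all false
open scoped Cfsg.Agent.FastGrp

/-!
# Families of elements of tori (helper531)

`D.group F`, `|F| = q`, `r ∤ q` a prime.

* `mem_TT_of_comm_fam` : the elements of `D.group k` commuting with a finite family `t i` of elements of the torus, are in
  the torus, if no root and no element of the Weyl group is trivial on all `t i`;
* `exists_self_cent` : if `w` is an element of the Weyl group and the homomorphisms `f i : ℤ^l → ℤ/r`, `f i (w x) = q f i x`,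
  separate the roots in this sense, and all torus elements `t` with `t^w = t^q` satisfy `t^r = 1`, then the centralizer of a
  Sylow `r`-subgroup of `D.group F` is an `r`-group.
-/

set_option autoImplicit false
set_option linter.unusedSectionVars false

namespace Cfsg.Agent.H531.EP.TorFam

open CoxeterSystem Cfsg Cfsg.Lie Cfsg.Lie.ChevalleyDatum
open Cfsg.Agent.ChevalleyStructure Cfsg.Agent.ChevalleyStructure.Elts Cfsg.Agent.ChevalleyStructure.CoxeterGeom
  Cfsg.Agent.ChevalleyStructure.CoxeterGeomTypes Cfsg.Agent.ChevalleyStructure.NPerm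
open Cfsg.Agent.Tits.Roots Cfsg.Agent.Tits.Core Cfsg.Agent.Nodes Cfsg.Agent.Nodes.Reps Cfsg.Agent.Nodes.BNOf
  Cfsg.Agent.Nodes.RGDChev Cfsg.Agent.Nodes.Bruhat Cfsg.Agent.Nodes.SubComb Cfsg.Agent.Nodes.Coroot
open Cfsg.Agent.KFacts.RgdField Cfsg.Agent.KFacts.RgdChevCoord Cfsg.Agent.BpExc.TorCent Cfsg.Agent.BpExc.TorChev
open Cfsg.Agent.GpExc.Field Cfsg.Agent.BpExc.Tow Cfsg.Agent.BpExc.TowChev Cfsg.Agent.BpExc.Fr
  Cfsg.Agent.BpExc.LangFr Cfsg.Agent.LangThm Cfsg.Agent.BpExc Cfsg.Agent.H129.TorusChar Cfsg.Agent.H129.TorusCent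
  Cfsg.Agent.H129.TorusTw Cfsg.Agent.H129.TorusMain Cfsg.Agent.H129.TorusUntw Cfsg.Agent.H720.TorusReal

universe u

variable {D : ChevalleyDatum} {l : ℕ} {M : CoxeterMatrix (Fin l)} (hp : IsType D l M) {k : Type u} [Field k]
  {W : Type*} [Group W] (cs : CoxeterSystem M W)

/-- **The centraliser of a family of torus elements is the torus.** -/
theorem mem_TT_of_comm_fam [Finite W] (hk : LocFin k) (p : ℕ) [Fact p.Prime] [CharP k p] {ι : Type*} [Finite ι]
    {t : ι → ↥(D.group k)} (ht : ∀ i, t i ∈ TT D k)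
    (h1 : ∀ a, IsRoot cs hp.isCartan a → ∃ i, cX hp (t i) a ≠ 1)
    (h2 : ∀ w : W, (∀ i, ∀ a, IsRoot cs hp.isCartan a → cX hp (t i) (rep cs hp.isCartan w a) = cX hp (t i) a) → w = 1)
    {c : ↥(D.group k)} (hc : ∀ i, c * t i = t i * c) : c ∈ TT D k := by
  have H := tow hp cs hk p
  have C := coordsL hp cs hk p
  rw [← TL_eq hp hk, ← XL_eq hp hk] at C
  have ht' : ∀ i, t i ∈ TL (Tj hp (k := k)) := fun i => by rw [TL_eq hp hk]; exact ht i
  have hcG : c ∈ GG cs hp.isCartan (TL (Tj hp (k := k))) (XL (Xj hp)) := by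
    rw [GG_eq_top hp cs hk]; exact Subgroup.mem_top c
  obtain ⟨j0, hj0⟩ := H.mem_GG.1 hcG
  have hne := H.ne
  have hdir : IsDirectedOrder (Lev k) := ⟨fun a b => H.dir a b⟩
  choose jt hjt using fun i => H.mem_TL.1 (ht' i)
  obtain ⟨j1, hj1⟩ := Finite.exists_le jt
  obtain ⟨j, a1, a2⟩ := H.dir j0 j1
  set S : Set ↥(D.group k) := Set.range t with hS
  have hST : S ⊆ Tj hp (k := k) j := by
    rintro _ ⟨i, rfl⟩
    exact H.monoT ((hj1 i).trans a2) (hjt i)
  have hcS : c ∈ Subgroup.centralizer S := by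
    rw [Subgroup.mem_centralizer_iff]
    rintro _ ⟨i, rfl⟩
    exact (hc i).symm
  obtain ⟨u, hu, w, n, hn, hnS, v, hv, e⟩ := NormalForm.mem_centralizer (H.rgd j) hST (H.mono_GG a1 hj0) hcS
  have hbot : RGD.Sup (fun x => Xj hp (k := k) j x ⊓ Subgroup.centralizer S) (RGD.Pos cs hp.isCartan) ≤ ⊥ := by
    refine RGD.Sup_le fun a ha => ?_
    rintro y ⟨hy, hyS⟩
    rw [Subgroup.mem_bot]
    by_contra hy1
    obtain ⟨i, hi⟩ := h1 a ha.1
    have h3 : a ∈ Sx cs hp.isCartan (ch hp) (t i) := by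
      refine mem_Sx_of_centralizer C (ht' i) ha.1 (le_XL (X := Xj hp (k := k)) j a hy) hy1 ?_
      rw [Subgroup.mem_centralizer_singleton_iff]
      exact (Subgroup.mem_centralizer_iff.1 hyS (t i) ⟨i, rfl⟩).symm
    exact hi (by rw [cX_root hp cs (ht i) ha.1]; exact h3.2)
  have hu1 : u = 1 := Subgroup.mem_bot.1 (hbot hu)
  have hv1 : v = 1 := Subgroup.mem_bot.1 (hbot hv)
  rw [hu1, hv1, one_mul, mul_one] at e
  subst e
  have hnL := H.rp_up hn
  have hw : w = 1 := by
    refine h2 w fun i a ha => ?_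
    have h3 := C.chi_rp H.nsys hnL ha (ht' i)
    have h4 : c * t i * c⁻¹ = t i := by rw [hc i]; group
    rw [h4] at h3
    rw [cX_root hp cs (ht i) (ha.act w), cX_root hp cs (ht i) ha]
    exact h3
  subst hw
  have h3 := hnL.mem_of_one
  rwa [TL_eq hp hk] at h3

/-- `x ↦ ζ ^ f(x)` -/
theorem isMC_val {ζ : k} {r : ℕ} [NeZero r] (hζ : ζ ^ r = 1) (f : (Fin l → ℤ) →+ ZMod r) :
    IsMC (fun x : Fin l → ℤ => ζ ^ (f x).val) where
  zero := by
    show ζ ^ (f 0).val = 1
    rw [map_zero, ZMod.val_zero, pow_zero]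
  add x y := by
    show ζ ^ (f (x + y)).val = ζ ^ (f x).val * ζ ^ (f y).val
    rw [map_add, ZMod.val_add, ← pow_eq_pow_mod _ hζ, pow_add]

/-- `(ζ ^ a) ^ q = ζ ^ (q a)` -/
theorem pow_val {ζ : k} {r : ℕ} [NeZero r] (hζ : ζ ^ r = 1) (a : ZMod r) (q : ℕ) :
    ζ ^ ((q : ZMod r) * a).val = (ζ ^ a.val) ^ q := by
  rw [← pow_mul, pow_eq_pow_mod (a.val * q) hζ]
  congr 1
  have h1 : (((a.val * q : ℕ) : ZMod r)).val = (a.val * q) % r := ZMod.val_natCast r _
  rw [← h1]
  congr 1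
  push_cast
  rw [ZMod.natCast_val, ZMod.cast_id', id, mul_comm]

open scoped Pointwise in
/-- **The centralizer of a Sylow `r`-subgroup is an `r`-group.** -/
theorem exists_self_cent [Finite W] {F : Type u} [Field F] [Fintype F] {q : ℕ} (hq : Fintype.card F = q)
    {B : Fin l → Fin l → ℤ} (hB : InvC D l 1 B) (w : W) {r : ℕ} [Fact r.Prime] (hrq : ¬ r ∣ q)
    {ι : Type*} [Finite ι] (f : ι → (Fin l → ℤ) →+ ZMod r)
    (hf : ∀ i x, f i (rep cs hp.isCartan w x) = (q : ZMod r) * f i x)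
    (h1 : ∀ a, IsRoot cs hp.isCartan a → ∃ i, f i a ≠ 0)
    (h2 : ∀ v : W, (∀ i, ∀ a, IsRoot cs hp.isCartan a → f i (rep cs hp.isCartan v a) = f i a) → v = 1)
    (h3 : ∀ φ : (Fin l → ℤ) → AlgebraicClosure F, IsMC φ → (∀ x, φ (rep cs hp.isCartan w x) = φ x ^ q) →
      ∀ x, φ x ^ r = 1) (P : Sylow r ↥(D.group F)) :
    ∀ x ∈ Subgroup.centralizer ((P : Subgroup ↥(D.group F)) : Set ↥(D.group F)), ∃ m : ℕ, x ^ r ^ m = 1 := by
  have hrp : r.Prime := Fact.out
  obtain ⟨p, e, hpF, hpc, hpk, he, rfl, hk⟩ := exists_closure hq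
  let k := AlgebraicClosure F
  let f0 : F →+* k := algebraMap F k
  let hN : NSys M (TT D k) (nc hp k) := nsys_of_locFin hp cs hk p
  have hFr := fr_phi (k := k) (p := p) (e := e) hp cs
  obtain ⟨n, hn⟩ := exists_rp cs hN w
  obtain ⟨z, hz⟩ := lang_all hp cs he (isFrob_phi (D := D) (k := k) (p := p) (e := e)) hFr 1 n
  rw [map_one, one_mul] at hz
  -- the root of unity
  have hrk : ((r : ℕ) : k) ≠ 0 := by
    intro h0
    rw [CharP.cast_eq_zero_iff k p] at h0
    have h4 := (Nat.prime_dvd_prime_iff_eq hpF.out hrp).1 h0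
    exact hrq (h4 ▸ dvd_pow_self p he.ne')
  have hne : NeZero ((r : ℕ) : k) := ⟨hrk⟩
  obtain ⟨ζ, hζ⟩ := HasEnoughRootsOfUnity.exists_primitiveRoot k r
  have hζ1 : ζ ^ r = 1 := hζ.pow_eq_one
  have hval : ∀ a : ZMod r, ζ ^ a.val = 1 → a = 0 := by
    intro a ha
    have h4 := hζ.dvd_of_pow_eq_one _ ha
    have h5 := Nat.eq_zero_of_dvd_of_lt h4 (ZMod.val_lt a)
    exact (ZMod.val_eq_zero a).1 h5
  have hinj : ∀ a b : ZMod r, ζ ^ a.val = ζ ^ b.val → a = b := by
    intro a b hab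
    exact ZMod.val_injective r (hζ.pow_inj (ZMod.val_lt a) (ZMod.val_lt b) hab)
  -- the elements of the torus
  choose t ht htc using fun i => exists_cX (k := k) hp hB one_ne_zero (isMC_val hζ1 (f i))
    (fun j => ⟨ζ ^ (f i (sr j)).val, pow_one _⟩)
  have hτ : ∀ i, n * H129.TorusUntw.phi D k p e (t i) * n⁻¹ = t i := by
    intro i
    rw [tau_iff hp cs hk isFrob_phi hFr hn (ht i)]
    intro x
    rw [theta_apply, htc, htc]
    show ζ ^ (f i (rep cs hp.isCartan w x)).val = _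
    rw [hf, pow_val hζ1]
  have hfix : ∀ i, ∃ g : ↥(D.group F), emb hp.inList f0 g = z * t i * z⁻¹ := fun i =>
    fix_range hp cs f0 hq hB one_ne_zero (fun a => ⟨a, pow_one a⟩) (conj_fixed hz (hτ i) (Subgroup.mem_zpowers _))
  choose g hg using hfix
  -- the centralizer of the family
  have key : ∀ x : ↥(D.group F), (∀ i, x * g i = g i * x) → x ^ r = 1 := by
    intro x hx
    set c := z⁻¹ * emb hp.inList f0 x * z with hc
    have hcT : c ∈ TT D k := by
      refine mem_TT_of_comm_fam hp cs hk p ht (fun a ha => ?_) (fun v hv => ?_) (fun i => ?_)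
      · obtain ⟨i, hi⟩ := h1 a ha
        refine ⟨i, fun h4 => hi (hval _ ?_)⟩
        rw [htc] at h4
        exact h4
      · refine h2 v fun i a ha => hinj _ _ ?_
        have h4 := hv i a ha
        rw [htc, htc] at h4
        exact h4
      · have h4 : t i = z⁻¹ * emb hp.inList f0 (g i) * z := by rw [hg i]; group
        rw [h4, hc]
        have h5 := congrArg (emb hp.inList f0) (hx i)
        rw [map_mul, map_mul] at h5
        calc z⁻¹ * emb hp.inList f0 x * z * (z⁻¹ * emb hp.inList f0 (g i) * z)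
            = z⁻¹ * (emb hp.inList f0 x * emb hp.inList f0 (g i)) * z := by group
          _ = z⁻¹ * (emb hp.inList f0 (g i) * emb hp.inList f0 x) * z := by rw [h5]
          _ = _ := by group
    have hcτ : n * H129.TorusUntw.phi D k p e c * n⁻¹ = c := by
      rw [hc, map_mul, map_mul, map_inv, phi_emb hp f0 hq, hz]
      group
    have h4 := (tau_iff hp cs hk isFrob_phi hFr hn hcT).1 hcτ
    have h5 := h3 (cX hp c) (isMC_cX hp hcT) (fun x => by
      have h6 := h4 x
      rw [theta_apply] at h6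
      exact h6)
    have h6 : c ^ r = 1 := by
      refine cX_inj hp (pow_mem hcT r) (one_mem _) fun i => ?_
      rw [cX_pow hp hcT, h5, cX_one]
    apply emb_injective hp.inList f0
    rw [map_pow, map_one]
    have h7 : emb hp.inList f0 x = z * c * z⁻¹ := by rw [hc]; group
    rw [h7, conj_pow, h6]
    group
  have hgc : ∀ i j, g i * g j = g j * g i := by
    intro i j
    apply emb_injective hp.inList f0
    rw [map_mul, map_mul, hg, hg]
    calc z * t i * z⁻¹ * (z * t j * z⁻¹) = z * (t i * t j) * z⁻¹ := by group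
      _ = z * (t j * t i) * z⁻¹ := by rw [TT_comm hp (ht i) (ht j)]
      _ = _ := by group
  have hC : IsPGroup r (Subgroup.centralizer (Set.range g)) := by
    rintro ⟨x, hx⟩
    refine ⟨1, Subtype.ext ?_⟩
    show x ^ r ^ 1 = 1
    rw [pow_one]
    exact key x fun i => (Subgroup.mem_centralizer_iff.1 hx (g i) ⟨i, rfl⟩).symm
  obtain ⟨R, hR⟩ := hC.exists_le_sylow
  obtain ⟨a, ha⟩ := MulAction.exists_smul_eq ↥(D.group F) R P
  intro x hx
  refine ⟨1, ?_⟩
  rw [pow_one]
  have h4 : (a⁻¹ * x * a) ^ r = 1 := by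
    refine key _ fun i => ?_
    have h5 : g i ∈ (R : Subgroup ↥(D.group F)) := by
      refine hR (Subgroup.mem_centralizer_iff.2 ?_)
      rintro _ ⟨j, rfl⟩
      exact hgc j i
    have h6 : a * g i * a⁻¹ ∈ (P : Subgroup ↥(D.group F)) := by
      rw [← ha, Sylow.coe_subgroup_smul]
      exact Subgroup.smul_mem_pointwise_smul (g i) (MulAut.conj a) _ h5
    have h7 := Subgroup.mem_centralizer_iff.1 hx _ h6
    calc a⁻¹ * x * a * g i = a⁻¹ * (x * (a * g i * a⁻¹)) * a := by group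
      _ = a⁻¹ * (a * g i * a⁻¹ * x) * a := by rw [h7]
      _ = g i * (a⁻¹ * x * a) := by group
  have h8 : x = a * (a⁻¹ * x * a) * a⁻¹ := by group
  rw [h8, conj_pow, h4]
  group

end Cfsg.Agent.H531.EP.TorFam
end

-- part: H531/EP/F42
section
set_option linter.all false
open scoped Cfsg.Agent.FastGrp

/-!
# S4929: the row of `F₄(2)` (helper531)

* `cent_three`, `cent_five`, `cent_seven` : the centralizer of a Sylow `r`-subgroup of `F₄(2)` is an `r`-group, `r = 3, 5, 7`;
* `row_f42` : the row of S4929; `r = 13, 17` : cyclic Sylow subgroups, inverted in `F₄(2)`.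
-/

set_option autoImplicit false
set_option linter.unusedSectionVars false

namespace Cfsg.Agent.H531.EP

open CoxeterSystem Cfsg Cfsg.Lie Cfsg.Lie.ChevalleyDatum
open Cfsg.Agent.ChevalleyStructure Cfsg.Agent.ChevalleyStructure.Elts Cfsg.Agent.ChevalleyStructure.CoxeterGeom
  Cfsg.Agent.ChevalleyStructure.CoxeterGeomTypes Cfsg.Agent.ChevalleyStructure.NPerm
open Cfsg.Agent.Tits.Roots Cfsg.Agent.Tits.Core Cfsg.Agent.Nodes Cfsg.Agent.Nodes.Reps Cfsg.Agent.Nodes.BNOf
  Cfsg.Agent.Nodes.RGDChev Cfsg.Agent.Nodes.Bruhat Cfsg.Agent.Nodes.SubComb Cfsg.Agent.Nodes.Coroot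
open Cfsg.Agent.KFacts.RgdField Cfsg.Agent.KFacts.RgdChevCoord Cfsg.Agent.BpExc.TorCent Cfsg.Agent.BpExc.TorChev
open Cfsg.Agent.BpExc Cfsg.Agent.H129.TorusChar Cfsg.Agent.H130.WeylCk Cfsg.Agent.H130.WeylTab Cfsg.Agent.H720.RowsNeg
open Cfsg.Agent.Characters.Core Cfsg.Agent.H892.EP

universe u

/-- the quadratic form of the root lattice -/
def nm (x : Fin 4 → ℤ) : ℤ :=
  x 0 ^ 2 + x 1 ^ 2 + 2 * x 2 ^ 2 + 2 * x 3 ^ 2 - x 0 * x 1 - 2 * (x 1 * x 2) - 2 * (x 2 * x 3)

/-- the linear form with coefficients `c` -/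
def fn (r : ℕ) (c : Fin 4 → ℤ) : (Fin 4 → ℤ) →+ ZMod r :=
  AddMonoidHom.mk' (fun x => ((∑ j, c j * x j : ℤ) : ZMod r)) fun x y => by
    rw [← Int.cast_add, ← Finset.sum_add_distrib]
    congr 1
    exact Finset.sum_congr rfl fun j _ => by rw [Pi.add_apply, mul_add]

theorem fn_apply (r : ℕ) (c x : Fin 4 → ℤ) : fn r c x = ((∑ j, c j * x j : ℤ) : ZMod r) := rfl

theorem fn_zero_iff (r : ℕ) (c x : Fin 4 → ℤ) : fn r c x = 0 ↔ (r : ℤ) ∣ ∑ j, c j * x j := by
  rw [fn_apply, ZMod.intCast_zmod_eq_zero_iff_dvd]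

section Nm

variable {W : Type*} [Group W] (cs : CoxeterSystem CoxeterMatrix.F₄ W) (hp : IsType chevF4 4 CoxeterMatrix.F₄)

theorem nm_refl (i : Fin 4) (x : Fin 4 → ℤ) : nm (refl (cartanOf chevF4 4) i x) = nm x := by
  have hA : ∀ i j : Fin 4, cartanOf chevF4 4 i j = (alF4.getD i []).getD j 0 := fun i j => (lists_F4 i).2 j
  rw [refl_apply]
  unfold nm pairing
  simp only [Fin.sum_univ_four, hA]
  fin_cases i <;> simp [alF4] <;> ring

theorem nm_rep (w : W) (x : Fin 4 → ℤ) : nm (rep cs hp.isCartan w x) = nm x := by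
  obtain ⟨ω, rfl⟩ := cs.wordProd_surjective w
  induction ω with
  | nil => rw [CoxeterSystem.wordProd_nil, map_one, Module.End.one_apply]
  | cons i ω ih => rw [CoxeterSystem.wordProd_cons, rep_mul_apply, rep_simple, nm_refl, ih]

end Nm

/-- the check of the certificates -/
def Ck (r : ℕ) (L : List (Fin 4)) (n : ℕ) {m : ℕ} (c : Fin m → Fin 4 → ℤ) : Prop :=
  (∀ i : Fin m, ∀ j : Fin 4, (r : ℤ) ∣ ∑ s, c i s * toFn 4 (acn alF4 L n (bas 4 j)) s - 2 * c i j) ∧
  (∀ a < 48, ∃ i : Fin m, ¬ (r : ℤ) ∣ ∑ s, c i s * vec chevF4 4 a s) ∧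
  ∀ a < 48, ∀ j : Fin 4, (∀ i : Fin m, (r : ℤ) ∣ ∑ s, c i s * vec chevF4 4 a s - c i j) →
    nm (vec chevF4 4 a) = nm (Pi.single j 1) → vec chevF4 4 a = Pi.single j 1

instance (r : ℕ) (L : List (Fin 4)) (n : ℕ) {m : ℕ} (c : Fin m → Fin 4 → ℤ) : Decidable (Ck r L n c) := by
  unfold Ck; infer_instance

theorem ck_three : Ck 3 [0, 1, 2, 3] 6 ![![1, 0, 0, 0], ![0, 1, 0, 0], ![0, 0, 1, 0], ![0, 0, 0, 1]] := by
  decide +kernel

theorem ck_five : Ck 5 [0, 1, 2, 3] 3 ![![0, 1, 1, 2], ![1, 0, 0, 1]] := by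
  decide +kernel

theorem ck_seven : Ck 7 [0, 1, 2, 3] 4 ![![0, 1, 6, 2], ![1, 0, 2, 4]] := by
  decide +kernel

section Cent

variable {W : Type*} [Group W] [Finite W] (cs : CoxeterSystem CoxeterMatrix.F₄ W)
  (hp : IsType chevF4 4 CoxeterMatrix.F₄) {F : Type u} [Field F] [Fintype F] (hF : Fintype.card F = 2)

theorem ext_sr {A : Type*} [AddCommGroup A] {f g : (Fin 4 → ℤ) →+ A} (h : ∀ i, f (sr i) = g (sr i)) (x : Fin 4 → ℤ) :
    f x = g x := by
  rw [IsMC.eq_sum_sr x, map_sum, map_sum]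
  refine Finset.sum_congr rfl fun i _ => ?_
  rw [map_zsmul, map_zsmul, h i]

include hF

theorem cent_of_ck {r : ℕ} [Fact r.Prime] (h2 : ¬ r ∣ 2) {L : List (Fin 4)} {n m : ℕ} {c : Fin m → Fin 4 → ℤ}
    (hck : Ck r L n c)
    (h3 : ∀ φ : (Fin 4 → ℤ) → AlgebraicClosure F, IsMC φ →
      (∀ x, φ (rep cs hp.isCartan (cs.wordProd L ^ n) x) = φ x ^ 2) → ∀ x, φ x ^ r = 1)
    (P : Sylow r ↥(chevF4.group F)) :
    ∀ x ∈ Subgroup.centralizer ((P : Subgroup ↥(chevF4.group F)) : Set ↥(chevF4.group F)), ∃ m : ℕ, x ^ r ^ m = 1 := by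
  obtain ⟨k1, k2, k3⟩ := hck
  have h48 : chevF4.nroots = 48 := rfl
  refine TorFam.exists_self_cent hp cs hF invC_F4 (cs.wordProd L ^ n) h2 (fun i => fn r (c i)) (fun i x => ?_)
    (fun a ha => ?_) (fun v hv => ?_) h3 P
  · refine ext_sr (f := (fn r (c i)).comp (rep cs hp.isCartan (cs.wordProd L ^ n)).toAddMonoidHom)
      (g := (AddMonoidHom.mulLeft ((2 : ℕ) : ZMod r)).comp (fn r (c i))) (fun j => ?_) x
    show fn r (c i) (rep cs hp.isCartan (cs.wordProd L ^ n) (sr j)) = ((2 : ℕ) : ZMod r) * fn r (c i) (sr j)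
    rw [rep_word lists_F4 cs hp.isCartan L n j, fn_apply, fn_apply]
    have h5 := k1 i j
    have h6 : ∑ s, c i s * (sr j : Fin 4 → ℤ) s = c i j := by
      rw [Finset.sum_eq_single j]
      · rw [sr_self, mul_one]
      · intro b _ hb
        rw [sr_ne hb, mul_zero]
      · intro hj
        exact absurd (Finset.mem_univ j) hj
    rw [h6]
    have h7 := (ZMod.intCast_zmod_eq_zero_iff_dvd _ r).2 h5
    rw [Int.cast_sub, sub_eq_zero] at h7
    rw [h7]
    push_cast
    rfl
  · obtain ⟨b, hb, rfl⟩ := (isRoot_iff hp cs a).1 ha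
    obtain ⟨i, hi⟩ := k2 b (h48 ▸ hb)
    exact ⟨i, fun h5 => hi ((fn_zero_iff r _ _).1 h5)⟩
  · refine CoxeterGeom.eq_one_of_fix cs hp.isCartan v fun j => ?_
    obtain ⟨b, hb, hbv⟩ := (isRoot_iff hp cs _).1 ((isRoot_sr cs hp.isCartan j).act v)
    have hsr : (sr j : Fin 4 → ℤ) = Pi.single j 1 := rfl
    rw [hsr] at hbv
    rw [← hbv]
    refine k3 b (h48 ▸ hb) j (fun i => ?_) ?_
    · have h5 := hv i _ (isRoot_sr cs hp.isCartan j)
      rw [hsr, ← hbv, fn_apply, fn_apply, ← sub_eq_zero, ← Int.cast_sub, ZMod.intCast_zmod_eq_zero_iff_dvd] at h5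
      have h6 : ∑ s, c i s * (Pi.single j 1 : Fin 4 → ℤ) s = c i j := by
        rw [Finset.sum_eq_single j]
        · rw [Pi.single_eq_same, mul_one]
        · intro b _ hb
          rw [Pi.single_eq_of_ne hb, mul_zero]
        · intro hj
          exact absurd (Finset.mem_univ j) hj
      rwa [h6] at h5
    · rw [hbv, nm_rep cs hp]

theorem cent_three (P : Sylow 3 ↥(chevF4.group F)) :
    ∀ x ∈ Subgroup.centralizer ((P : Subgroup ↥(chevF4.group F)) : Set ↥(chevF4.group F)), ∃ m : ℕ, x ^ 3 ^ m = 1 := by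
  have hp : IsType chevF4 4 CoxeterMatrix.F₄ := by simp [IsType, typeList]
  have cs := CoxeterMatrix.F₄.toCoxeterSystem
  have : Finite CoxeterMatrix.F₄.Group := finite_W hp cs
  refine cent_of_ck cs hp hF (by norm_num) ck_three (fun φ hφ h x => ?_) P
  have h1 : rep cs hp.isCartan (cs.wordProd [0, 1, 2, 3] ^ 6) x = -x := by
    refine ext_sr (f := (rep cs hp.isCartan (cs.wordProd [0, 1, 2, 3] ^ 6)).toAddMonoidHom)
      (g := -AddMonoidHom.id _) (fun j => ?_) x
    show rep cs hp.isCartan (cs.wordProd [0, 1, 2, 3] ^ 6) (sr j) = -(sr j)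
    rw [rep_word lists_F4 cs hp.isCartan _ _ j]
    revert j
    decide +kernel
  have h2 := h x
  rw [h1] at h2
  rw [pow_succ, ← h2, mul_comm]
  exact hφ.neg_mul x

theorem cent_five (P : Sylow 5 ↥(chevF4.group F)) :
    ∀ x ∈ Subgroup.centralizer ((P : Subgroup ↥(chevF4.group F)) : Set ↥(chevF4.group F)), ∃ m : ℕ, x ^ 5 ^ m = 1 := by
  have hp : IsType chevF4 4 CoxeterMatrix.F₄ := by simp [IsType, typeList]
  have cs := CoxeterMatrix.F₄.toCoxeterSystem
  have : Finite CoxeterMatrix.F₄.Group := finite_W hp cs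
  refine cent_of_ck cs hp hF (by norm_num) ck_five (fun φ hφ h x => ?_) P
  have h1 : rep cs hp.isCartan (cs.wordProd [0, 1, 2, 3] ^ 3) (rep cs hp.isCartan (cs.wordProd [0, 1, 2, 3] ^ 3) x) =
      -x := by
    rw [← rep_mul_apply, ← pow_add]
    refine ext_sr (f := (rep cs hp.isCartan (cs.wordProd [0, 1, 2, 3] ^ (3 + 3))).toAddMonoidHom)
      (g := -AddMonoidHom.id _) (fun j => ?_) x
    show rep cs hp.isCartan (cs.wordProd [0, 1, 2, 3] ^ (3 + 3)) (sr j) = -(sr j)
    rw [rep_word lists_F4 cs hp.isCartan _ _ j]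
    revert j
    decide +kernel
  have h2 := h (rep cs hp.isCartan (cs.wordProd [0, 1, 2, 3] ^ 3) x)
  rw [h1, h x, ← pow_mul] at h2
  have h3 := hφ.neg_mul x
  rw [h2, ← pow_succ'] at h3
  exact h3

theorem cent_seven (P : Sylow 7 ↥(chevF4.group F)) :
    ∀ x ∈ Subgroup.centralizer ((P : Subgroup ↥(chevF4.group F)) : Set ↥(chevF4.group F)), ∃ m : ℕ, x ^ 7 ^ m = 1 := by
  have hp : IsType chevF4 4 CoxeterMatrix.F₄ := by simp [IsType, typeList]
  have cs := CoxeterMatrix.F₄.toCoxeterSystem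
  have : Finite CoxeterMatrix.F₄.Group := finite_W hp cs
  refine cent_of_ck cs hp hF (by norm_num) ck_seven (fun φ hφ h x => ?_) P
  have h1 : rep cs hp.isCartan (cs.wordProd [0, 1, 2, 3] ^ 4) (rep cs hp.isCartan (cs.wordProd [0, 1, 2, 3] ^ 4) x) +
      rep cs hp.isCartan (cs.wordProd [0, 1, 2, 3] ^ 4) x + x = 0 := by
    rw [← rep_mul_apply, ← pow_add]
    refine ext_sr (f := (rep cs hp.isCartan (cs.wordProd [0, 1, 2, 3] ^ (4 + 4))).toAddMonoidHom +
      (rep cs hp.isCartan (cs.wordProd [0, 1, 2, 3] ^ 4)).toAddMonoidHom + AddMonoidHom.id _)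
      (g := 0) (fun j => ?_) x
    show rep cs hp.isCartan (cs.wordProd [0, 1, 2, 3] ^ (4 + 4)) (sr j) +
      rep cs hp.isCartan (cs.wordProd [0, 1, 2, 3] ^ 4) (sr j) + sr j = 0
    rw [rep_word lists_F4 cs hp.isCartan _ _ j, rep_word lists_F4 cs hp.isCartan _ _ j]
    revert j
    decide +kernel
  have h2 := h (rep cs hp.isCartan (cs.wordProd [0, 1, 2, 3] ^ 4) x)
  have h3 := congrArg φ h1
  rw [hφ.add, hφ.add, h2, h x, hφ.zero, ← pow_mul, ← pow_add, ← pow_succ] at h3
  exact h3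

end Cent

/-- the Steinberg character -/
theorem exists_st {F : Type u} [Field F] [Fintype F] (hF : Fintype.card F = 2) :
    ∃ χ : IrrCharacter ↥(chevF4.group F), ∃ e : ℕ, 0 < e ∧ charDegree (χ : ↥(chevF4.group F) → ℂ) = 2 ^ e := by
  have hp2 : Fact (Nat.Prime 2) := ⟨Nat.prime_two⟩
  have hch : CharP F 2 := by
    obtain ⟨p, hp'⟩ := CharP.exists F
    have h1 : Fact p.Prime := ⟨CharP.char_is_prime F p⟩
    obtain ⟨n, h2, h3⟩ := FiniteField.card F p
    rw [hF] at h3
    have h4 : p ∣ 2 := h3 ▸ dvd_pow_self p n.ne_zero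
    rwa [(Nat.prime_dvd_prime_iff_eq h2 Nat.prime_two).1 h4] at hp'
  have hs : IsSimpleGroup ↥(chevF4.group F) := (Cfsg.Agent.S1054.result chevF4 (by simp)).1
  have hp : IsType chevF4 4 CoxeterMatrix.F₄ := by simp [IsType, typeList]
  have hW := finite_W hp CoxeterMatrix.F₄.toCoxeterSystem
  have R := rgd (K := F) hp CoxeterMatrix.F₄.toCoxeterSystem 2
  obtain ⟨χ, hχ, hst⟩ := H163.Steinberg.exists_irr_of_hasSplit (FixBN.SplitRGD.hasSplit_of_rgd Nat.prime_two R (by
    rw [eq_top_iff, ← G1_eq_top hp CoxeterMatrix.F₄.toCoxeterSystem]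
    exact RGDLib.rgd_G1_le R))
  have Q : Sylow 2 ↥(chevF4.group F) := default
  have k1 := (hst Q).1
  obtain ⟨e, he⟩ := (IsPGroup.iff_card (p := 2)).1 Q.2
  have k2 : charDegree χ = Nat.card Q := by
    have h1 := Cfsg.Agent.Blocks.Basic.irr_one_eq_charDegree hχ
    rw [k1] at h1
    exact_mod_cast h1.symm
  refine ⟨⟨χ, hχ⟩, e, ?_, k2.trans he⟩
  rcases Nat.eq_zero_or_pos e with rfl | h
  · exfalso
    rw [pow_zero] at he
    have h2 : 2 ∣ Nat.card ↥(chevF4.group F) := by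
      rw [Cfsg.Agent.S1062.result hF]
      norm_num
    have h3 := Q.dvd_card_of_dvd_card h2
    rw [he] at h3
    norm_num at h3
  · exact h

/-- the order is divisible by the first power of `r` only -/
theorem cyclic_of {G : Type*} [Group G] [Finite G] {r : ℕ} [Fact r.Prime] (h : ¬ r ^ 2 ∣ Nat.card G) (P : Sylow r G) :
    IsCyclic (P : Subgroup G) := by
  obtain ⟨k, hk⟩ := P.isPGroup'.exists_card_eq
  have h1 : r ^ k ∣ Nat.card G := by
    rw [← hk]
    exact Subgroup.card_subgroup_dvd_card _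
  have h2 : k < 2 := by
    by_contra hk2
    exact h ((pow_dvd_pow r (not_lt.1 hk2)).trans h1)
  interval_cases k
  · have := (Nat.card_eq_one_iff_unique.1 hk).1
    exact isCyclic_of_subsingleton
  · exact isCyclic_of_prime_card (by rw [hk, pow_one])

/-- `r = 13, 17` -/
theorem evAt_cyc {F : Type} [Field F] [Fintype F] (hF : Fintype.card F = 2) {r : ℕ} [hr : Fact r.Prime] (hr2 : r ≠ 2)
    (hW : ¬ r ∣ [2, 6, 8, 12].prod) (hd : r ∣ Nat.card ↥(chevF4.group F)) (hs : ¬ r ^ 2 ∣ Nat.card ↥(chevF4.group F)) :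
    EvAt r ↥(chevF4.group F) := by
  obtain ⟨z, hz⟩ := exists_prime_orderOf_dvd_card' (G := ↥(chevF4.group F)) r hd
  refine evAt_of_real_cyclic hr2 (fun P => cyclic_of hs P) hz ?_
  have hz1 : IsPGroup r (Subgroup.zpowers z) := by
    refine IsPGroup.of_card (n := 1) ?_
    rw [Nat.card_zpowers, hz, pow_one]
  obtain ⟨P, hP⟩ := hz1.exists_le_sylow
  have h2 : ¬ r ∣ 2 := by
    intro h
    exact hr2 ((Nat.prime_dvd_prime_iff_eq hr.out Nat.prime_two).1 h)
  obtain ⟨y, hy⟩ := H720.SylInv.F4 hF h2 hW P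
  exact isConj_iff.2 ⟨y, hy z (hP (Subgroup.mem_zpowers z))⟩

/-- **The row of `F₄(2)`.** -/
theorem row_f42 : ∀ (F : Type) [Field F] [Fintype F], Fintype.card F = 2 → Ev ↥(Lie.chevF4.group F) := by
  intro F _ _ hF p hp hp2 hd
  have hpF : Fact p.Prime := ⟨hp⟩
  have hcard : Nat.card ↥(chevF4.group F) = 2 ^ 24 * 3 ^ 6 * 5 ^ 2 * 7 ^ 2 * 13 * 17 := by
    rw [Cfsg.Agent.S1062.result hF]
    norm_num
  obtain ⟨χ, e, he, hχ⟩ := exists_st hF
  have hdeg : ∀ r : ℕ, r.Prime → r ≠ 2 → ¬ r ∣ charDegree (χ : ↥(chevF4.group F) → ℂ) := by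
    intro r hr hr2 h
    rw [hχ] at h
    exact hr2 ((Nat.prime_dvd_prime_iff_eq hr Nat.prime_two).1 (hr.dvd_of_dvd_pow h))
  have heven : 2 ∣ charDegree (χ : ↥(chevF4.group F) → ℂ) := by
    rw [hχ]
    exact dvd_pow_self 2 he.ne'
  have hd' := hd
  rw [hcard] at hd'
  have h2 : p = 2 ∨ p = 3 ∨ p = 5 ∨ p = 7 ∨ p = 13 ∨ p = 17 := by
    rw [hp.dvd_mul, hp.dvd_mul, hp.dvd_mul, hp.dvd_mul, hp.dvd_mul] at hd'
    rcases hd' with ((((h | h) | h) | h) | h) | h
    · exact Or.inl ((Nat.prime_dvd_prime_iff_eq hp Nat.prime_two).1 (hp.dvd_of_dvd_pow h))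
    · exact Or.inr (Or.inl ((Nat.prime_dvd_prime_iff_eq hp Nat.prime_three).1 (hp.dvd_of_dvd_pow h)))
    · exact Or.inr (Or.inr (Or.inl ((Nat.prime_dvd_prime_iff_eq hp Nat.prime_five).1 (hp.dvd_of_dvd_pow h))))
    · exact Or.inr (Or.inr (Or.inr (Or.inl ((Nat.prime_dvd_prime_iff_eq hp Nat.prime_seven).1 (hp.dvd_of_dvd_pow h)))))
    · exact Or.inr (Or.inr (Or.inr (Or.inr (Or.inl ((Nat.prime_dvd_prime_iff_eq hp (by norm_num)).1 h)))))
    · exact Or.inr (Or.inr (Or.inr (Or.inr (Or.inr ((Nat.prime_dvd_prime_iff_eq hp (by norm_num)).1 h)))))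
  have P : Sylow p ↥(chevF4.group F) := default
  rcases h2 with rfl | rfl | rfl | rfl | rfl | rfl
  · exact absurd rfl hp2
  · exact H142.EP.evAt_of_centralizer P (cent_three hF P) χ heven (hdeg 3 hp hp2)
  · exact H142.EP.evAt_of_centralizer P (cent_five hF P) χ heven (hdeg 5 hp hp2)
  · exact H142.EP.evAt_of_centralizer P (cent_seven hF P) χ heven (hdeg 7 hp hp2)
  · exact evAt_cyc hF hp2 (by norm_num) hd (by rw [hcard]; norm_num)
  · exact evAt_cyc hF hp2 (by norm_num) hd (by rw [hcard]; norm_num)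

end Cfsg.Agent.H531.EP

private theorem dce_cd50613480a8 : _root_.True := by
  try have : _root_.True := by simp only [_root_.Cfsg.Agent.H130.WeylTab.alF4.eq_1]
  exact _root_.True.intro
end
end

-- part: H592/EP/Fi23
section
set_option linter.all false
open scoped Cfsg.Agent.FastGrp

-- part: H592/EP/Ker
section
/-!
# S4929, `Fi₂₃` (helper592): the two constituents of the signed permutation character
-/

set_option autoImplicit false

namespace Cfsg.Agent.H592.EP

open Cfsg Equiv Cfsg.Agent.Characters.Core Cfsg.Agent.H690.Spor.RankThree Cfsg.Agent.H690.Spor.RankThree.R3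
open scoped ComplexConjugate

section Ker

variable {B X : Type*} [Group B] [Fintype X] [DecidableEq X]

theorem half_char (ρ : B →* Perm X) (l : Perm X) (hl : l * l = 1) (hc : ∀ g, Commute l (ρ g)) (E : X → X → ℂ)
    (hEE : ∀ x y, ∑ z, E x z * E z y = E x y) (hE : ∀ g x y, E (ρ g x) (ρ g y) = E x y)
    (hEl : ∀ x y, E (l x) (l y) = E x y) :
    IsCharacter B fun g => (∑ x, E x (ρ g x) - ∑ x, E x (l (ρ g x))) / 2 := by
  have hll : ∀ x, l (l x) = x := fun x => by
    rw [← Perm.mul_apply, hl]; rfl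
  have e1 : ∀ x y, ∑ z, E x (l z) * E z y = E x (l y) := by
    intro x y
    rw [← Equiv.sum_comp l (fun z => E x (l z) * E z y), ← hEE x (l y)]
    refine Finset.sum_congr rfl fun z _ => ?_
    rw [hll, ← hEl (l z) y, hll]
  have h1 := Cfsg.Agent.H651.isCharacter_sum_perm ρ (fun x y => (E x y - E x (l y)) / 2) (fun x y => ?_)
    (fun g x y => ?_)
  · convert h1 using 2 with g
    rw [← Finset.sum_div, Finset.sum_sub_distrib]
  · have e2 : ∀ z, (E x z - E x (l z)) / 2 * ((E z y - E z (l y)) / 2) =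
        4⁻¹ * (E x z * E z y) - 4⁻¹ * (E x z * E z (l y)) - 4⁻¹ * (E x (l z) * E z y) +
        4⁻¹ * (E x (l z) * E z (l y)) := fun z => by ring
    rw [Finset.sum_congr rfl fun z _ => e2 z, Finset.sum_add_distrib, Finset.sum_sub_distrib, Finset.sum_sub_distrib,
      ← Finset.mul_sum, ← Finset.mul_sum, ← Finset.mul_sum, ← Finset.mul_sum, hEE, hEE, e1, e1, hll]
    ring
  · have e3 : l (ρ g y) = ρ g (l y) := by
      rw [← Perm.mul_apply, (hc g).eq, Perm.mul_apply]
    rw [e3, hE, hE]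

theorem sum_ker {R : X → X → Prop} [DecidableRel R] {k : ℕ} {r s : ℂ} (hn : (Nat.card X : ℂ) ≠ 0) (σ : Perm X) :
    ∑ x, ker R k (Nat.card X) r s x (σ x) =
      (r - s)⁻¹ * (∑ x, adj R x (σ x) - s * (Nat.card {x // σ x = x} : ℂ) - (k - s)) := by
  have h1 : ∑ x : X, dia x (σ x) = (Nat.card {x // σ x = x} : ℂ) := by
    unfold dia
    rw [Finset.sum_boole, Nat.card_eq_fintype_card, ← Fintype.card_subtype]
    congr 1
    exact Fintype.card_congr (Equiv.subtypeEquivRight fun x => eq_comm)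
  unfold ker
  rw [← Finset.mul_sum, Finset.sum_sub_distrib, Finset.sum_sub_distrib, ← Finset.mul_sum, h1,
    Finset.sum_const, Finset.card_univ, ← Nat.card_eq_fintype_card, nsmul_eq_mul]
  congr 2
  field_simp

theorem split_chars [Finite B] {R : X → X → Prop} [DecidableRel R] {G' : Type*} [Group G'] [MulAction G' X] {k l' : ℕ}
    (h : R3 G' X R k l') {a b : ℕ} (hab : ∀ x y, ∑ z, adj R x z * adj R z y =
      (k - b : ℂ) * dia x y + (a - b : ℂ) * adj R x y + b) {r s : ℂ} (hrs : r ≠ s)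
    (h1 : r + s = a - b) (h2 : r * s = b - k) (hr0 : r ≠ 0) (hs0 : s ≠ 0)
    (ρ : B →* Perm X) (l : Perm X) (hl : l * l = 1) (hc : ∀ g, Commute l (ρ g))
    (hRρ : ∀ g x y, R (ρ g x) (ρ g y) ↔ R x y) (hRl : ∀ x y, R (l x) (l y) ↔ R x y) (hRx : ∀ x, ¬ R x (l x))
    {N : ℕ} (hN : Nat.card {x // l x = x} + N = Nat.card X) (hN0 : N ≠ 0)
    {m : ℕ} (hm : m ≤ 2)
    (hsum : ∀ [Fintype B], ∑ g, ((Nat.card {x // ρ g x = x} : ℤ) - Nat.card {x // l (ρ g x) = x}) ^ 2 =
      4 * Nat.card B * m) :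
    ∃ χ₁ χ₂ : IrrCharacter B, (χ₁ : B → ℂ) 1 = -s * N / (2 * (r - s)) ∧ (χ₂ : B → ℂ) 1 = r * N / (2 * (r - s)) ∧
      ∀ g, (χ₁ : B → ℂ) g + (χ₂ : B → ℂ) g =
        ((Nat.card {x // ρ g x = x} : ℂ) - Nat.card {x // l (ρ g x) = x}) / 2 := by
  have := Fintype.ofFinite B
  have hn := h.cardn
  have hd0 : r - s ≠ 0 := sub_ne_zero.2 hrs
  have hnC : (Nat.card X : ℂ) ≠ 0 := by
    have : Nat.card X ≠ 0 := by omega
    exact_mod_cast this
  have hker : ∀ (u v : ℂ) (τ : Perm X), (∀ x y, R (τ x) (τ y) ↔ R x y) → ∀ x y,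
      ker R k (Nat.card X) u v (τ x) (τ y) = ker R k (Nat.card X) u v x y := by
    intro u v τ hτ x y
    unfold ker adj dia
    simp only [hτ, τ.injective.eq_iff]
  have hchar : ∀ u v : ℂ, u ≠ v → u + v = a - b → u * v = b - k →
      IsCharacter B (fun g : B => (∑ x, ker R k (Nat.card X) u v x (ρ g x) -
        ∑ x, ker R k (Nat.card X) u v x (l (ρ g x))) / 2) := by
    intro u v huv h3 h4
    exact half_char ρ l hl hc _ (h.ker_mul hab huv h3 h4) (fun g => hker u v (ρ g) (hRρ g)) (hker u v l hRl)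
  have hc1 := hchar r s hrs h1 h2
  have hc2 := hchar s r hrs.symm (by rw [add_comm]; exact h1) (by rw [mul_comm]; exact h2)
  set θ₁ : B → ℂ := fun g : B => (∑ x, ker R k (Nat.card X) r s x (ρ g x) -
        ∑ x, ker R k (Nat.card X) r s x (l (ρ g x))) / 2 with hθ₁
  set θ₂ : B → ℂ := fun g : B => (∑ x, ker R k (Nat.card X) s r x (ρ g x) -
        ∑ x, ker R k (Nat.card X) s r x (l (ρ g x))) / 2 with hθ₂
  have hval : ∀ u v : ℂ, ∀ g : B, (∑ x, ker R k (Nat.card X) u v x (ρ g x) -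
        ∑ x, ker R k (Nat.card X) u v x (l (ρ g x))) / 2 =
      (u - v)⁻¹ * ((∑ x, adj R x (ρ g x) - ∑ x, adj R x (l (ρ g x))) -
        v * ((Nat.card {x // ρ g x = x} : ℂ) - Nat.card {x // l (ρ g x) = x})) / 2 := by
    intro u v g
    have e1 := sum_ker (R := R) (k := k) (r := u) (s := v) hnC (ρ g)
    have e2 := sum_ker (R := R) (k := k) (r := u) (s := v) hnC (l * ρ g)
    simp only [Perm.mul_apply] at e2
    rw [e1, e2]
    ring
  have h3 : (s - r)⁻¹ = -(r - s)⁻¹ := by rw [← neg_sub, inv_neg]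
  have h4 : (r - s)⁻¹ * (r - s) = 1 := inv_mul_cancel₀ hd0
  have hadd : ∀ g, θ₁ g + θ₂ g = ((Nat.card {x // ρ g x = x} : ℂ) - Nat.card {x // l (ρ g x) = x}) / 2 := by
    intro g
    rw [hθ₁, hθ₂]
    simp only [hval]
    rw [h3]
    linear_combination (((Nat.card {x // ρ g x = x} : ℂ) - Nat.card {x // l (ρ g x) = x}) / 2) * h4
  -- degrees
  have hfix : ((Nat.card {x // ρ 1 x = x} : ℂ) - Nat.card {x // l (ρ 1 x) = x}) = N := by
    have e1 : Nat.card {x : X // ρ 1 x = x} = Nat.card X := by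
      rw [map_one]
      exact Nat.card_congr (Equiv.subtypeUnivEquiv fun x => rfl)
    have e2 : Nat.card {x : X // l (ρ 1 x) = x} = Nat.card {x // l x = x} := by
      rw [map_one]
      rfl
    rw [e1, e2, ← hN]
    push_cast
    ring
  have hadj1 : ∑ x, adj R x (ρ 1 x) = 0 := by
    refine Finset.sum_eq_zero fun x _ => ?_
    unfold adj
    rw [map_one, Perm.one_apply, if_neg (h.irr x)]
  have hadj2 : ∑ x, adj R x (l (ρ 1 x)) = 0 := by
    refine Finset.sum_eq_zero fun x _ => ?_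
    unfold adj
    rw [map_one, Perm.one_apply, if_neg (hRx x)]
  have hdeg1 : θ₁ 1 = -s * N / (2 * (r - s)) := by
    rw [hθ₁]
    simp only [hval]
    rw [hadj1, hadj2, hfix]
    field_simp
    ring
  have hdeg2 : θ₂ 1 = r * N / (2 * (r - s)) := by
    rw [hθ₂]
    simp only [hval]
    rw [hadj1, hadj2, hfix, h3]
    field_simp
    ring
  have hNC : (N : ℂ) ≠ 0 := by exact_mod_cast hN0
  have hne1 : θ₁ 1 ≠ 0 := by
    rw [hdeg1]
    exact div_ne_zero (mul_ne_zero (neg_ne_zero.2 hs0) hNC) (mul_ne_zero two_ne_zero hd0)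
  have hne2 : θ₂ 1 ≠ 0 := by
    rw [hdeg2]
    exact div_ne_zero (mul_ne_zero hr0 hNC) (mul_ne_zero two_ne_zero hd0)
  -- the norm of the sum
  have hnorm : classInner (θ₁ + θ₂) (θ₁ + θ₂) = m := by
    have e1 : ∀ g, (θ₁ + θ₂) g * conj ((θ₁ + θ₂) g) =
        ((((Nat.card {x // ρ g x = x} : ℤ) - Nat.card {x // l (ρ g x) = x}) ^ 2 : ℤ) : ℂ) / 4 := by
      intro g
      rw [Pi.add_apply, hadd]
      rw [map_div₀, map_sub, Complex.conj_natCast, Complex.conj_natCast, Complex.conj_ofNat]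
      push_cast
      ring
    unfold classInner
    rw [Finset.sum_congr rfl fun g _ => e1 g, ← Finset.sum_div, ← Int.cast_sum, hsum]
    have e2 : (Nat.card B : ℂ) ≠ 0 := by exact_mod_cast Nat.card_pos.ne'
    push_cast
    field_simp
  rw [classInner_add_left, classInner_add_right, classInner_add_right] at hnorm
  obtain ⟨m11, hm11⟩ := classInner_isNat hc1 hc1
  obtain ⟨m12, hm12⟩ := classInner_isNat hc1 hc2
  obtain ⟨m21, hm21⟩ := classInner_isNat hc2 hc1
  obtain ⟨m22, hm22⟩ := classInner_isNat hc2 hc2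
  rw [hm11, hm12, hm21, hm22] at hnorm
  have hnormN : m11 + m12 + (m21 + m22) = m := by exact_mod_cast hnorm
  have h11 : m11 ≠ 0 := by
    rintro rfl
    have h5 := classInner_self_eq_zero (φ := θ₁) (by rw [hm11]; simp)
    rw [h5] at hne1
    exact hne1 rfl
  have h22 : m22 ≠ 0 := by
    rintro rfl
    have h5 := classInner_self_eq_zero (φ := θ₂) (by rw [hm22]; simp)
    rw [h5] at hne2
    exact hne2 rfl
  have hm1 : m11 = 1 := by omega
  have hm2 : m22 = 1 := by omega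
  have hi1 : IsIrrCharacter B θ₁ := isIrr_of_classInner_self hc1 (by rw [hm11, hm1]; simp)
  have hi2 : IsIrrCharacter B θ₂ := isIrr_of_classInner_self hc2 (by rw [hm22, hm2]; simp)
  exact ⟨⟨θ₁, hi1⟩, ⟨θ₂, hi2⟩, hdeg1, hdeg2, hadd⟩

end Ker

end Cfsg.Agent.H592.EP
end

-- part: H592/EP/NormSub
section
/-!
# S4929, `Fi₂₃` (helper592): restriction to the points moved by the involution
-/

set_option autoImplicit false

namespace Cfsg.Agent.H592.EP

open Equiv

section

variable {G X : Type*} [Group G]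

theorem moved {l σ : Perm X} (h : Commute l σ) {x : X} : l (σ x) ≠ σ x ↔ l x ≠ x := by
  rw [← Perm.mul_apply, h.eq, Perm.mul_apply]
  exact not_congr σ.injective.eq_iff

/-- the restriction to the moved points -/
def restr (l σ : Perm X) (h : Commute l σ) : Perm {x // l x ≠ x} where
  toFun y := ⟨σ y.1, (moved h).2 y.2⟩
  invFun y := ⟨σ⁻¹ y.1, (moved h.inv_right).2 y.2⟩
  left_inv y := Subtype.ext (σ.symm_apply_apply _)
  right_inv y := Subtype.ext (σ.apply_symm_apply _)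

theorem card_split [Finite X] (P Q : X → Prop) :
    Nat.card {x // P x} = Nat.card {x // P x ∧ Q x} + Nat.card {x // P x ∧ ¬ Q x} := by
  classical
  have := Fintype.ofFinite X
  rw [Nat.card_eq_fintype_card, Nat.card_eq_fintype_card, Nat.card_eq_fintype_card, Fintype.card_subtype,
    Fintype.card_subtype, Fintype.card_subtype, ← Finset.card_filter_add_card_filter_not Q (s := Finset.univ.filter P),
    Finset.filter_filter, Finset.filter_filter]

theorem fix_restr [Finite X] {l σ : Perm X} (h : Commute l σ) :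
    (Nat.card {x // σ x = x} : ℤ) - Nat.card {x // l (σ x) = x} =
      (Nat.card {y : {x // l x ≠ x} // restr l σ h y = y} : ℤ) -
        Nat.card {y : {x // l x ≠ x} // restr l l (Commute.refl l) (restr l σ h y) = y} := by
  rw [card_split (fun x => σ x = x) (fun x => l x = x), card_split (fun x => l (σ x) = x) (fun x => l x = x)]
  have e1 : Nat.card {x // σ x = x ∧ l x = x} = Nat.card {x // l (σ x) = x ∧ l x = x} := by
    refine Nat.card_congr (Equiv.subtypeEquivRight fun x => ?_)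
    constructor
    · rintro ⟨h1, h2⟩
      exact ⟨by rw [h1, h2], h2⟩
    · rintro ⟨h1, h2⟩
      refine ⟨?_, h2⟩
      rw [← Perm.mul_apply, h.eq, Perm.mul_apply, h2] at h1
      exact h1
  have e2 : Nat.card {x // σ x = x ∧ ¬ l x = x} = Nat.card {y : {x // l x ≠ x} // restr l σ h y = y} :=
    Nat.card_congr ⟨fun x => ⟨⟨x.1, x.2.2⟩, Subtype.ext x.2.1⟩, fun y => ⟨y.1.1, congrArg Subtype.val y.2, y.1.2⟩,
      fun _ => rfl, fun _ => rfl⟩
  have e3 : Nat.card {x // l (σ x) = x ∧ ¬ l x = x} =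
      Nat.card {y : {x // l x ≠ x} // restr l l (Commute.refl l) (restr l σ h y) = y} :=
    Nat.card_congr ⟨fun x => ⟨⟨x.1, x.2.2⟩, Subtype.ext x.2.1⟩, fun y => ⟨y.1.1, congrArg Subtype.val y.2, y.1.2⟩,
      fun _ => rfl, fun _ => rfl⟩
  rw [e1, e2, e3]
  push_cast
  ring

theorem norm_sum_sub [Fintype G] [Finite X] (ρ : G →* Perm X) (l : Perm X) (hl : l * l = 1) (hc : ∀ g, Commute l (ρ g))
    {n : ℕ} (y0 : X) (hy0 : l y0 ≠ y0) (x : Fin n → X) (hx : ∀ i, l (x i) ≠ x i)
    (hcov : ∀ y y', l y ≠ y → l y' ≠ y' → ∃ i, ∃ a b : ℤˣ, ∃ g, mu l hl a (ρ g y0) = y ∧ mu l hl b (ρ g (x i)) = y')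
    (hns : ∃ y y', l y ≠ y ∧ l y' ≠ y' ∧ ∃ g, (ρ g y = y ∧ l (ρ g y') = y') ∨ (l (ρ g y) = y ∧ ρ g y' = y')) :
    ∃ m : ℕ, m + 1 ≤ n ∧ ∑ g, ((Nat.card {x // ρ g x = x} : ℤ) - Nat.card {x // l (ρ g x) = x}) ^ 2 =
      4 * Nat.card G * m := by
  let ρY : G →* Perm {x // l x ≠ x} :=
    { toFun := fun g => restr l (ρ g) (hc g)
      map_one' := by
        ext y
        show ρ 1 y.1 = y.1
        rw [map_one]; rfl
      map_mul' := fun g h => by
        ext y
        show ρ (g * h) y.1 = ρ g (ρ h y.1)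
        rw [map_mul]; rfl }
  let lY : Perm {x // l x ≠ x} := restr l l (Commute.refl l)
  have hlY : lY * lY = 1 := by
    ext y
    show l (l y.1) = y.1
    rw [← Perm.mul_apply, hl]; rfl
  have hcY : ∀ g, Commute lY (ρY g) := by
    intro g
    show lY * ρY g = ρY g * lY
    ext y
    show l (ρ g y.1) = ρ g (l y.1)
    rw [← Perm.mul_apply, (hc g).eq, Perm.mul_apply]
  have hmu : ∀ (a : ℤˣ) (y : {x // l x ≠ x}), (mu lY hlY a y).1 = mu l hl a y.1 := by
    intro a y
    rcases Int.units_eq_one_or a with rfl | rfl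
    · rw [mu_one, mu_one]; rfl
    · rw [mu_neg, mu_neg]; rfl
  obtain ⟨m, hm, hs⟩ := norm_sum ρY lY hlY hcY (n := n) ⟨y0, hy0⟩ (fun i => ⟨x i, hx i⟩)
    (by
      rintro ⟨y, hy⟩ ⟨y', hy'⟩
      obtain ⟨i, a, b, g, h1, h2⟩ := hcov y y' hy hy'
      refine ⟨i, a, b, g, Subtype.ext ?_, Subtype.ext ?_⟩
      · rw [hmu]; exact h1
      · rw [hmu]; exact h2)
    (by
      obtain ⟨y, y', hy, hy', g, h⟩ := hns
      refine ⟨⟨y, hy⟩, ⟨y', hy'⟩, g, ?_⟩
      rcases h with ⟨h1, h2⟩ | ⟨h1, h2⟩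
      · exact Or.inl ⟨Subtype.ext h1, Subtype.ext h2⟩
      · exact Or.inr ⟨Subtype.ext h1, Subtype.ext h2⟩)
  refine ⟨m, hm, ?_⟩
  rw [← hs]
  refine Finset.sum_congr rfl fun g _ => ?_
  rw [fix_restr (hc g)]
  rfl

end

end Cfsg.Agent.H592.EP
end

-- part: H592/EP/FiChk
section
/-!
# S4929, `Fi₂₃` (helper592): kernel checks

* the number of the transpositions commuting with two given commuting transpositions is 3510;
* a word commuting with `l` and `k` which takes a transposition to its conjugate under `l`.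
-/

set_option autoImplicit false
set_option maxRecDepth 100000

namespace Cfsg.Agent.H592.EP.Fi

open Cfsg Cfsg.Agent.Lib.PermNet Cfsg.Agent.Lib.PermNetPt Cfsg.Agent.Lib.PermNetOrbit
open Cfsg.Agent.Fischer.Fi24RepDef Cfsg.Agent.Fischer.Fi24Rep
open Cfsg.Agent.Fischer.Fi24RepOrbData (UW)
open Cfsg.Agent.Fischer.Fi24RepOrb (UG)
open Cfsg.Agent.H30.FiE
open Cfsg.Agent.KFacts.FiTF.Pts
open Cfsg.Spor.Fi24 (Gen)

/-- a word taking the point 2 to 0 -/
def w2 : List Gen := [.k, .l, .a, .k, .b, .a, .c, .b]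

theorem chk_w2 : chkPt (nw w2 false) 2 0 = true := by decide +kernel

theorem pc_lam : seqB (M w2) (fun V => seqB (Nat.land UW V) fun W =>
    and (Nat.beq (pc 19 W) 3510) (Nat.beq (Nat.shiftRight W (Nat.pow 2 19)) 0)) = true := by decide +kernel

theorem lam_of {V W m : ℕ} (h : seqB V (fun V => seqB (Nat.land W V) fun W =>
    and (Nat.beq (pc 19 W) m) (Nat.beq (Nat.shiftRight W (Nat.pow 2 19)) 0)) = true) :
    {p : ℕ | (W &&& V).testBit p = true}.ncard = m := by
  rw [seqB_eq, seqB_eq, Bool.and_eq_true] at h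
  exact ncard_testBit h.2 h.1

theorem ncard_lam : {p : ℕ | Com 0 p ∧ Com p 2}.ncard = 3510 := by
  rw [← lam_of pc_lam]
  congr 1
  ext p
  rw [Set.mem_ofPred_eq, Set.mem_ofPred_eq]
  have h1 : (UW &&& M w2).testBit p = true ↔ Com 0 p ∧ Com p 2 := by
    rw [Nat.testBit_and, Bool.and_eq_true, UW_spec, M_spec chk_w2]
    exact and_congr_right fun _ => ⟨fun h => h.symm, fun h => h.symm⟩
  exact h1.symm

/-- the word in `b, …, j` -/
def ws : List Gen := [.e, .f, .c, .d, .e, .b, .c]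

theorem chk_s0 : chkPt (nw ws false) 0 0 = true := by decide +kernel

theorem chk_sk : chkPt (nw ws false) 307872 307872 = true := by decide +kernel

theorem chk_s : chkPt (nw ws false) 32833 32865 = true := by decide +kernel

theorem chk_l : chkPt (nw [.l] false) 32833 32865 = true := by decide +kernel

end Cfsg.Agent.H592.EP.Fi
end

-- part: H592/EP/FiGeo
section
/-!
# S4929, `Fi₂₃` (helper592): the transpositions of `Fi₂₄` not commuting with `l`
-/

set_option autoImplicit false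
set_option maxRecDepth 100000

namespace Cfsg.Agent.H592.EP.Fi

open Cfsg Equiv
open Cfsg.Agent.Lib.PermNet Cfsg.Agent.Lib.PermNetPt Cfsg.Agent.Lib.PermNetOrbit
open Cfsg.Agent.Fischer.Fi24RepDef Cfsg.Agent.Fischer.Fi24Rep
open Cfsg.Agent.Fischer.Fi24RepOrb (UG H orbR tbR)
open Cfsg.Agent.Fischer.Fi24RepOrbData (UR)
open Cfsg.Agent.R08 Cfsg.Agent.R08.FiTwentyFour
open Cfsg.Agent.KFacts.FiTF.Pts Cfsg.Agent.KFacts.FiTF.FixMask
open Cfsg.Spor (Fi24 Fi23)
open Cfsg.Spor.Fi24 (Gen)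

local notation "L" => Cfsg.Agent.R08.FiTwentyFour.L
local notation "Lt" => ((Cfsg.Agent.R08.FiTwentyFour.L : Set Cfsg.Spor.Fi24) : Type)

/-- the action of `Fi24` on the transpositions -/
noncomputable def cj : Fi24 →* Perm (L : Set Fi24) where
  toFun g :=
    { toFun := fun t => ⟨g * t.1 * g⁻¹, FiTwentyFour.conj t.2 g⟩
      invFun := fun t => ⟨g⁻¹ * t.1 * g, by
        have := FiTwentyFour.conj t.2 g⁻¹
        rwa [inv_inv] at this⟩
      left_inv := fun t => Subtype.ext (by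
        show g⁻¹ * (g * t.1 * g⁻¹) * g = t.1
        group)
      right_inv := fun t => Subtype.ext (by
        show g * (g⁻¹ * t.1 * g) * g⁻¹ = t.1
        group) }
  map_one' := Equiv.ext fun t => Subtype.ext (by
    show 1 * t.1 * 1⁻¹ = t.1
    group)
  map_mul' g h := Equiv.ext fun t => Subtype.ext (by
    show g * h * t.1 * (g * h)⁻¹ = g * (h * t.1 * h⁻¹) * g⁻¹
    group)

theorem cj_coe (g : Fi24) (t : (L : Set Fi24)) : (cj g t : Fi24) = g * t * g⁻¹ := rfl

theorem ll : gen .l * gen .l = 1 := FiTwentyFour.sq (gen_mem_L .l)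

/-- conjugation with `l` -/
noncomputable def lam : Perm (L : Set Fi24) := cj (gen .l)

theorem lam_sq : lam * lam = 1 := by
  unfold lam
  rw [← map_mul, ll, map_one]

/-- the action of `Fi23` -/
noncomputable def ρ : Fi23 →* Perm (L : Set Fi24) := cj.comp facts.phi

theorem ρ_apply (f : Fi23) : ρ f = cj (facts.phi f) := rfl

theorem comm_phi (f : Fi23) : Commute (gen .l) (facts.phi f) := (facts.phi_comm f).symm

theorem lam_comm (f : Fi23) : Commute lam (ρ f) := by
  show cj (gen .l) * cj (facts.phi f) = cj (facts.phi f) * cj (gen .l)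
  rw [← map_mul, ← map_mul, (comm_phi f).eq]

theorem cj_fix {g : Fi24} {t : (L : Set Fi24)} : cj g t = t ↔ Commute g t := by
  rw [Subtype.ext_iff, cj_coe, mul_inv_eq_iff_eq_mul]
  rfl

/-- the transposition `k` -/
noncomputable def kk : (L : Set Fi24) := ⟨gen .k, gen_mem_L .k⟩

theorem isPt_kk : IsPt (kk : Fi24) 307872 := isPt_gen .k

theorem rho_lk : rho (gen .l) 307872 = 307840 := Cfsg.Agent.H52.GowFi23.rho_l

theorem not_comm_lk : ¬ Commute (gen .l) (gen .k) := by
  intro h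
  have h1 : rho (gen .l) 307872 = 307872 := ((isPt_gen .k).comm_iff _).1 h
  rw [rho_lk] at h1
  exact absurd h1 (by norm_num)

theorem lam_kk : lam kk ≠ kk := fun h => not_comm_lk (cj_fix.1 h)

/-- `Fi23` is transitive on the transpositions not commuting with `l` -/
theorem exists_phi {y : (L : Set Fi24)} (hy : lam y ≠ y) : ∃ f : Fi23, ρ f kk = y := by
  have h1 : ¬ Commute (gen .l) (y : Fi24) := fun h => hy (cj_fix.2 h)
  obtain ⟨g, hg, h2, h3⟩ := Cfsg.Agent.H30.GraphFi24.noncomm_trans (gen_mem_L .l) (gen_mem_L .k) (gen_mem_L .l) y.2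
    not_comm_lk h1
  obtain ⟨f, hf⟩ := (facts.mem_range_iff g).2 ⟨mul_inv_eq_iff_eq_mul.1 h2, mem_commutator_iff.1 hg⟩
  refine ⟨f, Subtype.ext ?_⟩
  rw [ρ_apply, cj_coe, hf]
  exact h3

theorem phi_mem_H (f : Fi23) : facts.phi f ∈ H := (facts.mem_H_iff _).2 (facts.phi_comm f)

/-- the points of the transpositions not commuting with `l` -/
theorem bit_UR {y : (L : Set Fi24)} (hy : lam y ≠ y) {p : ℕ} (hp : IsPt (y : Fi24) p) : UR.testBit p = true := by
  obtain ⟨f, hf⟩ := exists_phi hy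
  have h1 : IsPt (y : Fi24) (rho (facts.phi f) 307872) := by
    rw [← hf]
    exact isPt_kk.conj (facts.phi f)
  have h2 : p ∈ {p : ℕ | ∃ x ∈ H, rho x 307872 = p} := ⟨_, phi_mem_H f, h1.uniq hp⟩
  rw [orbR] at h2
  exact h2

theorem exists_of_UR {p : ℕ} (hp : UR.testBit p = true) : ∃ y : (L : Set Fi24), lam y ≠ y ∧ IsPt (y : Fi24) p := by
  have h2 : p ∈ {p : ℕ | UR.testBit p = true} := hp
  rw [← orbR] at h2
  obtain ⟨x, hx, rfl⟩ := h2
  refine ⟨cj x kk, ?_, isPt_kk.conj x⟩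
  have h3 : Commute (gen .l) x := ((facts.mem_H_iff x).1 hx).symm
  have h4 : Commute lam (cj x) := by
    show cj (gen .l) * cj x = cj x * cj (gen .l)
    rw [← map_mul, ← map_mul, h3.eq]
  exact (moved h4).2 lam_kk

theorem bits (i : Fin 3) : UR.testBit ((![307872, 32768, 32833] : Fin 3 → ℕ) i) = true := by
  fin_cases i
  · exact (tb_eq UR 307872).symm.trans tbR
  · exact (tb_eq UR 32768).symm.trans Cfsg.Agent.H52.GowFi23Chk.tb1
  · exact (tb_eq UR 32833).symm.trans Cfsg.Agent.H52.GowFi23Chk.tb2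

/-- the representatives -/
noncomputable def xr (i : Fin 3) : (L : Set Fi24) := (exists_of_UR (bits i)).choose

theorem lam_xr (i : Fin 3) : lam (xr i) ≠ xr i := (exists_of_UR (bits i)).choose_spec.1

theorem isPt_xr (i : Fin 3) : IsPt (xr i : Fi24) ((![307872, 32768, 32833] : Fin 3 → ℕ) i) :=
  (exists_of_UR (bits i)).choose_spec.2

/-- elements of `H` -/
theorem H_cases {x : Fi24} (hx : x ∈ H) : ∃ (f : Fi23) (e : ℤˣ), cj x = mu lam lam_sq e * ρ f := by
  obtain ⟨f, h | h⟩ := facts.mem_H_cases hx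
  · exact ⟨f, 1, by rw [mu_one, one_mul, h]; rfl⟩
  · exact ⟨f, -1, by rw [mu_neg, h, map_mul]; exact (lam_comm f).symm.eq⟩

theorem mu_mul_self (a : ℤˣ) : mu lam lam_sq a * mu lam lam_sq a = 1 := by
  rw [← map_mul, Int.units_mul_self, map_one]

theorem mu_mu (a : ℤˣ) (x : (L : Set Fi24)) : mu lam lam_sq a (mu lam lam_sq a x) = x := by
  rw [← Perm.mul_apply, mu_mul_self]; rfl

theorem mu_ρ (a : ℤˣ) (f : Fi23) (x : (L : Set Fi24)) : mu lam lam_sq a (ρ f x) = ρ f (mu lam lam_sq a x) := by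
  rw [← Perm.mul_apply, (mu_comm lam lam_sq (lam_comm f) a).eq, Perm.mul_apply]

theorem hcov (y y' : (L : Set Fi24)) (hy : lam y ≠ y) (hy' : lam y' ≠ y') :
    ∃ i, ∃ a b : ℤˣ, ∃ g, mu lam lam_sq a (ρ g kk) = y ∧ mu lam lam_sq b (ρ g (xr i)) = y' := by
  obtain ⟨f0, hf0⟩ := exists_phi hy
  have hm : lam (ρ f0⁻¹ y') ≠ ρ f0⁻¹ y' := (moved (lam_comm f0⁻¹)).2 hy'
  obtain ⟨p, hp⟩ := exists_pt (ρ f0⁻¹ y').2
  obtain ⟨i, κ, hκ, h1⟩ := Cfsg.Agent.H52.GowFi23.cover p (bit_UR hm hp)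
  have h2 : cj κ (xr i) = ρ f0⁻¹ y' := by
    have h3 := (isPt_xr i).conj κ
    rw [h1] at h3
    exact Subtype.ext (h3.inj hp)
  obtain ⟨e', h3⟩ : ∃ e' : ℤˣ, cj κ kk = mu lam lam_sq e' kk := by
    have h4 := isPt_kk.conj κ
    rcases Cfsg.Agent.H52.GowFi23.K₁_fix κ hκ with ⟨h5, -⟩ | ⟨h5, -⟩
    · refine ⟨1, Subtype.ext ?_⟩
      rw [h5] at h4
      rw [mu_one]
      exact h4.inj isPt_kk
    · refine ⟨-1, Subtype.ext ?_⟩
      rw [h5, ← rho_lk] at h4
      rw [mu_neg]
      exact h4.inj (isPt_kk.conj (gen .l))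
  obtain ⟨f, e, h4⟩ := H_cases (Cfsg.Agent.H52.GowFi23.K₁_le hκ)
  rw [h4, Perm.mul_apply] at h2 h3
  have h5 : ρ f0 (ρ f0⁻¹ y') = y' := by
    rw [← Perm.mul_apply, ← map_mul, mul_inv_cancel, map_one]; rfl
  refine ⟨i, e * e', e, f0 * f, ?_, ?_⟩
  · rw [map_mul ρ, Perm.mul_apply, mu_ρ, map_mul, Perm.mul_apply]
    have h6 : mu lam lam_sq e' (ρ f kk) = mu lam lam_sq e kk := by
      have h7 := congrArg (fun t => mu lam lam_sq e' (mu lam lam_sq e t)) h3
      simp only [mu_mu] at h7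
      rw [h7]
      rw [← Perm.mul_apply, ← map_mul, mul_comm e' e, map_mul, Perm.mul_apply, mu_mu]
    rw [h6, mu_mu]
    exact hf0
  · rw [map_mul ρ, Perm.mul_apply, mu_ρ, h2, h5]

theorem hns : ∃ y y', lam y ≠ y ∧ lam y' ≠ y' ∧ ∃ g : Fi23, (ρ g y = y ∧ lam (ρ g y') = y') ∨
    (lam (ρ g y) = y ∧ ρ g y' = y') := by
  have hw0 : rho (word ws) 0 = 0 := rho_of_chkPt chk_s0
  have hwk : rho (word ws) 307872 = 307872 := rho_of_chkPt chk_sk
  have hw : rho (word ws) 32833 = 32865 := rho_of_chkPt chk_s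
  have hl : rho (gen .l) 32833 = 32865 := by
    have h := rho_of_chkPt chk_l
    rwa [Cfsg.Agent.H52.GowFi23.word_gen] at h
  have hH : word ws ∈ H := (facts.mem_H_iff _).2 ((fix_iff _).1 hw0)
  have hx2 : IsPt (xr 2 : Fi24) 32833 := isPt_xr 2
  have e1 : cj (word ws) kk = kk := by
    have h := isPt_kk.conj (word ws)
    rw [hwk] at h
    exact Subtype.ext (h.inj isPt_kk)
  have e2 : cj (word ws) (xr 2) = lam (xr 2) := by
    have h := hx2.conj (word ws)
    rw [hw, ← hl] at h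
    exact Subtype.ext (h.inj (hx2.conj (gen .l)))
  have hll : ∀ x, lam (lam x) = x := fun x => by
    rw [← Perm.mul_apply, lam_sq]; rfl
  obtain ⟨f, h | h⟩ := facts.mem_H_cases hH
  · refine ⟨kk, xr 2, lam_kk, lam_xr 2, f, Or.inl ⟨?_, ?_⟩⟩
    · rw [ρ_apply, ← h, e1]
    · rw [ρ_apply, ← h, e2, hll]
  · have e3 : ∀ x, cj (word ws) x = lam (ρ f x) := by
      intro x
      rw [h, map_mul, ← Perm.mul_apply, (lam_comm f).eq]
      rfl
    refine ⟨kk, xr 2, lam_kk, lam_xr 2, f, Or.inr ⟨?_, ?_⟩⟩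
    · rw [← e3, e1]
    · rw [e3] at e2
      exact lam.injective e2

theorem finite24 : Finite Fi24 := finite_Fi24

/-- **The norm of the signed permutation character is at most 2.** -/
theorem norm [Fintype Fi23] : ∃ m : ℕ, m ≤ 2 ∧
    ∑ g, ((Nat.card {x // ρ g x = x} : ℤ) - Nat.card {x // lam (ρ g x) = x}) ^ 2 = 4 * Nat.card Fi23 * m := by
  have := finite24
  obtain ⟨m, hm, h⟩ := norm_sum_sub ρ lam lam_sq lam_comm kk lam_kk xr lam_xr hcov hns
  exact ⟨m, by omega, h⟩

end Cfsg.Agent.H592.EP.Fi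
end

-- part: H592/EP/FiChar
section
/-!
# S4929, `Fi₂₃` (helper592): the irreducible characters of degree 25806 and 111826
-/

set_option autoImplicit false
set_option maxRecDepth 100000

namespace Cfsg.Agent.H592.EP.Fi

open Cfsg Equiv
open Cfsg.Agent.Lib.PermNet Cfsg.Agent.Lib.PermNetPt Cfsg.Agent.Lib.PermNetOrbit
open Cfsg.Agent.Fischer.Fi24RepDef Cfsg.Agent.Fischer.Fi24Rep
open Cfsg.Agent.Fischer.Fi24RepOrb (UG)
open Cfsg.Agent.H30.FiE
open Cfsg.Agent.H690.Spor.RankThree Cfsg.Agent.H690.Spor.RankThree.R3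
open Cfsg.Agent.R08 Cfsg.Agent.R08.FiTwentyFour
open Cfsg.Agent.KFacts.FiTF.Pts Cfsg.Agent.KFacts.FiTF.FixMask
open Cfsg.Agent.Characters.Core
open Cfsg.Spor (Fi24 Fi23)

local notation "L" => Cfsg.Agent.R08.FiTwentyFour.L

/-- the points as numbers -/
theorem exists_e : ∃ e : (L : Set Fi24) ≃ {p : ℕ // UG.testBit p = true}, ∀ d : (L : Set Fi24), IsPt (d : Fi24) (e d).1 := by
  have h0 : ∀ d : (L : Set Fi24), ∃ p, IsPt (d : Fi24) p := fun d => exists_pt d.2
  choose f hf using h0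
  refine ⟨⟨fun d => ⟨f d, isPt_iff.2 ⟨_, hf d⟩⟩, fun p => ⟨tp p.1, (isPt_tp p.2).mem⟩, fun d => ?_, fun p => ?_⟩, hf⟩
  · exact Subtype.ext (tp_eq (hf d))
  · exact Subtype.ext ((hf ⟨tp p.1, (isPt_tp p.2).mem⟩).uniq (isPt_tp p.2))

theorem card_eq {X : Type*} (e : X ≃ {p : ℕ // UG.testBit p = true}) (p : X → Prop) (S : Set ℕ)
    (h : ∀ y, p y ↔ (e y).1 ∈ S) (hS : ∀ n ∈ S, UG.testBit n = true) : Nat.card {y // p y} = S.ncard := by
  rw [← Nat.card_coe_set_eq]
  refine Nat.card_congr ⟨fun y => ⟨(e y.1).1, (h _).1 y.2⟩, fun n => ⟨e.symm ⟨n.1, hS _ n.2⟩, (h _).2 ?_⟩,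
    fun y => ?_, fun n => ?_⟩
  · rw [e.apply_symm_apply]
    exact n.2
  · apply Subtype.ext
    show e.symm ⟨(e y.1).1, _⟩ = y.1
    rw [Subtype.coe_eta, e.symm_apply_apply]
  · apply Subtype.ext
    show (e (e.symm ⟨n.1, _⟩)).1 = n.1
    rw [e.apply_symm_apply]

theorem com_iff' {d d' : Fi24} {p q : ℕ} (h : IsPt d p) (h' : IsPt d' q) : (d ≠ d' ∧ Commute d d') ↔ Com p q := by
  have e1 := tp_eq h
  have e2 := tp_eq h'
  constructor
  · rintro ⟨h1, h2⟩
    refine ⟨isPt_iff.2 ⟨_, h⟩, isPt_iff.2 ⟨_, h'⟩, fun h3 => h1 ?_, by rw [e1, e2]; exact h2⟩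
    subst h3
    exact h.inj h'
  · rintro ⟨-, -, h1, h2⟩
    rw [e1, e2] at h2
    refine ⟨fun h3 => h1 ?_, h2⟩
    subst h3
    exact h.uniq h'

/-- the relation -/
def CR (x y : (L : Set Fi24)) : Prop := (x : Fi24) ≠ y ∧ Commute (x : Fi24) y

theorem conj_comm (g x y : Fi24) : Commute (g * x * g⁻¹) (g * y * g⁻¹) ↔ Commute x y := by
  constructor
  · intro h
    have h1 := h.eq
    show x * y = y * x
    have h2 : g * (x * y) * g⁻¹ = g * (y * x) * g⁻¹ := by
      calc g * (x * y) * g⁻¹ = g * x * g⁻¹ * (g * y * g⁻¹) := by group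
        _ = g * y * g⁻¹ * (g * x * g⁻¹) := h1
        _ = g * (y * x) * g⁻¹ := by group
    exact mul_left_cancel (mul_right_cancel h2)
  · intro h
    show g * x * g⁻¹ * (g * y * g⁻¹) = g * y * g⁻¹ * (g * x * g⁻¹)
    calc g * x * g⁻¹ * (g * y * g⁻¹) = g * (x * y) * g⁻¹ := by group
      _ = g * (y * x) * g⁻¹ := by rw [h.eq]
      _ = g * y * g⁻¹ * (g * x * g⁻¹) := by group

theorem CR_cj (g : Fi24) (x y : (L : Set Fi24)) : CR (cj g x) (cj g y) ↔ CR x y := by
  unfold CR
  rw [cj_coe, cj_coe, conj_comm]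
  refine and_congr_left fun _ => not_congr ?_
  rw [mul_left_inj, mul_right_inj]

theorem CR_lam (x : (L : Set Fi24)) : ¬ CR x (lam x) := by
  rintro ⟨h1, h2⟩
  have hl : (lam x : Fi24) = gen .l * x * (gen .l)⁻¹ := rfl
  have hli : (gen .l)⁻¹ = gen .l := inv_eq_of_mul_eq_one_left ll
  rw [hl, hli] at h1 h2
  have h30 : Commute (gen .l) (x : Fi24) ∨ gen .l * (x : Fi24) * gen .l = x * gen .l * x :=
    FiTwentyFour.three (gen_mem_L .l) x.2
  rcases h30 with h3 | h3
  · apply h1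
    rw [h3.eq, mul_assoc, ll, mul_one]
  · rw [h3] at h2
    have h4 : (x : Fi24) * (x * gen .l * x) = (x * gen .l * x) * x := h2.eq
    have hx : (x : Fi24) * x = 1 := FiTwentyFour.sq x.2
    have h5 : gen .l * (x : Fi24) = x * gen .l := by
      calc gen .l * (x : Fi24) = (x * x) * (gen .l * x) := by rw [hx, one_mul]
        _ = x * (x * gen .l * x) := by group
        _ = (x * gen .l * x) * x := h4
        _ = x * gen .l * (x * x) := by group
        _ = x * gen .l := by rw [hx, mul_one]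
    apply h1
    rw [h5, mul_assoc, ll, mul_one]

open Classical in
/-- **The two constituents.** -/
theorem exists_chars : ∃ χ₁ χ₂ : IrrCharacter Fi23, charDegree (χ₁ : Fi23 → ℂ) = 25806 ∧
    charDegree (χ₂ : Fi23 → ℂ) = 111826 ∧ ∀ g, (χ₁ : Fi23 → ℂ) g + (χ₂ : Fi23 → ℂ) g =
      ((Nat.card {x // ρ g x = x} : ℂ) - Nat.card {x // lam (ρ g x) = x}) / 2 := by
  have hfin24 : Finite Fi24 := finite_Fi24
  have hfin23 : Finite Fi23 := Cfsg.Agent.R08.FiTwentyThree.finite_fi23
  let _ := Cfsg.Agent.H30.GraphFi24.act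
  have h3 : R3 Spor.Fi24' (L : Set Fi24) CR 31671 275264 := Cfsg.Agent.H30.GraphFi24.r3
  obtain ⟨e, he⟩ := exists_e
  have := Fintype.ofFinite (L : Set Fi24)
  have := Fintype.ofFinite Fi23
  set y0 : (L : Set Fi24) := ⟨gen .l, gen_mem_L .l⟩ with hy0
  set y2 : (L : Set Fi24) := ⟨gen .c, gen_mem_L .c⟩ with hy2
  have p0 : IsPt (y0 : Fi24) 0 := isPt_gen .l
  have p2 : IsPt (y2 : Fi24) 2 := isPt_gen .c
  have h02 : Com 0 2 := by
    refine ⟨bit_gen .l, bit_gen .c, by norm_num, ?_⟩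
    have e1 : tp 0 = gen .l := tp_gen .l
    have e2 : tp 2 = gen .c := tp_gen .c
    rw [e1, e2]
    exact Cfsg.Agent.Fischer.Fi24Final.gen_comm (x := .l) (y := .c) (by decide)
  have hl : _root_.Cfsg.Agent.H690.Spor.RankThree.R3.com CR y0 y2 = 3510 := by
    rw [← ncard_lam]
    refine card_eq e _ _ (fun z => ?_) fun n hn => hn.1.2.1
    rw [Set.mem_ofPred_eq]
    exact and_congr (com_iff' p0 (he z)) (com_iff' (he z) p2)
  have hab := Cfsg.Agent.H442.RankVal.params (h := h3) (x₀ := y0) (y₀ := y2)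
    ((com_iff' p0 p2).2 h02) (a := 3510) (b := 3240) hl (by norm_num)
  obtain ⟨m, hm, hsum⟩ := norm
  have hfix : Nat.card {x // lam x = x} = 31672 := by
    rw [card_split (fun x => lam x = x) (fun x => x = y0)]
    have e1 : Nat.card {x // lam x = x ∧ x = y0} = 1 := by
      have h4 : lam y0 = y0 := cj_fix.2 (Commute.refl _)
      rw [Nat.card_eq_one_iff_unique]
      exact ⟨⟨fun a b => Subtype.ext (a.2.2.trans b.2.2.symm)⟩, ⟨⟨y0, h4, rfl⟩⟩⟩
    have e2 : Nat.card {x // lam x = x ∧ ¬ x = y0} = 31671 := by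
      rw [← h3.cardk y0]
      refine Nat.card_congr (Equiv.subtypeEquivRight fun x => ?_)
      constructor
      · rintro ⟨h4, h5⟩
        exact ⟨fun h => h5 (Subtype.ext h.symm), cj_fix.1 h4⟩
      · rintro ⟨h4, h5⟩
        exact ⟨cj_fix.2 h5, fun h => h4 (congrArg Subtype.val h).symm⟩
    rw [e1, e2]
  obtain ⟨χ₁, χ₂, h4, h5, h6⟩ := split_chars (B := Fi23) h3 hab (r := 351) (s := -81) (by norm_num) (by norm_num)
    (by norm_num) (by norm_num) (by norm_num) ρ lam lam_sq lam_comm (fun g x y => CR_cj _ x y) (fun x y => CR_cj _ x y)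
    CR_lam (N := 275264) (by rw [hfix, h3.cardn]) (by norm_num) hm (by
      intro inst
      rw [← hsum]
      refine Finset.sum_congr ?_ fun _ _ => rfl
      ext x
      simp)
  refine ⟨χ₁, χ₂, ?_, ?_, h6⟩
  · rw [Cfsg.Agent.Blocks.Basic.irr_one_eq_charDegree χ₁.2] at h4
    have h7 : (charDegree (χ₁ : Fi23 → ℂ) : ℂ) = (25806 : ℕ) := by
      rw [h4]
      norm_num
    exact_mod_cast h7
  · rw [Cfsg.Agent.Blocks.Basic.irr_one_eq_charDegree χ₂.2] at h5
    have h7 : (charDegree (χ₂ : Fi23 → ℂ) : ℂ) = (111826 : ℕ) := by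
      rw [h5]
      norm_num
    exact_mod_cast h7

end Cfsg.Agent.H592.EP.Fi
end

-- part: H592/EP/FiPerm
section
/-!
# S4929, `Fi₂₃` (helper592): permutations of nine letters commuting with a 5-cycle and two transpositions
-/

set_option autoImplicit false

namespace Cfsg.Agent.H592.EP.Fi

open Equiv

/-- the 5-cycle -/
def c5 : Perm (Fin 9) := swap (0 : Fin 9) 1 * swap (1 : Fin 9) 2 * swap (2 : Fin 9) 3 * swap (3 : Fin 9) 4

theorem c5_pow : c5 ^ 5 = 1 := by decide +kernel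

theorem c5_78 : c5 * swap (7 : Fin 9) 8 = swap (7 : Fin 9) 8 * c5 := by decide +kernel

theorem moved5 : ∀ x : Fin 9, c5 x ≠ x → ∃ m : Fin 5, (c5 ^ (m : ℕ)) 0 = x := by decide +kernel

theorem c5_zero : c5 0 ≠ 0 := by decide +kernel

theorem c5_swap : ∀ i j : Fin 9, i ≠ j → c5 * swap i j = swap i j * c5 → 5 ≤ i ∧ 5 ≤ j := by decide +kernel

theorem c5_comm : ∀ i j : Fin 9, (i = 5 ∨ i = 6) → (j = 7 ∨ j = 8) → c5 * swap i j = swap i j * c5 := by decide +kernel

theorem swap_78 : ∀ i j : Fin 9, 5 ≤ i → 5 ≤ j → i ≠ j → swap (7 : Fin 9) 8 * swap i j ≠ swap i j * swap (7 : Fin 9) 8 →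
    ((i = 5 ∨ i = 6) ∧ (j = 7 ∨ j = 8)) ∨ ((j = 5 ∨ j = 6) ∧ (i = 7 ∨ i = 8)) := by decide +kernel

theorem swap_78' : ∀ i j : Fin 9, (i = 5 ∨ i = 6) → (j = 7 ∨ j = 8) → swap (7 : Fin 9) 8 * swap i j ≠ swap i j * swap (7 : Fin 9) 8 := by
  decide +kernel

theorem pts : ∀ x : Fin 9, (∃ n : Fin 5, (c5 ^ (n : ℕ)) 0 = x) ∨ x = 5 ∨ x = 6 ∨ x = 7 ∨ x = 8 := by decide +kernel

theorem sw {τ : Perm (Fin 9)} {a b : Fin 9} (hab : a ≠ b) (h : τ * swap a b = swap a b * τ) :
    (τ a = a ∧ τ b = b) ∨ (τ a = b ∧ τ b = a) := by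
  have h1 : τ b = swap a b (τ a) := by
    have := congrArg (fun σ : Perm (Fin 9) => σ a) h
    simp only [Perm.mul_apply, swap_apply_left] at this
    exact this
  by_cases h2 : τ a = a
  · left
    refine ⟨h2, ?_⟩
    rw [h1, h2, swap_apply_left]
  · by_cases h3 : τ a = b
    · right
      refine ⟨h3, ?_⟩
      rw [h1, h3, swap_apply_right]
    · rw [swap_apply_of_ne_of_ne h2 h3] at h1
      exact absurd (τ.injective h1).symm hab

theorem fix_last {τ : Perm (Fin 9)} (z : Fin 9) (h : ∀ x, x ≠ z → τ x = x) : τ = 1 := by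
  ext x
  rw [Perm.one_apply]
  by_cases hx : x = z
  · subst hx
    by_contra hne
    have h1 : τ x ≠ x := fun h2 => hne (congrArg Fin.val h2)
    exact h1 (τ.injective (h _ h1))
  · rw [h x hx]

theorem pow_five {σ : Perm (Fin 9)} (h1 : σ * c5 = c5 * σ) (h2 : σ * swap (7 : Fin 9) 8 = swap (7 : Fin 9) 8 * σ) {i j : Fin 9}
    (hi : i = 5 ∨ i = 6) (hj : j = 7 ∨ j = 8) (h3 : σ * swap i j = swap i j * σ) : σ ^ 5 = 1 := by
  have hc1 : Commute σ c5 := h1
  obtain ⟨m, hm⟩ := moved5 (σ 0) (by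
    intro h
    have h4 : c5 (σ 0) = σ (c5 0) := by
      rw [← Perm.mul_apply, ← h1, Perm.mul_apply]
    rw [h4] at h
    exact c5_zero (σ.injective h))
  obtain ⟨τ, hτ⟩ : ∃ τ, τ = (c5 ^ (m : ℕ))⁻¹ * σ := ⟨_, rfl⟩
  have hij : i ≠ j := by
    rcases hi with rfl | rfl <;> rcases hj with rfl | rfl <;> decide
  have t5 : Commute τ c5 := by
    rw [hτ]
    exact (((Commute.refl c5).pow_left _).inv_left).mul_left hc1
  have t78 : Commute τ (swap (7 : Fin 9) 8) := by
    rw [hτ]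
    exact (((show Commute c5 (swap (7 : Fin 9) 8) from c5_78).pow_left _).inv_left).mul_left h2
  have tij : Commute τ (swap i j) := by
    rw [hτ]
    exact (((show Commute c5 (swap i j) from c5_comm i j hi hj).pow_left _).inv_left).mul_left h3
  have t0 : τ 0 = 0 := by
    rw [hτ, Perm.mul_apply, Perm.inv_eq_iff_eq, hm]
  have tn : ∀ n : Fin 5, τ ((c5 ^ (n : ℕ)) 0) = (c5 ^ (n : ℕ)) 0 := by
    intro n
    rw [← Perm.mul_apply, (t5.pow_right _).eq, Perm.mul_apply, t0]
  have hfix : ∀ x, x ≠ (if i = 5 then 6 else 5) → τ x = x := by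
    intro x hx
    rcases pts x with ⟨n, rfl⟩ | hx'
    · exact tn n
    · have e1 := sw (by decide) t78.eq
      have e2 := sw hij tij.eq
      have e3 : τ 7 = 7 ∧ τ 8 = 8 ∧ τ i = i := by
        rcases e1 with ⟨e1, e1'⟩ | ⟨e1, e1'⟩
        · refine ⟨e1, e1', ?_⟩
          rcases e2 with ⟨e2, -⟩ | ⟨-, e2⟩
          · exact e2
          · exfalso
            rcases hi with rfl | rfl <;> rcases hj with rfl | rfl <;> simp_all only [_root_.Fin.isValue, _root_.Commute.inv_left_iff, _root_.Commute.refl, _root_.Commute.pow_left, _root_.Commute.mul_left, _root_.Equiv.Perm.coe_mul, _root_.Equiv.Perm.coe_inv, _root_.Function.comp_apply, ↓ _root_.reduceIte, _root_.ne_eq, _root_.Fin.reduceEq, _root_.not_false_eq_true]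
        · exfalso
          rcases e2 with ⟨-, e2⟩ | ⟨-, e2⟩ <;> rcases hi with rfl | rfl <;> rcases hj with rfl | rfl <;> simp_all only [_root_.Fin.isValue, _root_.Commute.inv_left_iff, _root_.Commute.refl, _root_.Commute.pow_left, _root_.Commute.mul_left, _root_.Equiv.Perm.coe_mul, _root_.Equiv.Perm.coe_inv, _root_.Function.comp_apply, ↓ _root_.reduceIte, _root_.ne_eq, _root_.Fin.reduceEq, _root_.not_false_eq_true]
      obtain ⟨e3, e4, e5⟩ := e3
      rcases hi with rfl | rfl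
      · rw [if_pos rfl] at hx
        rcases hx' with rfl | rfl | rfl | rfl
        · exact e5
        · exact absurd rfl hx
        · exact e3
        · exact e4
      · rw [if_neg (by decide)] at hx
        rcases hx' with rfl | rfl | rfl | rfl
        · exact absurd rfl hx
        · exact e5
        · exact e3
        · exact e4
  have ht : τ = 1 := fix_last _ hfix
  rw [ht] at hτ
  have hσ : σ = c5 ^ (m : ℕ) := (inv_mul_eq_one.1 hτ.symm).symm
  rw [hσ, ← pow_mul, mul_comm, pow_mul, c5_pow, one_pow]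

end Cfsg.Agent.H592.EP.Fi
end

-- part: H592/EP/Count
section
/-!
# S4929, `Fi₂₃` (helper592): counting fixed points modulo `p`
-/

set_option autoImplicit false

namespace Cfsg.Agent.H592.EP

open Equiv

section

variable {G X : Type*} [Group G]

theorem card_mod [Finite G] [Finite X] {p : ℕ} [Fact p.Prime] (ρ : G →* Perm X) (θ : Perm X)
    (hθ : ∀ g, Commute θ (ρ g)) (P : Subgroup G) (hP : IsPGroup p P) (Rg : G → Prop)
    (hR : ∀ g h, Rg g → Rg (h * g * h⁻¹)) (Q : X → Prop) (hQ : ∀ g x, Q x → Q (ρ g x)) :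
    Nat.card {q : G × X // Rg q.1 ∧ Q q.2 ∧ θ (ρ q.1 q.2) = q.2} ≡
      Nat.card {q : G × X // (Rg q.1 ∧ Q q.2 ∧ θ (ρ q.1 q.2) = q.2) ∧ ∀ h ∈ P, h * q.1 = q.1 * h ∧ ρ h q.2 = q.2}
      [MOD p] := by
  have key : ∀ (h g : G) (x : X), θ (ρ g x) = x → θ (ρ (h * g * h⁻¹) (ρ h x)) = ρ h x := by
    intro h g x hx
    rw [← Perm.mul_apply (ρ (h * g * h⁻¹)), ← map_mul, inv_mul_cancel_right, map_mul, Perm.mul_apply,
      ← Perm.mul_apply θ, (hθ h).eq, Perm.mul_apply, hx]
  let _ : MulAction P {q : G × X // Rg q.1 ∧ Q q.2 ∧ θ (ρ q.1 q.2) = q.2} :=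
    { smul := fun h q => ⟨((h : G) * q.1.1 * (h : G)⁻¹, ρ h q.1.2), hR _ _ q.2.1, hQ _ _ q.2.2.1, key _ _ _ q.2.2.2⟩
      one_smul := fun q => Subtype.ext (Prod.ext
        (by show ((1 : P) : G) * q.1.1 * ((1 : P) : G)⁻¹ = q.1.1; simp only [_root_.OneMemClass.coe_one, _root_.one_mul, _root_.inv_one, _root_.mul_one])
        (by show ρ ((1 : P) : G) q.1.2 = q.1.2; simp only [_root_.OneMemClass.coe_one, _root_.map_one, _root_.Equiv.Perm.coe_one, _root_.id_eq]))
      mul_smul := fun g h q => Subtype.ext (Prod.ext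
        (by
          show ((g * h : P) : G) * q.1.1 * ((g * h : P) : G)⁻¹ = (g : G) * ((h : G) * q.1.1 * (h : G)⁻¹) * (g : G)⁻¹
          push_cast
          group)
        (by
          show ρ ((g * h : P) : G) q.1.2 = ρ (g : G) (ρ (h : G) q.1.2)
          push_cast
          rw [map_mul]
          rfl)) }
  refine (hP.card_modEq_card_fixedPoints _).trans ?_
  have hsm : ∀ (h : P) (q : {q : G × X // Rg q.1 ∧ Q q.2 ∧ θ (ρ q.1 q.2) = q.2}),
      (h • q).1 = ((h : G) * q.1.1 * (h : G)⁻¹, ρ h q.1.2) := fun _ _ => rfl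
  have h1 : Nat.card (MulAction.fixedPoints P {q : G × X // Rg q.1 ∧ Q q.2 ∧ θ (ρ q.1 q.2) = q.2}) =
      Nat.card {q : G × X // (Rg q.1 ∧ Q q.2 ∧ θ (ρ q.1 q.2) = q.2) ∧ ∀ h ∈ P, h * q.1 = q.1 * h ∧ ρ h q.2 = q.2} := by
    refine Nat.card_congr ⟨fun q => ⟨q.1.1, q.1.2, fun h hh => ?_⟩, fun q => ⟨⟨q.1, q.2.1⟩, fun h => ?_⟩,
      fun _ => rfl, fun _ => rfl⟩
    · have h2 := congrArg Subtype.val (q.2 ⟨h, hh⟩)
      rw [hsm] at h2
      refine ⟨?_, congrArg Prod.snd h2⟩
      have h3 : h * q.1.1.1 * h⁻¹ = q.1.1.1 := congrArg Prod.fst h2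
      exact mul_inv_eq_iff_eq_mul.1 h3
    · obtain ⟨h2, h3⟩ := q.2.2 h.1 h.2
      refine Subtype.ext ?_
      rw [hsm]
      refine Prod.ext ?_ h3
      show (h : G) * q.1.1 * (h : G)⁻¹ = q.1.1
      rw [h2, mul_inv_cancel_right]
  rw [h1]

/-- the sum of the numbers of fixed points -/
theorem sum_fix [Fintype G] [Finite X] (σ : G → Perm X) (S : Finset G) (Q : X → Prop) :
    ∑ g ∈ S, Nat.card {x // Q x ∧ σ g x = x} = Nat.card {q : G × X // q.1 ∈ S ∧ Q q.2 ∧ σ q.1 q.2 = q.2} := by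
  classical
  rw [Finset.sum_subtype S (p := fun g => g ∈ S) (fun g => Iff.rfl), ← Nat.card_sigma]
  exact Nat.card_congr ⟨fun q => ⟨(q.1.1, q.2.1), q.1.2, q.2.2⟩, fun q => ⟨⟨q.1.1, q.2.1⟩, ⟨q.1.2, q.2.2⟩⟩,
    fun _ => rfl, fun _ => rfl⟩

end

end Cfsg.Agent.H592.EP
end

-- part: H592/EP/FiFive
section
/-!
# S4929, `Fi₂₃`, `p = 5` (helper592)
-/

set_option autoImplicit false
set_option maxRecDepth 100000

namespace Cfsg.Agent.H592.EP.Fi

open Cfsg Equiv Subgroup
open Cfsg.Agent.Fischer.Fi24Rep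
open Cfsg.Agent.Fischer.Fi24Final (sgn)
open Cfsg.Agent.R08 Cfsg.Agent.R08.FiTwentyFour
open Cfsg.Agent.H841.Five (Phi Phi_injective Phi_comm_y0 exists_of_comm of_comm_y0 Phi_swap_mem_L)
open Cfsg.Agent.LThreeFi24.SNine (y0)
open Cfsg.Agent.Characters.Core
open Cfsg.Spor (Fi24 Fi23)

local notation "L" => Cfsg.Agent.R08.FiTwentyFour.L

/-- the centralizer `5 × S₉`, conjugated so that `l` is the transposition `(7 8)` -/
theorem exists_model : ∃ (PH : Perm (Fin 9) →* Fi24) (w : Fi24), PH (swap (7 : Fin 9) 8) = gen .l ∧ w ^ 5 = 1 ∧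
    (∀ σ, Commute (PH σ) w) ∧ (∀ n, Commute n w → ∃ (i : ℕ) (σ : Perm (Fin 9)), n = w ^ i * PH σ) ∧
    (∀ d ∈ L, Commute d w → ∃ i j : Fin 9, i ≠ j ∧ d = PH (swap i j)) ∧
    (∀ i j : Fin 9, i ≠ j → PH (swap i j) ∈ L) ∧ Function.Injective PH := by
  obtain ⟨c, hc⟩ : ∃ c : Fi24, c * gen .l * c⁻¹ = Phi (swap (7 : Fin 9) 8) :=
    isConj_iff.1 (show IsConj (gen .l) (Phi (swap (7 : Fin 9) 8)) from Phi_swap_mem_L (by decide))
  let κ : Fi24 ≃* Fi24 := MulAut.conj c⁻¹
  have hκ : ∀ x, κ x = c⁻¹ * x * c := fun x => by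
    show c⁻¹ * x * c⁻¹⁻¹ = _
    rw [inv_inv]
  have hκL : ∀ x, κ x ∈ L ↔ x ∈ L := by
    intro x
    rw [hκ]
    constructor
    · intro h
      have := FiTwentyFour.conj h c
      rwa [show c * (c⁻¹ * x * c) * c⁻¹ = x by group] at this
    · intro h
      have := FiTwentyFour.conj h c⁻¹
      rwa [inv_inv] at this
  refine ⟨κ.toMonoidHom.comp Phi, κ y0, ?_, ?_, ?_, ?_, ?_, ?_, ?_⟩
  · show κ (Phi (swap (7 : Fin 9) 8)) = gen .l
    rw [hκ, ← hc]
    group
  · rw [← map_pow, Cfsg.Agent.LThreeFi24.FiveConj.e5, map_one]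
  · intro σ
    show Commute (κ (Phi σ)) (κ y0)
    exact (Phi_comm_y0 σ).map κ
  · intro n hn
    have h1 : Commute (κ.symm n) y0 := by
      have h2 := hn.map κ.symm
      rwa [MulEquiv.symm_apply_apply] at h2
    obtain ⟨i, σ, -, -, h3⟩ := exists_of_comm h1.eq
    refine ⟨i, σ, ?_⟩
    show n = κ y0 ^ i * κ (Phi σ)
    rw [← map_pow, ← map_mul, ← h3, MulEquiv.apply_symm_apply]
  · intro d hd hn
    have h1 : Commute (κ.symm d) y0 := by
      have h2 := hn.map κ.symm
      rwa [MulEquiv.symm_apply_apply] at h2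
    have h4 : κ.symm d ∈ L := by
      rw [← hκL, MulEquiv.apply_symm_apply]
      exact hd
    obtain ⟨i, j, hij, h3⟩ := of_comm_y0 h4 h1.eq.symm
    refine ⟨i, j, hij, ?_⟩
    show d = κ (Phi (swap i j))
    rw [← h3, MulEquiv.apply_symm_apply]
  · intro i j hij
    exact (hκL _).2 (Phi_swap_mem_L hij)
  · exact κ.injective.comp Phi_injective

theorem sgn_of_pow {n : Fi24} (h : n ^ 5 = 1) : sgn n = 1 := by
  rcases Int.units_eq_one_or (sgn n) with h1 | h1
  · exact h1
  · exfalso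
    have h2 : sgn n ^ 5 = 1 := by rw [← map_pow, h, map_one]
    rw [h1] at h2
    exact absurd h2 (by decide)

theorem isP {G : Type*} [Group G] {u : G} (h : u ^ 5 = 1) : IsPGroup 5 (zpowers u) := by
  have h1 : orderOf u ∣ 5 ^ 1 := by
    rw [pow_one]
    exact orderOf_dvd_of_pow_eq_one h
  obtain ⟨k, -, hk⟩ := (Nat.dvd_prime_pow (by norm_num : Nat.Prime 5)).1 h1
  exact IsPGroup.of_card (n := k) (by rw [Nat.card_zpowers, hk])

/-- **The count.** -/
theorem count : Nat.card {q : Fi23 × (L : Set Fi24) // ¬ 5 ∣ orderOf q.1 ∧ lam q.2 ≠ q.2 ∧ ρ q.1 q.2 = q.2} ≡ 4 [MOD 5] ∧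
    Nat.card {q : Fi23 × (L : Set Fi24) // ¬ 5 ∣ orderOf q.1 ∧ lam q.2 ≠ q.2 ∧ lam (ρ q.1 q.2) = q.2} ≡ 0 [MOD 5] := by
  have hfin24 : Finite Fi24 := finite_Fi24
  have hfin23 : Finite Fi23 := Cfsg.Agent.R08.FiTwentyThree.finite_fi23
  have f5 : Fact (Nat.Prime 5) := ⟨by norm_num⟩
  obtain ⟨PH, w, hl, hw5, hPw, hcent, htr, hPL, hinj⟩ := exists_model
  have hPP : ∀ {σ τ : Perm (Fin 9)}, Commute (PH σ) (PH τ) → σ * τ = τ * σ := by
    intro σ τ h
    apply hinj
    rw [map_mul, map_mul]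
    exact h.eq
  -- the elements `u`, `v` of `Fi23`
  have hwl : w * gen .l = gen .l * w := by
    rw [← hl]
    exact (hPw _).symm.eq
  obtain ⟨u, hu⟩ := (facts.mem_range_iff w).2 ⟨hwl, sgn_of_pow hw5⟩
  have hv5 : PH c5 ^ 5 = 1 := by rw [← map_pow, c5_pow, map_one]
  have hvl : PH c5 * gen .l = gen .l * PH c5 := by
    rw [← hl, ← map_mul, ← map_mul, c5_78]
  obtain ⟨v, hv⟩ := (facts.mem_range_iff (PH c5)).2 ⟨hvl, sgn_of_pow hv5⟩
  have hu5 : u ^ 5 = 1 := facts.phi_injective (by rw [map_pow, hu, hw5, map_one])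
  have hv5' : v ^ 5 = 1 := facts.phi_injective (by rw [map_pow, hv, hv5, map_one])
  have huv : Commute u v := by
    show u * v = v * u
    apply facts.phi_injective
    rw [map_mul, map_mul, hu, hv]
    exact (hPw c5).symm.eq
  let P : Subgroup Fi23 := zpowers u ⊔ zpowers v
  have hP : IsPGroup 5 P := by
    refine IsPGroup.to_sup_of_normal_right' (isP hu5) (isP hv5') ?_
    rw [zpowers_le, mem_normalizer_iff]
    intro h
    have h1 : ∀ a b : Fi23, Commute a b → ∀ k : ℤ, a * b ^ k * a⁻¹ = b ^ k := by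
      intro a b hab k
      rw [(hab.zpow_right k).eq, mul_inv_cancel_right]
    constructor
    · rintro ⟨k, rfl⟩
      show u * v ^ k * u⁻¹ ∈ zpowers v
      rw [h1 u v huv k]
      exact zpow_mem (mem_zpowers v) k
    · rintro ⟨k, hk⟩
      have hk' : v ^ k = u * h * u⁻¹ := hk
      have h2 : h = v ^ k := by
        calc h = u⁻¹ * (u * h * u⁻¹) * u := by group
          _ = u⁻¹ * v ^ k * u := by rw [hk']
          _ = v ^ k := by
            have h3 := h1 u⁻¹ v huv.inv_left k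
            rwa [inv_inv] at h3
      rw [h2]
      exact zpow_mem (mem_zpowers v) k
  have huP : u ∈ P := mem_sup_left (mem_zpowers u)
  have hvP : v ∈ P := mem_sup_right (mem_zpowers v)
  -- the fixed points
  have keyx : ∀ x : (L : Set Fi24), ρ u x = x → ρ v x = x → lam x ≠ x →
      ∃ i j : Fin 9, (i = 5 ∨ i = 6) ∧ (j = 7 ∨ j = 8) ∧ (x : Fi24) = PH (swap i j) := by
    intro x h1 h2 h3
    rw [ρ_apply, hu] at h1
    rw [ρ_apply, hv] at h2
    have h1' : Commute (x : Fi24) w := (cj_fix.1 h1).symm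
    have h2' : Commute (PH c5) (x : Fi24) := cj_fix.1 h2
    have h3' : ¬ Commute (gen .l) (x : Fi24) := fun h => h3 (cj_fix.2 h)
    obtain ⟨i, j, hij, hx⟩ := htr x x.2 h1'
    rw [hx] at h2' h3'
    rw [← hl] at h3'
    obtain ⟨hi, hj⟩ := c5_swap i j hij (hPP h2')
    have h4 : swap (7 : Fin 9) 8 * swap i j ≠ swap i j * swap (7 : Fin 9) 8 := by
      intro h
      apply h3'
      show PH _ * PH _ = PH _ * PH _
      rw [← map_mul, ← map_mul, h]
    rcases swap_78 i j hi hj hij h4 with ⟨h5, h6⟩ | ⟨h5, h6⟩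
    · exact ⟨i, j, h5, h6, hx⟩
    · exact ⟨j, i, h5, h6, by rw [hx, swap_comm]⟩
  have keyg : ∀ g : Fi23, u * g = g * u → v * g = g * v → ∃ (a : ℕ) (σ : Perm (Fin 9)), facts.phi g = w ^ a * PH σ ∧
      σ * c5 = c5 * σ ∧ σ * swap (7 : Fin 9) 8 = swap (7 : Fin 9) 8 * σ := by
    intro g h1 h2
    have h1' : Commute (facts.phi g) w := by
      rw [← hu]
      exact (show Commute g u from h1.symm).map facts.phi
    have h2' : Commute (facts.phi g) (PH c5) := by
      rw [← hv]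
      exact (show Commute g v from h2.symm).map facts.phi
    have h3' : Commute (facts.phi g) (PH (swap (7 : Fin 9) 8)) := by
      rw [hl]
      exact facts.phi_comm g
    obtain ⟨a, σ, h4⟩ := hcent _ h1'
    have h5 : ∀ τ, Commute (facts.phi g) (PH τ) → σ * τ = τ * σ := by
      intro τ hτ
      apply hPP
      have h6 : PH σ = (w ^ a)⁻¹ * facts.phi g := by rw [h4]; group
      rw [h6]
      exact (((hPw τ).symm.pow_left a).inv_left).mul_left hτ
    exact ⟨a, σ, h4, h5 _ h2', h5 _ h3'⟩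
  have hpow : ∀ (a : ℕ) (σ : Perm (Fin 9)), σ ^ 5 = 1 → (w ^ a * PH σ) ^ 5 = 1 := by
    intro a σ h
    have h1 : Commute (w ^ a) (PH σ) := (hPw σ).symm.pow_left a
    rw [h1.mul_pow, ← pow_mul, mul_comm a 5, pow_mul, hw5, one_pow, one_mul, ← map_pow, h, map_one]
  have hcomm : ∀ (a : ℕ) (σ τ : Perm (Fin 9)), Commute (w ^ a * PH σ) (PH τ) → σ * τ = τ * σ := by
    intro a σ τ h
    apply hPP
    have h6 : PH σ = (w ^ a)⁻¹ * (w ^ a * PH σ) := by group
    rw [h6]
    exact (((hPw τ).symm.pow_left a).inv_left).mul_left h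
  have hreg : ∀ g h : Fi23, ¬ 5 ∣ orderOf g → ¬ 5 ∣ orderOf (h * g * h⁻¹) := by
    intro g h hg
    have h1 : orderOf (h * g * h⁻¹) = orderOf g := (MulAut.conj h).orderOf_eq g
    rwa [h1]
  have hQ : ∀ (g : Fi23) (x : (L : Set Fi24)), lam x ≠ x → lam (ρ g x) ≠ ρ g x := fun g x h => (moved (lam_comm g)).2 h
  constructor
  · have h1 := card_mod ρ (1 : Perm (L : Set Fi24)) (fun g => Commute.one_left _) P hP (fun g => ¬ 5 ∣ orderOf g) hreg
      (fun x => lam x ≠ x) hQ
    refine h1.trans ?_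
    let I : Fin 2 → Fin 9 := ![5, 6]
    let J : Fin 2 → Fin 9 := ![7, 8]
    have hI : ∀ a, I a = 5 ∨ I a = 6 := by decide
    have hJ : ∀ a, J a = 7 ∨ J a = 8 := by decide
    have hIJ : ∀ a b, I a ≠ J b := by decide
    have hIJinj : ∀ a b a' b', swap (I a) (J b) = swap (I a') (J b') → a = a' ∧ b = b' := by decide +kernel
    let X : Fin 2 × Fin 2 → (L : Set Fi24) := fun q => ⟨PH (swap (I q.1) (J q.2)), hPL _ _ (hIJ _ _)⟩
    have hX : ∀ q, lam (X q) ≠ X q := by
      intro q h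
      have h2 : Commute (gen .l) (PH (swap (I q.1) (J q.2))) := cj_fix.1 h
      rw [← hl] at h2
      exact swap_78' _ _ (hI _) (hJ _) (hPP h2)
    have hXP : ∀ q, ∀ h ∈ P, ρ h (X q) = X q := by
      intro q
      have h2 : P ≤ (MulAction.stabilizer (Perm (L : Set Fi24)) (X q)).comap ρ := by
        refine sup_le ?_ ?_
        · rw [zpowers_le]
          show ρ u (X q) = X q
          rw [ρ_apply, hu, cj_fix]
          exact (hPw _).symm
        · rw [zpowers_le]
          show ρ v (X q) = X q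
          rw [ρ_apply, hv, cj_fix]
          show PH c5 * PH _ = PH _ * PH c5
          rw [← map_mul, ← map_mul, c5_comm _ _ (hI _) (hJ _)]
      exact fun h hh => h2 hh
    have h2 : Nat.card {q : Fi23 × (L : Set Fi24) // ((¬ 5 ∣ orderOf q.1) ∧ lam q.2 ≠ q.2 ∧
        (1 : Perm (L : Set Fi24)) (ρ q.1 q.2) = q.2) ∧ ∀ h ∈ P, h * q.1 = q.1 * h ∧ ρ h q.2 = q.2} = 4 := by
      let F : Fin 2 × Fin 2 → {q : Fi23 × (L : Set Fi24) // ((¬ 5 ∣ orderOf q.1) ∧ lam q.2 ≠ q.2 ∧
          (1 : Perm (L : Set Fi24)) (ρ q.1 q.2) = q.2) ∧ ∀ h ∈ P, h * q.1 = q.1 * h ∧ ρ h q.2 = q.2} :=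
        fun q => ⟨(1, X q), ⟨by rw [orderOf_one]; norm_num, hX q, by
          show (1 : Perm (L : Set Fi24)) (ρ 1 (X q)) = X q
          rw [map_one]; rfl⟩, fun h hh => ⟨by rw [mul_one, one_mul], hXP q h hh⟩⟩
      have hF : Function.Bijective F := by
        constructor
        · rintro ⟨a, b⟩ ⟨a', b'⟩ h
          have h3 : X (a, b) = X (a', b') := congrArg (fun q => q.1.2) h
          obtain ⟨h4, h5⟩ := hIJinj a b a' b' (hinj (congrArg Subtype.val h3))
          rw [h4, h5]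
        · rintro ⟨⟨g, x⟩, ⟨h3, h4, h5⟩, h6⟩
          obtain ⟨i, j, hi, hj, hx⟩ := keyx x (h6 u huP).2 (h6 v hvP).2 h4
          obtain ⟨a, σ, hg, hσ1, hσ2⟩ := keyg g (h6 u huP).1 (h6 v hvP).1
          have h5' : Commute (facts.phi g) (x : Fi24) := cj_fix.1 h5
          rw [hg, hx] at h5'
          have h7 := pow_five hσ1 hσ2 hi hj (hcomm a σ _ h5')
          have h8 : g ^ 5 = 1 := facts.phi_injective (by rw [map_pow, hg, hpow a σ h7, map_one])
          have h9 : g = 1 := by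
            rcases (Nat.dvd_prime (by norm_num : Nat.Prime 5)).1 (orderOf_dvd_of_pow_eq_one h8) with h | h
            · exact orderOf_eq_one_iff.1 h
            · exact absurd (by
                show 5 ∣ orderOf g
                rw [h]) h3
          obtain ⟨a', ha'⟩ : ∃ a', I a' = i := by
            rcases hi with rfl | rfl
            · exact ⟨0, rfl⟩
            · exact ⟨1, rfl⟩
          obtain ⟨b', hb'⟩ : ∃ b', J b' = j := by
            rcases hj with rfl | rfl
            · exact ⟨0, rfl⟩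
            · exact ⟨1, rfl⟩
          refine ⟨(a', b'), Subtype.ext (Prod.ext h9.symm (Subtype.ext ?_))⟩
          show PH (swap (I a') (J b')) = x
          rw [ha', hb', hx]
      rw [← Nat.card_congr (Equiv.ofBijective F hF), Nat.card_prod, Nat.card_fin]
    rw [h2]
  · have h1 := card_mod ρ lam lam_comm P hP (fun g => ¬ 5 ∣ orderOf g) hreg (fun x => lam x ≠ x) hQ
    refine h1.trans ?_
    have h2 : IsEmpty {q : Fi23 × (L : Set Fi24) // ((¬ 5 ∣ orderOf q.1) ∧ lam q.2 ≠ q.2 ∧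
        lam (ρ q.1 q.2) = q.2) ∧ ∀ h ∈ P, h * q.1 = q.1 * h ∧ ρ h q.2 = q.2} := by
      constructor
      rintro ⟨⟨g, x⟩, ⟨h3, h4, h5⟩, h6⟩
      obtain ⟨i, j, hi, hj, hx⟩ := keyx x (h6 u huP).2 (h6 v hvP).2 h4
      obtain ⟨a, σ, hg, hσ1, hσ2⟩ := keyg g (h6 u huP).1 (h6 v hvP).1
      have h7 : cj (gen .l * facts.phi g) x = x := by
        rw [map_mul]
        exact h5
      have h8 : gen .l * facts.phi g = w ^ a * PH (swap (7 : Fin 9) 8 * σ) := by
        rw [hg, map_mul, hl, ← mul_assoc, ← mul_assoc]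
        congr 1
        rw [← hl]
        exact ((hPw _).pow_right a).eq
      have h9 : Commute (gen .l * facts.phi g) (x : Fi24) := cj_fix.1 h7
      rw [h8, hx] at h9
      have hs1 : (swap (7 : Fin 9) 8 * σ) * c5 = c5 * (swap (7 : Fin 9) 8 * σ) := by
        rw [mul_assoc, hσ1, ← mul_assoc, ← c5_78, mul_assoc]
      have hs2 : (swap (7 : Fin 9) 8 * σ) * swap (7 : Fin 9) 8 = swap (7 : Fin 9) 8 * (swap (7 : Fin 9) 8 * σ) := by
        rw [mul_assoc, hσ2]
      have h10 := hpow a _ (pow_five hs1 hs2 hi hj (hcomm a _ _ h9))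
      rw [← h8] at h10
      have h11 := sgn_of_pow h10
      have h12 : sgn (gen .l) = -1 := sgn_L (gen_mem_L .l)
      rw [map_mul, facts.sgn_phi, h12] at h11
      exact absurd h11 (by decide)
    rw [Nat.card_of_isEmpty]

end Cfsg.Agent.H592.EP.Fi
end

-- part: H592/EP/FiFiveEv
section
/-!
# S4929, `Fi₂₃`, `p = 5` (helper592)
-/

set_option autoImplicit false
set_option maxRecDepth 100000

namespace Cfsg.Agent.H592.EP

open Equiv

theorem fix_diff {X : Type*} [Finite X] {l σ : Perm X} (h : Commute l σ) :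
    (Nat.card {x // σ x = x} : ℤ) - Nat.card {x // l (σ x) = x} =
      (Nat.card {x // l x ≠ x ∧ σ x = x} : ℤ) - Nat.card {x // l x ≠ x ∧ l (σ x) = x} := by
  rw [card_split (fun x => σ x = x) (fun x => l x = x), card_split (fun x => l (σ x) = x) (fun x => l x = x)]
  have e1 : Nat.card {x // σ x = x ∧ l x = x} = Nat.card {x // l (σ x) = x ∧ l x = x} := by
    refine Nat.card_congr (Equiv.subtypeEquivRight fun x => ?_)
    constructor
    · rintro ⟨h1, h2⟩
      exact ⟨by rw [h1, h2], h2⟩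
    · rintro ⟨h1, h2⟩
      refine ⟨?_, h2⟩
      rw [← Perm.mul_apply, h.eq, Perm.mul_apply, h2] at h1
      exact h1
  have e2 : Nat.card {x // σ x = x ∧ ¬ l x = x} = Nat.card {x // l x ≠ x ∧ σ x = x} :=
    Nat.card_congr (Equiv.subtypeEquivRight fun x => and_comm)
  have e3 : Nat.card {x // l (σ x) = x ∧ ¬ l x = x} = Nat.card {x // l x ≠ x ∧ l (σ x) = x} :=
    Nat.card_congr (Equiv.subtypeEquivRight fun x => and_comm)
  rw [e1, e2, e3]
  push_cast
  ring

namespace Fi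

open Cfsg Cfsg.Agent.Characters.Core
open Cfsg.Spor (Fi24 Fi23)

local notation "L" => Cfsg.Agent.R08.FiTwentyFour.L

/-- **`p = 5`.** -/
theorem evAt_five : Cfsg.Agent.H892.EP.EvAt 5 Fi23 := by
  classical
  intro M hM
  have hfin24 : Finite Fi24 := Cfsg.Agent.R08.FiTwentyFour.finite_Fi24
  have hfin23 : Finite Fi23 := Cfsg.Agent.R08.FiTwentyThree.finite_fi23
  have := Fintype.ofFinite Fi23
  have f5 : Fact (Nat.Prime 5) := ⟨by norm_num⟩
  have hP : M.IsPrime := hM.2.1.isPrime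
  obtain ⟨χ₁, χ₂, h1, h2, h3⟩ := exists_chars
  by_contra hcon
  push Not at hcon
  have hS : ∀ χ : IrrCharacter Fi23, 2 ∣ charDegree (χ : Fi23 → ℂ) →
      ∑ᶠ x ∈ {x : Fi23 | ¬ 5 ∣ orderOf x}, (χ : Fi23 → ℂ) x = 0 := by
    intro χ hχ
    by_contra h
    exact hcon χ (Cfsg.Agent.H892.EP.mem_of_regSum hM χ h) hχ
  have s1 := hS χ₁ (by rw [h1]; norm_num)
  have s2 := hS χ₂ (by rw [h2]; norm_num)
  rw [finsum_mem_eq_finite_toFinset_sum _ (Set.toFinite _)] at s1 s2
  set F := (Set.toFinite {x : Fi23 | ¬ 5 ∣ orderOf x}).toFinset with hF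
  have hmem : ∀ g, g ∈ F ↔ ¬ 5 ∣ orderOf g := fun g => by
    rw [hF, Set.Finite.mem_toFinset]
    rfl
  have s3 : ∑ g ∈ F, ((χ₁ : Fi23 → ℂ) g + (χ₂ : Fi23 → ℂ) g) = 0 := by
    rw [Finset.sum_add_distrib, s1, s2, add_zero]
  rw [Finset.sum_congr rfl fun g _ => h3 g, ← Finset.sum_div] at s3
  have s4 : ∑ g ∈ F, ((Nat.card {x // ρ g x = x} : ℂ) - Nat.card {x // lam (ρ g x) = x}) = 0 := by
    have := (div_eq_zero_iff).1 s3
    rcases this with h | h
    · exact h
    · exact absurd h two_ne_zero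
  have s5 : ∑ g ∈ F, ((Nat.card {x // ρ g x = x} : ℤ) - Nat.card {x // lam (ρ g x) = x}) = 0 := by
    exact_mod_cast s4
  rw [Finset.sum_congr rfl fun g _ => fix_diff (lam_comm g), Finset.sum_sub_distrib, ← Nat.cast_sum,
    ← Nat.cast_sum] at s5
  have e1 := sum_fix (fun g => ρ g) F (fun x => lam x ≠ x)
  have e2 := sum_fix (fun g => lam * ρ g) F (fun x => lam x ≠ x)
  simp only [Perm.mul_apply] at e2
  rw [e1, e2] at s5
  obtain ⟨c1, c2⟩ := count
  simp only [hmem] at s5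
  have s6 : Nat.card {q : Fi23 × (L : Set Fi24) // ¬ 5 ∣ orderOf q.1 ∧ lam q.2 ≠ q.2 ∧ ρ q.1 q.2 = q.2} =
      Nat.card {q : Fi23 × (L : Set Fi24) // ¬ 5 ∣ orderOf q.1 ∧ lam q.2 ≠ q.2 ∧ lam (ρ q.1 q.2) = q.2} := by
    have := sub_eq_zero.1 s5
    exact_mod_cast this
  rw [s6] at c1
  have c3 := c1.symm.trans c2
  exact absurd c3 (by decide)

end Fi

end Cfsg.Agent.H592.EP
end

-- part: H592/EP/Fi23
section
/-!
# S4929: the row of `Fi₂₃` (helper592)

3: the degree 782; 5: the degrees 25806 and 111826; 7, 11, 13, 17: cyclic Sylow subgroups, real elements;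
23: the degree 30888.
-/

set_option autoImplicit false
set_option maxRecDepth 100000

namespace Cfsg.Agent.H592.EP

open Cfsg Cfsg.Agent Subgroup Cfsg.Agent.H892.EP
open Cfsg.Spor (Fi23)

theorem pCore_le_sylow {G : Type*} [Group G] (p : ℕ) (P : Sylow p G) : pCore p G ≤ (P : Subgroup G) := by
  refine sSup_le ?_
  rintro N ⟨hN, hp⟩
  have := hN
  have h1 : IsPGroup p ↥((P : Subgroup G) ⊔ N) := P.2.to_sup_of_normal_right hp
  have h2 : (P : Subgroup G) ⊔ N = P := P.3 h1 le_sup_left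
  rw [← h2]
  exact le_sup_right

/-- in a group of Lie type of characteristic `p` the centralizer of a Sylow `p`-subgroup is a `p`-group -/
theorem exists_pow_of_lie {G : Type*} [Group G] [Finite G] {p : ℕ} [Fact p.Prime] (hG : IsLieTypeChar p G)
    (hd : p ∣ Nat.card G) (Q : Sylow p G) {c : G} (hc : ∀ y ∈ Q, y * c = c * y) : ∃ k : ℕ, c ^ p ^ k = 1 := by
  have hl := H330.Gow.locChar_of_lie hG
  have hQ : (Q : Subgroup G) ≠ ⊥ := by
    intro h
    have h1 := Q.card_eq_multiplicity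
    rw [h, card_bot] at h1
    have h2 : (Nat.card G).factorization p ≠ 0 := by
      have := (Fact.out : p.Prime).factorization_pos_of_dvd Nat.card_pos.ne' hd
      omega
    have h3 : 1 < p ^ (Nat.card G).factorization p := Nat.one_lt_pow h2 (Fact.out : p.Prime).one_lt
    omega
  have h1 := hl Q Q.isPGroup' hQ
  have hcN : c ∈ normalizer ((Q : Subgroup G) : Set G) := by
    rw [mem_normalizer_iff]
    intro y
    constructor
    · intro hy
      rw [← hc y hy, mul_inv_cancel_right]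
      exact hy
    · intro hy
      have h2 := hc _ hy
      have h3 : y = c * y * c⁻¹ := by
        have h4 : c * y * c⁻¹ * c = c * (c * y * c⁻¹) := h2
        rw [inv_mul_cancel_right] at h4
        exact mul_left_cancel h4
      rw [h3]
      exact hy
  set N := normalizer ((Q : Subgroup G) : Set G) with hN
  let QN : Sylow p N := Q.subtype le_normalizer
  have h2 : (⟨c, hcN⟩ : N) ∈ pCore p N := by
    apply h1
    rw [mem_centralizer_iff]
    intro y hy
    have h3 : y ∈ (QN : Subgroup N) := pCore_le_sylow p QN hy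
    have h4 : (y : G) ∈ Q := h3
    exact Subtype.ext (hc _ h4)
  have h3 : (⟨c, hcN⟩ : N) ∈ (QN : Subgroup N) := pCore_le_sylow p QN h2
  have h4 : c ∈ (Q : Subgroup G) := h3
  obtain ⟨k, hk⟩ := Q.isPGroup' ⟨c, h4⟩
  exact ⟨k, congrArg Subtype.val hk⟩

namespace Fi23Row

theorem card : Nat.card Fi23 = 4089470473293004800 := Cfsg.Agent.Fischer.Fi23Simple.card_Fi23

theorem fin : Finite Fi23 := Nat.finite_of_card_ne_zero (by rw [card]; norm_num)

theorem prime_cases {p : ℕ} (hp : p.Prime) (h : p ∣ 4089470473293004800) :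
    p = 2 ∨ p = 3 ∨ p = 5 ∨ p = 7 ∨ p = 11 ∨ p = 13 ∨ p = 17 ∨ p = 23 := by
  rw [show 4089470473293004800 = 2 ^ 18 * 3 ^ 13 * 5 ^ 2 * 7 * 11 * 13 * 17 * 23 by norm_num, hp.dvd_mul, hp.dvd_mul,
    hp.dvd_mul, hp.dvd_mul, hp.dvd_mul, hp.dvd_mul, hp.dvd_mul] at h
  have key : ∀ {q : ℕ}, q.Prime → p ∣ q → p = q := fun hq h1 => (Nat.prime_dvd_prime_iff_eq hp hq).1 h1
  rcases h with ((((((h | h) | h) | h) | h) | h) | h) | h
  · exact Or.inl (key (by norm_num) (hp.dvd_of_dvd_pow h))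
  · exact Or.inr (Or.inl (key (by norm_num) (hp.dvd_of_dvd_pow h)))
  · exact Or.inr (Or.inr (Or.inl (key (by norm_num) (hp.dvd_of_dvd_pow h))))
  · exact Or.inr (Or.inr (Or.inr (Or.inl (key (by norm_num) h))))
  · exact Or.inr (Or.inr (Or.inr (Or.inr (Or.inl (key (by norm_num) h)))))
  · exact Or.inr (Or.inr (Or.inr (Or.inr (Or.inr (Or.inl (key (by norm_num) h))))))
  · exact Or.inr (Or.inr (Or.inr (Or.inr (Or.inr (Or.inr (Or.inl (key (by norm_num) h)))))))
  · exact Or.inr (Or.inr (Or.inr (Or.inr (Or.inr (Or.inr (Or.inr (key (by norm_num) h)))))))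

/-- cyclic Sylow subgroups and a real element -/
theorem evAt_cyc {p : ℕ} [hp : Fact p.Prime] (hp2 : p ≠ 2) (h2 : ¬ p ^ 2 ∣ 4089470473293004800)
    (hr : H722.RealP.HasReal p Fi23) : EvAt p Fi23 := by
  have := fin
  obtain ⟨z, hz, hzr⟩ := hr.isConj
  refine evAt_of_real_cyclic hp2 (fun P => ?_) hz hzr
  obtain ⟨k, hk⟩ := P.isPGroup'.exists_card_eq
  have h1 : p ^ k ∣ 4089470473293004800 := by
    rw [← hk, ← card]
    exact Subgroup.card_subgroup_dvd_card _
  have h3 : k < 2 := by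
    by_contra hk2
    exact h2 ((pow_dvd_pow p (not_lt.1 hk2)).trans h1)
  interval_cases k
  · have := (Nat.card_eq_one_iff_unique.1 hk).1
    exact isCyclic_of_subsingleton
  · exact isCyclic_of_prime_card (by rw [hk, pow_one])

theorem lie_CC : IsLieTypeChar 3 ↥LThreeFi23.CC :=
  Or.inr (Or.inr (Or.inr (Or.inl ⟨ZMod 3, inferInstance, inferInstance, inferInstance, 3, le_rfl,
    by rw [ZMod.card]; decide, ⟨LThreeFi23.eO⟩⟩)))

/-- the centralizer of a Sylow 3-subgroup is a 3-group -/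
theorem cent_three : ∃ P : Sylow 3 Fi23, ∀ x ∈ centralizer ((P : Subgroup Fi23) : Set Fi23), ∃ k : ℕ, x ^ 3 ^ k = 1 := by
  have hfin := fin
  have f3 : Fact (Nat.Prime 3) := ⟨Nat.prime_three⟩
  obtain ⟨Q⟩ : Nonempty (Sylow 3 ↥LThreeFi23.CC) := inferInstance
  set E : Subgroup Fi23 := (Q : Subgroup ↥LThreeFi23.CC).map LThreeFi23.CC.subtype with hE
  have hcomm : ∀ c ∈ LThreeFi23.CC, Commute c LThreeFi23.uu := fun c hc =>
    mem_centralizer_singleton_iff.1 (LThreeFi23.CC_le hc)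
  have hEC : E ≤ LThreeFi23.CC := by
    rintro _ ⟨y, -, rfl⟩
    exact y.2
  have hP : IsPGroup 3 ↥(zpowers LThreeFi23.uu ⊔ E) := by
    refine IsPGroup.to_sup_of_normal_right' ?_ (Q.isPGroup'.map _) ?_
    · exact IsPGroup.of_card (n := 1) (by rw [Nat.card_zpowers, LThreeFi23.order_uu, pow_one])
    · rw [zpowers_le, mem_normalizer_iff]
      intro y
      have h1 : ∀ y, y ∈ E → LThreeFi23.uu * y * LThreeFi23.uu⁻¹ = y := by
        intro y hy
        rw [← (hcomm y (hEC hy)).eq, mul_inv_cancel_right]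
      constructor
      · intro hy
        rw [h1 y hy]
        exact hy
      · intro hy
        have h2 := h1 _ hy
        have h3 : LThreeFi23.uu * y * LThreeFi23.uu⁻¹ = y := by
          have h4 := mul_left_cancel (mul_right_cancel h2)
          exact h4
        rw [← h3]
        exact hy
  obtain ⟨P, hPle⟩ := hP.exists_le_sylow
  refine ⟨P, fun x hx => ?_⟩
  have hxE : ∀ y ∈ zpowers LThreeFi23.uu ⊔ E, y * x = x * y := fun y hy => mem_centralizer_iff.1 hx y (hPle hy)
  have hxu : LThreeFi23.uu * x = x * LThreeFi23.uu := hxE _ (mem_sup_left (mem_zpowers _))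
  obtain ⟨i, c, hc, hxc⟩ := LThreeFi23.exists_form (mem_centralizer_singleton_iff.2 hxu.symm)
  have hcE : ∀ y ∈ E, y * c = c * y := by
    intro y hy
    have h1 : Commute y x := hxE y (mem_sup_right hy)
    have h2 : c = (LThreeFi23.uu ^ i)⁻¹ * x := by rw [hxc]; group
    rw [h2]
    exact (((hcomm y (hEC hy)).pow_right i).inv_right).mul_right h1
  obtain ⟨k, hk⟩ := exists_pow_of_lie lie_CC (by rw [LThreeFi23.card_CC]; norm_num) Q (c := ⟨c, hc⟩) (by
    intro y hy
    exact Subtype.ext (hcE y (mem_map_of_mem _ hy)))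
  have hk' : c ^ 3 ^ k = 1 := congrArg Subtype.val hk
  refine ⟨k + 1, ?_⟩
  have h1 : Commute (LThreeFi23.uu ^ i) c := ((hcomm c hc).symm).pow_left i
  rw [hxc, h1.mul_pow, pow_succ 3 k, pow_mul c, hk', one_pow, mul_one, ← pow_mul, mul_comm i, mul_comm (3 ^ k) 3, mul_assoc,
    pow_mul]
  have h2 : LThreeFi23.uu ^ 3 = 1 := by
    rw [← LThreeFi23.order_uu]
    exact pow_orderOf_eq_one _
  rw [h2, one_pow]

theorem ev : Ev Fi23 := by
  intro p hp hp2 hd
  have := fin
  have hpF : Fact p.Prime := ⟨hp⟩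
  obtain ⟨⟨χ, hχ⟩, ⟨ψ, hψ⟩⟩ := H672.SporIM.fi23 (K := Fi23) ⟨MulEquiv.refl _⟩
  rw [card] at hd
  rcases prime_cases hp hd with rfl | rfl | rfl | rfl | rfl | rfl | rfl | rfl
  · exact absurd rfl hp2
  · obtain ⟨P, hP⟩ := cent_three
    exact H142.EP.evAt_of_centralizer P hP ψ (by rw [hψ]; norm_num) (by rw [hψ]; norm_num)
  · exact Fi.evAt_five
  · exact evAt_cyc (by norm_num) (by norm_num) (H30.RealFi.Fi23.of_fi22 (by norm_num) (by norm_num) H30.RealFi.Fi22.real7)
  · exact evAt_cyc (by norm_num) (by norm_num) H30.RealFi.Fi24.real11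
  · exact evAt_cyc (by norm_num) (by norm_num) (H30.RealFi.Fi23.of_fi22 (by norm_num) (by norm_num) H30.RealFi.Fi22.real13)
  · exact evAt_cyc (by norm_num) (by norm_num) H30.RealFi.Fi23.real17
  · obtain ⟨P⟩ : Nonempty (Sylow 23 Fi23) := inferInstance
    have hPc : Nat.card (P : Subgroup Fi23) = 23 := by
      obtain ⟨k, hk⟩ := P.isPGroup'.exists_card_eq
      have h1 : 23 ^ k ∣ 4089470473293004800 := by
        rw [← hk, ← card]
        exact Subgroup.card_subgroup_dvd_card _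
      have h2 : 23 ∣ Nat.card (P : Subgroup Fi23) := P.dvd_card_of_dvd_card (by rw [card]; norm_num)
      have h3 : k < 2 := by
        by_contra hk2
        exact absurd ((pow_dvd_pow 23 (not_lt.1 hk2)).trans h1) (by norm_num)
      interval_cases k
      · rw [hk] at h2
        norm_num at h2
      · rw [hk, pow_one]
    obtain ⟨h1, -⟩ := H961.SepFi23.data23 hPc
    refine H142.EP.evAt_of_centralizer P (fun x hx => ⟨1, ?_⟩) χ (by rw [hχ]; norm_num) (by rw [hχ]; norm_num)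
    rw [pow_one, ← h1]
    exact congrArg Subtype.val (pow_card_eq_one' (x := (⟨x, hx⟩ : centralizer ((P : Subgroup Fi23) : Set Fi23))))

end Fi23Row

/-- **The row of `Fi₂₃`.** -/
theorem row_fi23 : SpRow fun K => Spor.IsoFi23 K := by
  intro K _ _ _ h
  obtain ⟨e⟩ := h
  have := Fi23Row.fin
  exact Fi23Row.ev.tr e.symm

end Cfsg.Agent.H592.EP
end

private theorem dce_846efcd9a25c : _root_.True := by
  try have : _root_.True := by simp only [_root_.Cfsg.Agent.H592.EP.mu.congr_simp]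
  try have : _root_.True := by simp only [_root_.Cfsg.Agent.H592.EP.restr.congr_simp]
  exact _root_.True.intro
end

section
prune_inst 0xd1ebf8dba82bdfffff7e3fa694cdf991a00fffa6dff943ffe0e19f0b9f0b0049c5638509e010fc0ed6601410a87843fb7eeabfe26fd87ffffd1ff41ffbee4fe5f7b50811d080240f300ffe83f0678e6f000000000000000000000000000000000200000000

-- part: H652/EP/Own
section
set_option linter.all false
open scoped Cfsg.Agent.FastGrp

/-!
# S4929: the defining characteristic for all groups of Lie type, and `PSL₂(q)` (helper652)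

* `evAt_own` : `IsLieTypeChar r Y`, `r` odd: the principal `r`-block contains a character of even degree;
* `row_psl2` : `PSL₂(q)`, all odd primes.
-/

set_option autoImplicit false
set_option linter.unusedSectionVars false

namespace Cfsg.Agent.H652.EP

open Cfsg Cfsg.Agent.H892.EP

universe u

theorem two_dvd_card {S : Type u} [Group S] [Finite S] (hs : IsSimpleGroup S) (hc : ¬ IsMulCommutative S) :
    2 ∣ Nat.card S := by
  by_contra h
  have h1 : Odd (Nat.card S) := by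
    rw [← Nat.not_even_iff_odd]
    exact fun h2 => h h2.two_dvd
  have h2 : Group.IsSolvable S := S0205.result h1
  exact hc ⟨⟨fun a b => IsSimpleGroup.comm_iff_isSolvable.2 h2 a b⟩⟩

theorem nonab_lie {r : ℕ} (hr : r.Prime) {S : Type u} [Group S] [IsSimpleGroup S] (h : IsLieTypeChar r S) :
    ¬ IsMulCommutative S := by
  intro hc
  obtain ⟨a, b, hab⟩ := H400.LieLocal.exists_noncomm
    (H400.LieLocal.center_eq_bot (H979.LieSplit.hasSplit_of_isLieTypeChar hr h))
  exact hab (hc.is_comm.comm a b)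

/-- an even degree for the groups of Lie type of odd characteristic -/
theorem im_two_lie {r : ℕ} (hpr : r.Prime) (hr : r ≠ 2) {Y : Type u} [Group Y] [Finite Y] (h : IsLieTypeChar r Y) : H33.IM 2 Y := by
  have : Fact (Nat.Prime 2) := ⟨Nat.prime_two⟩
  have hs : IsSimpleGroup Y := H400.LieSimple.isSimple_of_lie h
  have hna : ¬ IsMulCommutative Y := nonab_lie hpr h
  have hd := two_dvd_card hs hna
  rcases h with h | h | h | h | h | h | h | h | h | h | h
  · obtain ⟨F, i1, i2, i3, n, h1, h2, h3⟩ := h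
    exact H33.im_psl ⟨F, i1, i2, n, h1, h2, h3⟩ hd
  · obtain ⟨F, i1, i2, i3, n, h1, h2, h3⟩ := h
    exact H477.HC.im_psp Y ⟨F, i1, i2, n, h1, h2, h3⟩ hs hd H579.RkThree.leftSp43 H579.RkThree.leftSp62
      H579.RkThree.leftSp63
  · obtain ⟨F, i1, i2, i3, n, q, h1, h2, h3, h4⟩ := h
    exact H33.im_psu ⟨F, i1, i2, n, q, h1, h2, h3, h4⟩ hs hd
  · obtain ⟨F, i1, i2, i3, n, h1, h2, h3⟩ := h
    exact H477.HC.im_omega_odd Y ⟨F, i1, i2, n, h1, h2, h3⟩ hs hd
  · obtain ⟨F, i1, i2, i3, n, h1, h2⟩ := h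
    exact H477.HC.im_omega_plus Y ⟨F, i1, i2, n, h1, h2⟩ hs hd
  · obtain ⟨F, i1, i2, i3, n, a, b, h1, h2, h3⟩ := h
    exact H477.HC.im_omega_minus Y ⟨F, i1, i2, n, a, b, h1, h2, h3⟩ hs hd H579.RkThree.leftO8m2
  · obtain ⟨F, i1, i2, i3, h | h | h | h | h⟩ := h
    · exact H33.im_exceptional (Or.inl ⟨F, i1, i2, h⟩) hs hd
    · exact H33.im_exceptional (Or.inr (Or.inl ⟨F, i1, i2, h⟩)) hs hd
    · exact H33.im_exceptional (Or.inr (Or.inr (Or.inl ⟨F, i1, i2, h⟩))) hs hd
    · exact H33.im_exceptional (Or.inr (Or.inr (Or.inr (Or.inl ⟨F, i1, i2, h⟩)))) hs hd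
    · exact H33.im_exceptional (Or.inr (Or.inr (Or.inr (Or.inr (Or.inl ⟨F, i1, i2, h⟩))))) hs hd
  · obtain ⟨F, i1, i2, i3, q, hq, h | h⟩ := h
    · exact H33.im_exceptional (Or.inr (Or.inr (Or.inr (Or.inr (Or.inr (Or.inl ⟨F, i1, i2, q, hq, h⟩)))))) hs hd
    · exact H33.im_exceptional (Or.inr (Or.inr (Or.inr (Or.inr (Or.inr (Or.inr (Or.inl ⟨F, i1, i2, q, hq, h⟩))))))) hs hd
  · exact absurd h.1 hr
  · exact absurd h.1 hr
  · exact H732.DegRee.im Y h.2 hs hd

/-- **The defining characteristic.** -/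
theorem evAt_own {r : ℕ} [hp : Fact r.Prime] (hr : r ≠ 2) {Y : Type u} [Group Y] [Finite Y]
    (h : IsLieTypeChar r Y) : EvAt r Y := by
  intro M hM
  obtain ⟨χ, hχ⟩ := im_two_lie hp.out hr h
  exact ⟨χ, H133.PB.mem_principal_of_lie hp.out Nat.prime_two hr.symm h χ hχ hM, hχ⟩

section psl2

open Matrix Cfsg.Agent.H984.SLTwo

variable {F : Type u} [Field F] [DecidableEq F] [Fintype F]

local notation "SL" => Matrix.SpecialLinearGroup (Fin 2) F
local notation "M₂" => Matrix (Fin 2) (Fin 2) F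

/-- from `SL₂` to `PSL₂` -/
theorem real_psl2 {p : ℕ} [hp : Fact p.Prime] {x : SL} (hx : orderOf x = p) (hNS : NS (x : M₂))
    (hc : IsConj x x⁻¹) : ∃ z : Matrix.ProjectiveSpecialLinearGroup (Fin 2) F, orderOf z = p ∧ IsConj z z⁻¹ := by
  obtain ⟨y, hy⟩ := isConj_iff.1 hc
  refine ⟨QuotientGroup.mk x, ?_, isConj_iff.2 ⟨QuotientGroup.mk y, ?_⟩⟩
  · have h1 : orderOf (QuotientGroup.mk x : Matrix.ProjectiveSpecialLinearGroup (Fin 2) F) ∣ p := by
      rw [← hx]
      exact orderOf_map_dvd (QuotientGroup.mk' _) x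
    rcases (Nat.dvd_prime hp.out).1 h1 with h2 | h2
    · exfalso
      rw [orderOf_eq_one_iff, QuotientGroup.eq_one_iff] at h2
      exact not_NS_of_mem_center h2 hNS
    · exact h2
  · rw [← QuotientGroup.mk_mul, ← QuotientGroup.mk_inv, ← QuotientGroup.mk_mul, ← QuotientGroup.mk_inv, hy]

theorem upp_mul_upp (a b : Fˣ) : (upp a 0 : SL) * upp b 0 = upp (a * b) 0 := by
  apply Matrix.SpecialLinearGroup.ext
  intro i j
  rw [Matrix.SpecialLinearGroup.coe_mul, coe_upp, coe_upp, coe_upp]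
  fin_cases i <;> fin_cases j <;> simp [Matrix.mul_apply, Fin.sum_univ_two, mul_comm]

theorem exists_real_psl2 {p : ℕ} [hp : Fact p.Prime] (hp2 : p ≠ 2) (hd : p ∣ Fintype.card F ^ 2 - 1) :
    ∃ z : Matrix.ProjectiveSpecialLinearGroup (Fin 2) F, orderOf z = p ∧ IsConj z z⁻¹ := by
  have hq : 2 ≤ Fintype.card F := Fintype.one_lt_card
  have h1 : Fintype.card F ^ 2 - 1 = (Fintype.card F + 1) * (Fintype.card F - 1) := by
    rw [← Nat.sq_sub_sq, one_pow]
  rw [h1] at hd
  rcases (hp.out.dvd_mul).1 hd with h | h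
  · obtain ⟨g, hg⟩ := exists_ell (F := F)
    have hcc := card_cent_ell g hg
    obtain ⟨c, hc⟩ := exists_prime_orderOf_dvd_card' (G := Subgroup.centralizer ({g} : Set SL)) p (by rw [hcc]; exact h)
    have hc' : orderOf (c : SL) = p := by rw [Subgroup.orderOf_coe, hc]
    have hNS : NS ((c : SL) : M₂) := by
      by_contra hn
      rcases scalar_cases hn with h5 | h5
      · rw [h5, upp_one_zero, orderOf_one] at hc'
        exact hp.out.one_lt.ne hc'
      · have h6 : (c : SL) ^ 2 = 1 := by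
          rw [h5, sq]
          exact z0_mul_self
        have h7 := orderOf_dvd_of_pow_eq_one h6
        rw [hc'] at h7
        exact hp2 ((Nat.prime_dvd_prime_iff_eq hp.out Nat.prime_two).1 h7)
    exact real_psl2 hc' hNS (isConj_inv_of_ell (ell_of_mem_cent hg c.2 hNS))
  · obtain ⟨a, ha⟩ := exists_prime_orderOf_dvd_card' (G := Fˣ) p (by
      rw [Nat.card_eq_fintype_card, Fintype.card_units]; exact h)
    have hne : a⁻¹ ≠ a := by
      intro h5
      have h6 : a ^ 2 = 1 := by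
        rw [sq]
        nth_rewrite 1 [← h5]
        exact inv_mul_cancel a
      have h7 := orderOf_dvd_of_pow_eq_one h6
      rw [ha] at h7
      exact hp2 ((Nat.prime_dvd_prime_iff_eq hp.out Nat.prime_two).1 h7)
    let f : Fˣ →* SL :=
      { toFun := fun b => upp b 0
        map_one' := upp_one_zero
        map_mul' := fun b c => (upp_mul_upp b c).symm }
    have hf : Function.Injective f := fun b c h5 => (upp_inj h5).1
    have hx : orderOf (upp a 0 : SL) = p := by
      rw [← ha]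
      exact orderOf_injective f hf a
    have hNS := NS_upp_split hne (0 : F)
    refine real_psl2 hx hNS (isConj_of_tr hNS (NS_inv hNS) (tr_inv _).symm (Or.inr ?_))
    intro h5
    apply hne
    have h6 : tr (upp a 0 : M₂) = (a : F) + ((a⁻¹ : Fˣ) : F) := by
      unfold tr
      rw [coe_upp]
      simp
    rw [h6] at h5
    have h7 : ((a : F) - ((a⁻¹ : Fˣ) : F)) ^ 2 = 0 := by
      have h8 : (a : F) * ((a⁻¹ : Fˣ) : F) = 1 := by rw [← Units.val_mul, mul_inv_cancel, Units.val_one]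
      linear_combination h5 - 4 * h8
    have h8 := pow_eq_zero_iff (two_ne_zero) |>.1 h7
    exact (Units.ext (sub_eq_zero.1 h8)).symm

end psl2

theorem row_psl2 : ∀ (F : Type) [Field F] [Fintype F], 4 ≤ Fintype.card F →
    Ev (Matrix.ProjectiveSpecialLinearGroup (Fin 2) F) := by
  classical
  intro F _ _ h4 p hp hp2 hd
  have : Fact p.Prime := ⟨hp⟩
  have := H452.FprPsl2.pfin (F := F)
  by_cases hF : p ∣ Fintype.card F
  · have hch : CharP F p := by
      obtain ⟨r, hr⟩ := CharP.exists F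
      have hr' : Fact r.Prime := ⟨CharP.char_is_prime F r⟩
      obtain ⟨N, -, hN⟩ := FiniteField.card F r
      rw [hN] at hF
      have h5 := (Nat.prime_dvd_prime_iff_eq hp hr'.out).1 (hp.dvd_of_dvd_pow hF)
      rw [h5]
      exact hr
    exact evAt_own hp2 (Or.inl ⟨F, inferInstance, inferInstance, hch, 2, le_rfl, fun _ => h4, ⟨MulEquiv.refl _⟩⟩)
  · have h5 : Nat.card (Matrix.SpecialLinearGroup (Fin 2) F) = Fintype.card F * (Fintype.card F ^ 2 - 1) :=
      H984.SLTwo.card_SL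
    have h6 : p ∣ Nat.card (Matrix.SpecialLinearGroup (Fin 2) F) := hd.trans (Subgroup.card_quotient_dvd_card _)
    rw [h5] at h6
    obtain ⟨z, hz, hr⟩ := exists_real_psl2 (F := F) hp2 ((hp.dvd_mul.1 h6).resolve_left hF)
    exact evAt_of_real_cyclic hp2 (fun P => H452.FprPsl2.psl_cyclic hp2 hF P) hz hr

end Cfsg.Agent.H652.EP
end

-- part: H697/EP/PsuTheta_mg
section
prune_inst 0x200000000080000000000000000000000000000000040000000000000000000000000000000000010000000000000000000000000000000000a000000000000000000040000000000000000000000000000000000000000000000000000000000000000000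
set_option linter.all false
open scoped Cfsg.Agent.FastGrp

-- part: H697/EP/PsuMid
section
/-!
# S4929: the middle Levi subgroup `SU_k(q)` of `PSU_n(q)`, `n - k` even (helper697)

`emb`: the embedding `GL(F^k) → GL(F^(k+l))`; `comb`: the Witt frame of an orthogonal sum; `mj_eq` : the subgroup `M_J`
for the last nodes is the image of `SU_k(q)`; `good_psu_mid`.
-/

set_option autoImplicit false
set_option linter.unusedSectionVars false

namespace Cfsg.Agent.H697.EP.Mid

open Cfsg Cfsg.Agent.LieClassical.HermBasic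
open Cfsg.Agent.TitsThree.Siegel Cfsg.Agent.TitsThree.SiegelGen Cfsg.Agent.TitsThree.WittFrame
open Cfsg.Agent.TitsThree.WBridge Cfsg.Agent.TitsThree.KSideU Cfsg.Agent.TitsThree.KSideUDesc
open Cfsg.Agent.TitsThree.FrameCN

universe u

variable {F : Type u} [Field F] {q k l : ℕ}

/-! ### Orthogonal sums -/

/-- the two components -/
def spl (v : Fin (k + l) → F) : Fin k → F := fun i => v (Fin.castAdd l i)
def spr (v : Fin (k + l) → F) : Fin l → F := fun i => v (Fin.natAdd k i)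

theorem append_sp (v : Fin (k + l) → F) : Fin.append (spl v) (spr v) = v := Fin.append_castAdd_natAdd

theorem spl_append (u : Fin k → F) (w : Fin l → F) : spl (Fin.append u w) = u := by
  funext i; exact Fin.append_left _ _ _

theorem spr_append (u : Fin k → F) (w : Fin l → F) : spr (Fin.append u w) = w := by
  funext i; exact Fin.append_right _ _ _

theorem append_add (u u' : Fin k → F) (w w' : Fin l → F) :
    Fin.append (u + u') (w + w') = Fin.append u w + Fin.append u' w' := by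
  funext i
  refine Fin.addCases (fun i => ?_) (fun i => ?_) i
  · simp [Fin.append_left]
  · simp [Fin.append_right]

theorem append_smul (c : F) (u : Fin k → F) (w : Fin l → F) :
    Fin.append (c • u) (c • w) = c • Fin.append u w := by
  funext i
  refine Fin.addCases (fun i => ?_) (fun i => ?_) i
  · simp [Fin.append_left]
  · simp [Fin.append_right]

theorem herm_append (u u' : Fin k → F) (w w' : Fin l → F) :
    hermForm (k + l) F q (Fin.append u w) (Fin.append u' w') = hermForm k F q u u' + hermForm l F q w w' := by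
  unfold hermForm
  rw [Fin.sum_univ_add]
  simp only [Fin.append_left, Fin.append_right, _root_.Fin.append_left, _root_.Fin.append_right]

/-- the inclusion of the first summand -/
def inn (l : ℕ) : (Fin k → F) →ₗ[F] (Fin (k + l) → F) where
  toFun u := Fin.append u 0
  map_add' u v := by rw [← append_add, add_zero]
  map_smul' c u := by rw [RingHom.id_apply, ← append_smul, smul_zero]

/-- the inclusion of the second summand -/
def out (k : ℕ) : (Fin l → F) →ₗ[F] (Fin (k + l) → F) where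
  toFun u := Fin.append 0 u
  map_add' u v := by rw [← append_add, add_zero]
  map_smul' c u := by rw [RingHom.id_apply, ← append_smul, smul_zero]

theorem inn_apply (u : Fin k → F) : inn l u = Fin.append u 0 := rfl
theorem out_apply (u : Fin l → F) : out k u = Fin.append 0 u := rfl

/-- the embedding of the linear groups -/
def emb (F : Type u) [Field F] (k l : ℕ) :
    ((Fin k → F) ≃ₗ[F] (Fin k → F)) →* ((Fin (k + l) → F) ≃ₗ[F] (Fin (k + l) → F)) where
  toFun g :=
    { toFun := fun v => Fin.append (g (spl v)) (spr v)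
      invFun := fun v => Fin.append (g.symm (spl v)) (spr v)
      map_add' := fun u v => by
        rw [← append_add]
        congr 1
        exact map_add g _ _
      map_smul' := fun c v => by
        rw [RingHom.id_apply, ← append_smul]
        congr 1
        exact map_smul g _ _
      left_inv := fun v => by
        simp only [spl_append, spr_append, LinearEquiv.symm_apply_apply, append_sp]
      right_inv := fun v => by
        simp only [spl_append, spr_append, LinearEquiv.apply_symm_apply, append_sp] }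
  map_one' := by
    ext1 v
    exact append_sp v
  map_mul' g h := by
    ext1 v
    show Fin.append (g (h (spl v))) (spr v) = Fin.append (g (spl (Fin.append (h (spl v)) (spr v)))) (spr (Fin.append _ _))
    rw [spl_append, spr_append]

theorem emb_apply (g : (Fin k → F) ≃ₗ[F] (Fin k → F)) (v : Fin (k + l) → F) :
    emb F k l g v = Fin.append (g (spl v)) (spr v) := rfl

variable [Fintype F] (hF : Fintype.card F = q ^ 2)

theorem h_inn (u : Fin k → F) (v : Fin (k + l) → F) : hermForm (k + l) F q (inn l u) v = hermForm k F q u (spl v) := by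
  conv_lhs => rw [← append_sp v]
  rw [inn_apply, herm_append, herm_zero_left, add_zero]

include hF in
theorem h_inn' (u : Fin k → F) (v : Fin (k + l) → F) : hermForm (k + l) F q v (inn l u) = hermForm k F q (spl v) u := by
  conv_lhs => rw [← append_sp v]
  rw [inn_apply, herm_append, herm_zero_right hF, add_zero]

theorem h_inn_inn (u v : Fin k → F) : hermForm (k + l) F q (inn l u) (inn l v) = hermForm k F q u v := by
  rw [h_inn, inn_apply, spl_append]

theorem ok_inn {w : Fin k → F} {c : F} (h : (PU hF k).ok w c) : (PU hF (k + l)).ok (inn l w) c := by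
  rw [ok_iff] at h ⊢
  rw [h_inn_inn]
  exact h

theorem emb_sie {u w : Fin k → F} {c : F} (huu : (HU hF k).h u u = 0) (huw : (HU hF k).h u w = 0)
    (huu' : (HU hF (k + l)).h (inn l u) (inn l u) = 0) (huw' : (HU hF (k + l)).h (inn l u) (inn l w) = 0) :
    emb F k l ((HU hF k).sie u w c huu huw) = (HU hF (k + l)).sie (inn l u) (inn l w) c huu' huw' := by
  ext1 v
  rw [emb_apply, HForm.sie_apply, HForm.sie_apply]
  simp only [HU_h, HU_ε, h_inn' hF]
  conv_rhs => rw [← append_sp v]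
  rw [spl_append]
  simp only [inn_apply, ← append_smul, smul_zero]
  have hsub : ∀ (a b : Fin k → F) (c d : Fin l → F), Fin.append a c - Fin.append b d = Fin.append (a - b) (c - d) := by
    intro a b c d
    rw [sub_eq_iff_eq_add, ← append_add, sub_add_cancel, sub_add_cancel]
  rw [← append_add, hsub, ← append_add]
  simp only [_root_.inv_one, _root_.one_mul, _root_.add_zero, _root_.sub_zero]

/-! ### The frame -/

section Frm

variable {a m : ℕ} (W1 : WFrame (PU hF l) a) (W2 : WFrame (PU hF k) m)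

/-- the vectors `e` of the sum -/
def ce (e1 : Fin a → (Fin l → F)) (e2 : Fin m → (Fin k → F)) : Fin (a + m) → (Fin (k + l) → F) :=
  Fin.append (fun i => out k (e1 i)) (fun j => inn l (e2 j))

theorem ce_left (e1 : Fin a → (Fin l → F)) (e2 : Fin m → (Fin k → F)) (i : Fin a) :
    ce e1 e2 (Fin.castAdd m i) = out k (e1 i) := Fin.append_left _ _ _

theorem ce_right (e1 : Fin a → (Fin l → F)) (e2 : Fin m → (Fin k → F)) (i : Fin m) :
    ce e1 e2 (Fin.natAdd a i) = inn l (e2 i) := Fin.append_right _ _ _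

theorem h_out_out (u v : Fin l → F) : hermForm (k + l) F q (out k u) (out k v) = hermForm l F q u v := by
  rw [out_apply, out_apply, herm_append, herm_zero_left, zero_add]

include hF in
theorem h_inn_out (u : Fin k → F) (v : Fin l → F) : hermForm (k + l) F q (inn l u) (out k v) = 0 := by
  rw [h_inn, out_apply, spl_append]
  unfold hermForm
  refine Finset.sum_eq_zero fun i _ => ?_
  rw [Pi.zero_apply, zero_pow_q hF, mul_zero]

include hF in
theorem h_out_inn (u : Fin l → F) (v : Fin k → F) : hermForm (k + l) F q (out k u) (inn l v) = 0 := by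
  rw [h_inn' hF, out_apply, spl_append, herm_zero_left]

/-- the frame of the sum -/
def comb (hW : W1.V0 = ⊥) : WFrame (PU hF (k + l)) (a + m) where
  e := ce W1.e W2.e
  f := ce W1.f W2.f
  V0 := W2.V0.map (inn l)
  ee i j := by
    rw [HU_h]
    refine Fin.addCases (fun i => ?_) (fun i => ?_) i <;> refine Fin.addCases (fun j => ?_) (fun j => ?_) j
    · rw [ce_left, ce_left, h_out_out]; exact W1.ee i j
    · rw [ce_left, ce_right, h_out_inn hF]
    · rw [ce_left, ce_right, h_inn_out hF]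
    · rw [ce_right, ce_right, h_inn_inn]; exact W2.ee i j
  ff i j := by
    rw [HU_h]
    refine Fin.addCases (fun i => ?_) (fun i => ?_) i <;> refine Fin.addCases (fun j => ?_) (fun j => ?_) j
    · rw [ce_left, ce_left, h_out_out]; exact W1.ff i j
    · rw [ce_left, ce_right, h_out_inn hF]
    · rw [ce_left, ce_right, h_inn_out hF]
    · rw [ce_right, ce_right, h_inn_inn]; exact W2.ff i j
  ef i j := by
    rw [HU_h]
    refine Fin.addCases (fun i => ?_) (fun i => ?_) i <;> refine Fin.addCases (fun j => ?_) (fun j => ?_) j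
    · rw [ce_left, ce_left, h_out_out]
      have := W1.ef i j
      rw [HU_h] at this
      rw [this]
      simp
    · rw [ce_left, ce_right, h_out_inn hF, if_neg]
      intro h
      have := congrArg Fin.val h
      simp at this
      omega
    · rw [ce_left, ce_right, h_inn_out hF, if_neg]
      intro h
      have := congrArg Fin.val h
      simp at this
      omega
    · rw [ce_right, ce_right, h_inn_inn]
      have := W2.ef i j
      rw [HU_h] at this
      rw [this]
      simp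
  fe i j := by
    rw [HU_h]
    refine Fin.addCases (fun i => ?_) (fun i => ?_) i <;> refine Fin.addCases (fun j => ?_) (fun j => ?_) j
    · rw [ce_left, ce_left, h_out_out]
      have := W1.fe i j
      rw [HU_h] at this
      rw [this]
      simp [HU_ε]
    · rw [ce_left, ce_right, h_out_inn hF, if_neg]
      intro h
      have := congrArg Fin.val h
      simp at this
      omega
    · rw [ce_left, ce_right, h_inn_out hF, if_neg]
      intro h
      have := congrArg Fin.val h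
      simp at this
      omega
    · rw [ce_right, ce_right, h_inn_inn]
      have := W2.fe i j
      rw [HU_h] at this
      rw [this]
      simp [HU_ε]
  e_sing i := by
    rw [sing_iff]
    refine Fin.addCases (fun i => ?_) (fun i => ?_) i
    · rw [ce_left, h_out_out]; exact (sing_iff hF).1 (W1.e_sing i)
    · rw [ce_right, h_inn_inn]; exact (sing_iff hF).1 (W2.e_sing i)
  f_sing i := by
    rw [sing_iff]
    refine Fin.addCases (fun i => ?_) (fun i => ?_) i
    · rw [ce_left, h_out_out]; exact (sing_iff hF).1 (W1.f_sing i)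
    · rw [ce_right, h_inn_inn]; exact (sing_iff hF).1 (W2.f_sing i)
  V0e w hw i := by
    obtain ⟨v, hv, rfl⟩ := hw
    rw [HU_h]
    refine Fin.addCases (fun i => ?_) (fun i => ?_) i
    · rw [ce_left, h_inn_out hF]
    · rw [ce_right, h_inn_inn]; exact W2.V0e v hv i
  V0f w hw i := by
    obtain ⟨v, hv, rfl⟩ := hw
    rw [HU_h]
    refine Fin.addCases (fun i => ?_) (fun i => ?_) i
    · rw [ce_left, h_inn_out hF]
    · rw [ce_right, h_inn_inn]; exact W2.V0f v hv i
  aniso w hw hs := by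
    obtain ⟨v, hv, rfl⟩ := hw
    rw [sing_iff, h_inn_inn] at hs
    rw [W2.aniso v hv ((sing_iff hF).2 hs), map_zero]
  span v := by
    obtain ⟨a1, b1, w1, hw1, h1⟩ := W1.span (spr v)
    obtain ⟨a2, b2, w2, hw2, h2⟩ := W2.span (spl v)
    rw [hW] at hw1
    have hw1' : w1 = 0 := (Submodule.mem_bot F).1 hw1
    subst hw1'
    refine ⟨Fin.append a1 a2, Fin.append b1 b2, inn l w2, ⟨w2, hw2, rfl⟩, ?_⟩
    rw [Fin.sum_univ_add, Fin.sum_univ_add]
    simp only [Fin.append_left, Fin.append_right, ce_left, ce_right]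
    have h3 : v = out k (spr v) + inn l (spl v) := by
      rw [out_apply, inn_apply, ← append_add, zero_add, add_zero, append_sp]
    rw [h3]
    conv_lhs => rw [h1, h2]
    simp only [map_add, map_sum, map_smul, add_zero]
    abel

theorem comb_b (hW : W1.V0 = ⊥) (j : Fin m) (s : Bool) :
    (toFrame (comb hF W1 W2 hW)).b (Fin.natAdd a j, s) = inn l ((toFrame W2).b (j, s)) := by
  cases s
  · exact ce_right _ _ _
  · exact ce_right _ _ _

theorem emb_X (hW : W1.V0 = ⊥) (i j : Fin m) (s t : Bool) (c : F) :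
    emb F k l ((toFrame W2).X (i, s) (j, t) c) =
      (toFrame (comb hF W1 W2 hW)).X (Fin.natAdd a i, s) (Fin.natAdd a j, t) c := by
  by_cases h : i = j
  · subst h
    rw [Frame.X, dif_neg (by simp), Frame.X, dif_neg (by simp), map_one]
  · have h1 : ((i, s) : Fin m × Bool).1 ≠ ((j, t) : Fin m × Bool).1 := h
    have h2 : ((Fin.natAdd a i, s) : Fin (a + m) × Bool).1 ≠ ((Fin.natAdd a j, t) : Fin (a + m) × Bool).1 := by
      intro h3
      apply h
      have := congrArg Fin.val h3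
      simp at this
      exact Fin.ext this
    rw [Frame.X_eq _ h1, Frame.X_eq _ h2]
    have e1 : (toFrame (comb hF W1 W2 hW)).sc (Fin.natAdd a j, t) c • (toFrame (comb hF W1 W2 hW)).b (Fin.natAdd a j, t) =
        inn l ((toFrame W2).sc (j, t) c • (toFrame W2).b (j, t)) := by
      rw [map_smul, comb_b hF]
      rfl
    rw [emb_sie hF _ _ (by rw [HU_h, h_inn_inn]; exact (toFrame W2).hb_self (i, s))
      (by rw [HU_h, h_inn_inn]; exact (toFrame W2).h_smul_b h1 _)]
    exact HForm.sie_congr _ _ _ _ _ (comb_b hF W1 W2 hW i s).symm e1.symm rfl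

/-- the admissible pair -/
def adm (hW : W1.V0 = ⊥) (p : (toFrame W2).Adm) : (toFrame (comb hF W1 W2 hW)).Adm :=
  ⟨inn l p.w, p.c, ⟨⟨p.w, p.ok.1, rfl⟩, ok_inn hF p.ok.2⟩⟩

theorem adm_surj (hW : W1.V0 = ⊥) (p : (toFrame (comb hF W1 W2 hW)).Adm) : ∃ p', adm hF W1 W2 hW p' = p := by
  obtain ⟨w, c, ⟨v, hv, rfl⟩, hc⟩ := p
  refine ⟨⟨v, c, hv, ?_⟩, rfl⟩
  rw [ok_iff] at hc ⊢
  rw [h_inn_inn] at hc
  exact hc

theorem emb_Z (hW : W1.V0 = ⊥) (i : Fin m) (s : Bool) (p : (toFrame W2).Adm) :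
    emb F k l ((toFrame W2).Z (i, s) p) =
      (toFrame (comb hF W1 W2 hW)).Z (Fin.natAdd a i, s) (adm hF W1 W2 hW p) := by
  rw [Frame.Z, Frame.Z]
  rw [emb_sie hF _ _ (by rw [HU_h, h_inn_inn]; exact (toFrame W2).hb_self (i, s))
      (by rw [HU_h, h_inn_inn]; exact (toFrame W2).h0 (i, s) _ ((toFrame W2).ok_mem p.ok))]
  exact HForm.sie_congr _ _ _ _ _ (comb_b hF W1 W2 hW i s).symm rfl rfl

end Frm

/-! ### The homomorphism `SU_k → PSU_(k+l)` -/

section Psi

variable (hk : 3 ≤ k)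

include hF hk in
theorem emb_mem (l : ℕ) (A : SU k F q) : emb F k l (toLin F q k A) ∈ IU F q (k + l) := by
  have hK : ((IU F q (k + l)).comap ((emb F k l).comp (toLin F q k))) = ⊤ := by
    refine eq_top_of_sie hF hk _ fun u w c huu huw hok => ?_
    obtain ⟨g, hg⟩ := sie_mem hF huu huw hok
    refine ⟨g, ?_, hg⟩
    rw [SetLike.mem_coe, Subgroup.mem_comap, MonoidHom.comp_apply, hg,
      emb_sie hF huu huw (by rw [HU_h, h_inn_inn]; exact huu) (by rw [HU_h, h_inn_inn]; exact huw)]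
    exact sie_mem hF _ _ (ok_inn hF hok)
  have h1 : A ∈ ((IU F q (k + l)).comap ((emb F k l).comp (toLin F q k))) := hK ▸ Subgroup.mem_top A
  exact h1

/-- the embedding of the special unitary group -/
noncomputable def emb' (l : ℕ) : SU k F q →* IU F q (k + l) :=
  ((emb F k l).comp (toLin F q k)).codRestrict (IU F q (k + l)) (emb_mem hF hk l)

/-- the homomorphism into the projective group -/
noncomputable def psi (l : ℕ) : SU k F q →* PSU (k + l) F q := (toPSU F q (k + l)).comp (emb' hF hk l)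

theorem psi_apply (l : ℕ) (A : SU k F q) {g : (Fin (k + l) → F) ≃ₗ[F] (Fin (k + l) → F)} (hg : g ∈ IU F q (k + l))
    (e : emb F k l (toLin F q k A) = g) : psi hF hk l A = toPSU F q (k + l) ⟨g, hg⟩ := by
  subst e
  rfl

theorem psi_injective (hl : 0 < l) : Function.Injective (psi hF hk l) := by
  rw [injective_iff_map_eq_one]
  intro A hA
  obtain ⟨c, hc⟩ := scalar_of_toPSU_eq_one hF (by omega) _ hA
  have hc' : ∀ v, emb F k l (toLin F q k A) v = c • v := hc
  have h1 : c = 1 := by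
    have h2 := congrArg spr (hc' (Fin.append 0 (fun _ => 1)))
    rw [emb_apply, spr_append, spr_append, ← append_smul, spr_append] at h2
    have h3 := congrFun h2 ⟨0, hl⟩
    simpa using h3.symm
  subst h1
  apply toLin_injective
  rw [map_one]
  ext1 u
  have h2 := congrArg spl (hc' (Fin.append u 0))
  rwa [emb_apply, spl_append, spl_append, one_smul, spl_append] at h2

end Psi

/-! ### The middle Levi subgroup -/

section Levi

open Cfsg.Agent.ChevalleyStructure.CoxeterGeom Cfsg.Agent.Tits.Roots Cfsg.Agent.Nodes.TypeC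
open Cfsg.Agent.Nodes.Comb Cfsg.Agent.Nodes.Reps Cfsg.Agent.Nodes.WittRoot Cfsg.Agent.Nodes.BNOf
open Cfsg.Agent.Nodes.WittRGD Cfsg.Agent.Nodes.RGDLib Cfsg.Agent.Nodes.StabComb Cfsg.Agent.Nodes.WittModel
open Cfsg.Agent.TitsThree Cfsg.Agent.H53.HC

theorem ee_apply_eq_zero {n a : ℕ} {x : Fin n → ℤ} (h : ∀ j : Fin n, (j : ℕ) < a → x j = 0) {i : Fin n}
    (hi : (i : ℕ) < a) : ee x i = 0 := by
  unfold ee
  rw [Finset.sum_apply]
  refine Finset.sum_eq_zero fun j _ => ?_
  rw [Pi.smul_apply]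
  by_cases hj : (j : ℕ) < a
  · rw [h j hj, zero_smul]
  · have h1 : bt j i = 0 := by
      unfold bt
      rw [Pi.add_apply, wt_apply, wt_apply, if_neg (fun e => by rw [e] at hi; exact hj hi), if_neg, add_zero]
      intro e
      unfold nx at e
      split_ifs at e with h2
      · rw [e] at hi
        simp at hi
        omega
      · rw [e] at hi
        exact hj hi
    rw [h1, smul_zero]

theorem fst_ge {n a : ℕ} {x : Fin n → ℤ} (h : ∀ j : Fin n, (j : ℕ) < a → x j = 0) {b c : Fin n × Bool}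
    (hbc : Ok b c) (e : ee x = wt b + wt c) : a ≤ (b.1 : ℕ) := by
  by_contra hb
  push Not at hb
  have h1 := congrFun e b.1
  rw [ee_apply_eq_zero h hb, Pi.add_apply, wt_apply, wt_apply, if_pos rfl] at h1
  rcases hbc with h2 | rfl
  · rw [if_neg h2] at h1
    split_ifs at h1 <;> omega
  · rw [if_pos rfl] at h1
    split_ifs at h1 <;> omega

theorem exists_natAdd {a m : ℕ} (b : Fin (a + m) × Bool) (hb : a ≤ (b.1 : ℕ)) :
    ∃ b' : Fin m × Bool, b = (Fin.natAdd a b'.1, b'.2) := by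
  refine ⟨(⟨(b.1 : ℕ) - a, by have := b.1.2; omega⟩, b.2), ?_⟩
  ext
  · simp only [_root_.Fin.natAdd_mk]; omega
  · rfl

variable {a m : ℕ} (W1 : WFrame (PU hF l) a) (W2 : WFrame (PU hF k) m) (hk : 3 ≤ k)
  {W : Type*} [Group W] (cs : CoxeterSystem (CoxeterMatrix.B (a + m)) W)

/-- the last nodes -/
def JJ (a m : ℕ) : Set (Fin (a + m)) := {i | a ≤ (i : ℕ)}

/-- the model -/
noncomputable def Mo (hW : W1.V0 = ⊥) : FrameCN.Model (toFrame (comb hF W1 W2 hW)) (PSU (k + l) F q) :=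
  KInstU.model hF (by omega) (comb hF W1 W2 hW)

theorem mj_le (hW : W1.V0 = ⊥) :
    MJ cs (isCartan (a + m)) (X (Mo hF W1 W2 hk hW)) (JJ a m) ≤ (psi hF hk l).range := by
  refine iSup_le ?_
  rintro ⟨x, hx, hx0⟩ y hy
  obtain ⟨g, hg, hgx, rfl⟩ := (mem_X _).1 hy
  have hx0' : ∀ j : Fin (a + m), (j : ℕ) < a → x j = 0 := fun j hj => hx0 j fun h => by
    have : a ≤ (j : ℕ) := h
    omega
  obtain ⟨b, c, hbc, e⟩ := isRoot_iff.1 hx
  obtain ⟨⟨i, s⟩, rfl⟩ := exists_natAdd b (fst_ge hx0' hbc e)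
  obtain ⟨⟨j, t⟩, rfl⟩ := exists_natAdd c (fst_ge hx0' hbc.symm (e.trans (add_comm _ _)))
  have key : ∃ A : SU k F q, emb F k l (toLin F q k A) = g := by
    rw [rg_eq _ hbc e] at hgx
    rcases hbc with h | h
    · rw [PG_ne _ h] at hgx
      obtain ⟨r, rfl⟩ := hgx
      obtain ⟨A, hA⟩ := X_mem hF W2 (i, s) (j, t) r
      exact ⟨A, by rw [hA, emb_X]⟩
    · rw [← h, PG_self] at hgx
      obtain ⟨r, rfl⟩ := hgx
      obtain ⟨r', rfl⟩ := adm_surj hF W1 W2 hW r
      obtain ⟨A, hA⟩ := Z_mem hF W2 (i, s) r'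
      exact ⟨A, by rw [hA, emb_Z]⟩
  obtain ⟨A, hA⟩ := key
  exact ⟨A, psi_apply hF hk l A hg hA⟩

theorem le_mj (hW : W1.V0 = ⊥) (hm : 0 < m) :
    (psi hF hk l).range ≤ MJ cs (isCartan (a + m)) (X (Mo hF W1 W2 hk hW)) (JJ a m) := by
  set K := MJ cs (isCartan (a + m)) (X (Mo hF W1 W2 hk hW)) (JJ a m) with hKdef
  have hs1 : ∀ i : Fin m, X (Mo hF W1 W2 hk hW) (sr (Fin.natAdd a i)) ≤ K := fun i =>
    RGD.le_Sup ⟨isRoot_sr cs _ _, fun k hk => sr_ne (by rintro rfl; exact hk (by simp only [JJ, _root_.Cfsg.Agent.H697.EP.Mid.JJ, _root_.Set.mem_ofPred_eq, _root_.Fin.val_natAdd, _root_.le_add_iff_nonneg_right, _root_.zero_le]))⟩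
  have hs2 : ∀ i : Fin m, X (Mo hF W1 W2 hk hW) (-sr (Fin.natAdd a i)) ≤ K := fun i =>
    RGD.le_Sup (RootsJ.neg ⟨isRoot_sr cs _ _, fun k hk => sr_ne (by rintro rfl; exact hk (by simp [JJ]))⟩)
  have hmem : ∀ (g : (Fin k → F) ≃ₗ[F] (Fin k → F)) (hg : g ∈ IU F q k) (hg' : emb F k l g ∈ IU F q (k + l)),
      toPSU F q (k + l) ⟨emb F k l g, hg'⟩ ∈ K → g ∈ (K.comap (psi hF hk l)).map (toLin F q k) := by
    rintro g ⟨A, rfl⟩ hg' h
    refine ⟨A, ?_, rfl⟩
    rw [SetLike.mem_coe, Subgroup.mem_comap, psi_apply hF hk l A hg' rfl]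
    exact h
  have hemb : ∀ g ∈ IU F q k, emb F k l g ∈ IU F q (k + l) := by
    rintro _ ⟨A, rfl⟩
    exact emb_mem hF hk l A
  have hC : W2.Contains ((K.comap (psi hF hk l)).map (toLin F q k)) := by
    refine contains_C W2 ⟨m - 1, by omega⟩ (fun i j hij t => ?_) (fun p => ?_) (exists_adm_ne hF W2)
    · have hi : ((Fin.natAdd a i : Fin (a + m)) : ℕ) + 1 < a + m := by have := j.2; simp; omega
      have hnx : nx (Fin.natAdd a i) = (Fin.natAdd a j, false) := by
        unfold nx; rw [dif_pos hi]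
        congr 1
        exact Fin.ext (by simp; omega)
      have hne : ((Fin.natAdd a i, true) : Fin (a + m) × Bool).1 ≠ (nx (Fin.natAdd a i)).1 := by
        rw [hnx]; simp [Fin.ext_iff]; omega
      refine ⟨hmem _ (X_mem hF W2 _ _ t) (hemb _ (X_mem hF W2 _ _ t)) (hs1 i (mem_X_of _ _ ?_)),
        hmem _ (X_mem hF W2 _ _ t) (hemb _ (X_mem hF W2 _ _ t)) (hs2 i (mem_X_of _ _ ?_))⟩
      · rw [rg_sr, PG_ne _ hne, hnx, emb_X hF W1 W2 hW]; exact ⟨t, rfl⟩
      · rw [rg_neg_sr, PG_ne _ (a := ng (Fin.natAdd a i, true)) (b := ng (nx (Fin.natAdd a i))) hne,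
          XG_swap _ (a := ng (Fin.natAdd a i, true)) (b := ng (nx (Fin.natAdd a i))) hne, hnx, emb_X hF W1 W2 hW]
        exact ⟨t, rfl⟩
    · have hnx : nx (Fin.natAdd a (⟨m - 1, by omega⟩ : Fin m)) = (Fin.natAdd a (⟨m - 1, by omega⟩ : Fin m), true) := by
        unfold nx; rw [dif_neg (by simp only [_root_.Fin.natAdd_mk, _root_.not_lt]; omega)]
      refine ⟨hmem _ (Z_mem hF W2 _ p) (hemb _ (Z_mem hF W2 _ p)) (hs1 ⟨m - 1, by omega⟩ (mem_X_of _ _ ?_)),
        hmem _ (Z_mem hF W2 _ p) (hemb _ (Z_mem hF W2 _ p)) (hs2 ⟨m - 1, by omega⟩ (mem_X_of _ _ ?_))⟩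
      · rw [rg_sr, hnx, PG_self, emb_Z hF W1 W2 hW]; exact ⟨_, rfl⟩
      · rw [rg_neg_sr, hnx, PG_self, emb_Z hF W1 W2 hW]; exact ⟨_, rfl⟩
  have htop : K.comap (psi hF hk l) = ⊤ :=
    eq_top_of_sie hF hk _ fun u w c huu huw hok => hC.all W2 ((sing_iff hF).2 huu) huu huw hok
  rintro _ ⟨A, rfl⟩
  have h1 : A ∈ K.comap (psi hF hk l) := htop ▸ Subgroup.mem_top A
  exact h1

theorem mj_eq (hW : W1.V0 = ⊥) (hm : 0 < m) :
    MJ cs (isCartan (a + m)) (X (Mo hF W1 W2 hk hW)) (JJ a m) = (psi hF hk l).range :=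
  le_antisymm (mj_le hF W1 W2 hk cs hW) (le_mj hF W1 W2 hk cs hW hm)

end Levi

end Cfsg.Agent.H697.EP.Mid
end

-- part: H697/EP/PsuOdd
section
/-!
# S4929: `PSU_n(q)`, `n` odd, `e = ord_p(-q)` odd, `n < 2 e` (helper697)

`good_psu_mid` : from `SU_k(q)` to `PSU_n(q)`, `n - k` even; `rest_psu_odd`.
-/

set_option autoImplicit false
set_option linter.unusedSectionVars false

namespace Cfsg.Agent.H697.EP

open Cfsg Cfsg.Agent.H892.EP Cfsg.Agent.Characters.Core
open Cfsg.Agent.TitsThree.KSideU Cfsg.Agent.TitsThree.SiegelGen Cfsg.Agent.TitsThree.WBridge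
open Cfsg.Agent.Nodes.TypeC Cfsg.Agent.LieClassical.SUBasic

variable {F : Type} [Field F] [Fintype F] {r : ℕ} [Fact r.Prime] [CharP F r] {p : ℕ} [Fact p.Prime] {n q : ℕ}

/-- the centre of `SU_n(q)` is a `p'`-group, if `p ∤ q + 1` -/
theorem not_dvd_center (hF : Fintype.card F = q ^ 2) (hn : 3 ≤ n) (hp : ¬ p ∣ q + 1) :
    ¬ p ∣ Nat.card (Subgroup.center (SU n F q)) := by
  intro hd
  obtain ⟨z, hz⟩ := exists_prime_orderOf_dvd_card' p hd
  have hpp : p.Prime := Fact.out
  obtain ⟨c, hcn, hcq, hA⟩ := (mem_center_SU_iff hF hn _).1 z.2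
  apply hp
  have h1 : (z : SU n F q) ^ (q + 1) = 1 := by
    apply toLin_injective
    rw [map_pow, map_one]
    have h2 : ∀ v, toLin F q n (z : SU n F q) v = c • v := by
      intro v
      rw [Cfsg.Agent.TitsThree.KSideU.toLin_apply, hA, Cfsg.Agent.LieClassical.HermSiegel.act_def]
      change Matrix.mulVec (Matrix.diagonal (fun _ => c)) v = c • v
      funext i
      rw [Matrix.mulVec_diagonal]; rfl
    have h3 : ∀ (j : ℕ) v, ((toLin F q n (z : SU n F q)) ^ j) v = c ^ j • v := by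
      intro j
      induction j with
      | zero => intro v; rw [pow_zero, pow_zero, one_smul]; rfl
      | succ j ih =>
        intro v
        rw [pow_succ', LinearEquiv.mul_apply, ih, h2, smul_smul, ← pow_succ']
    ext1 v
    rw [h3, hcq, one_smul]
    rfl
  have h2 : z ^ (q + 1) = 1 := Subtype.ext h1
  rw [← hz]
  exact orderOf_dvd_of_pow_eq_one h2

/-- from `SU_n(q)` to `PSU_n(q)` -/
theorem good_psu_self (hF : Fintype.card F = q ^ 2) (hn : 3 ≤ n) (hp : ¬ p ∣ q + 1) (h : Good p r (SU n F q)) :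
    Good p r (PSU n F q) := by
  refine Good.quot (QuotientGroup.mk' (Subgroup.center (SU n F q))) (QuotientGroup.mk'_surjective _) ?_ h
  rw [QuotientGroup.ker_mk']
  exact not_dvd_center hF hn hp

/-- **The middle Levi subgroups of `PSU_n(q)`.** -/
theorem good_psu_mid (hr : r ≠ 2) (hF : Fintype.card F = q ^ 2) {k : ℕ} (hk : 3 ≤ k) (hkn : k ≤ n) (he : Even (n - k))
    (hp : ¬ p ∣ q + 1) (h : Good p r (SU k F q)) : Good p r (PSU n F q) := by
  obtain ⟨l, rfl⟩ : ∃ l, n = k + l := ⟨n - k, by omega⟩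
  rw [Nat.add_sub_cancel_left] at he
  rcases Nat.eq_zero_or_pos l with rfl | hl
  · exact good_psu_self hF hk hp h
  obtain ⟨a, ha⟩ := he
  obtain ⟨W1, hW1⟩ := exists_wframe_even (N := l) (m := a) hF (by omega)
  obtain ⟨m, hm, W2, -⟩ : ∃ m, 0 < m ∧ ∃ W2 : WFrame (PU hF k) m, True := by
    rcases Nat.even_or_odd' k with ⟨m, hm | hm⟩
    · obtain ⟨W2, -⟩ := exists_wframe_even (N := k) (m := m) hF hm
      exact ⟨m, by omega, W2, trivial⟩
    · obtain ⟨W2, -⟩ := exists_wframe_odd (N := k) (m := m) hF hm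
      exact ⟨m, by omega, W2, trivial⟩
  obtain ⟨p0, hp0, -⟩ := Cfsg.Agent.Nodes.WittU.exists_adm hF (Mid.comb hF W1 W2 hW1)
  have R := Cfsg.Agent.Nodes.WittModel.rgd (Mid.Mo hF W1 W2 hk hW1)
    (Cfsg.Agent.Nodes.WittU.amb_U hF (Mid.comb hF W1 W2 hW1)) ((Fact.out : r.Prime).odd_of_ne_two hr) hp0
    (CoxeterMatrix.B (a + m)).toCoxeterSystem
  have : Finite (CoxeterMatrix.B (a + m)).Group := finite_W (CoxeterMatrix.B (a + m)).toCoxeterSystem
  refine Cfsg.Agent.H537.EP.good_of_MJ R (Cfsg.Agent.Nodes.WittModel.G1_eq_top _ (by omega) _) (Mid.JJ a m) ?_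
  rw [Mid.mj_eq hF W1 W2 hk _ hW1 hm]
  exact h.congr (MonoidHom.ofInjective (Mid.psi_injective hF hk hl))

theorem not_dvd_succ {e : ℕ} (he3 : 3 ≤ e) (h2 : ∀ i, 0 < i → i < e → ¬ p ∣ q ^ (2 * i) - 1) : ¬ p ∣ q + 1 := by
  intro h3
  refine h2 1 one_pos (by omega) ?_
  have h4 : q ^ (2 * 1) - 1 = (q + 1) * (q - 1) := by
    rw [mul_one]
    have := Nat.sq_sub_sq q 1
    simpa only [_root_.one_pow] using this
  rw [h4]
  exact dvd_mul_of_dvd_left h3 _

/-- the Weil character: `PSU_n(q)`, `n` odd -/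
theorem good_psu_odd (hr : r ≠ 2) (hpr : p ≠ r) {e : ℕ} (hq : Fintype.card F = q ^ 2)
    (he : Odd e) (he3 : 3 ≤ e) (hen : e ≤ n) (hno : Odd n) (h1 : p ∣ q ^ e + 1)
    (h2 : ∀ i, 0 < i → i < e → ¬ p ∣ q ^ (2 * i) - 1) : Good p r (PSU n F q) :=
  good_psu_mid hr hq he3 hen (Nat.Odd.sub_odd hno he) (not_dvd_succ he3 h2) (good_su hq he he3 hpr h1 h2)

/-- **Task [REST-PSU-ODD]**, from the parity row `pu_psu`. -/
theorem rest_psu_odd_of (hpar : ParU r (PSU n F q)) (hr : r ≠ 2) (hpr : p ≠ r) {e : ℕ}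
    (hq : Fintype.card F = q ^ 2) (he : Odd e) (he3 : 3 ≤ e) (hen : e ≤ n) (hno : Odd n) (h1 : p ∣ q ^ e + 1)
    (h2 : ∀ i, 0 < i → i < e → ¬ p ∣ q ^ (2 * i) - 1) : EvAt p (PSU n F q) :=
  evAt_of_good (par_of_parU hpar) (good_psu_odd hr hpr hq he he3 hen hno h1 h2)

end Cfsg.Agent.H697.EP
end

-- part: H697/EP/PsuTheta
section
/-!
# S4929: `PSU_n(q)`, `n` even, `e = ord_p(-q) ≥ 5` odd: a theta lift from `GU_3(q)` (helper697)

* `good_of_theta` : abstract criterion (multiplicity of a character of `H` in a character of `G × H`);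
* `weil_isCharacter` : `g ↦ -(-q) ^ dim ker (g - 1)` is a character of the unitary group in odd dimension;
* `gauss` : Gauss sums of (degenerate) hermitian forms;
* `iG` : `GU(V) × GU_d → GU(V ⊗ F^d ⊕ F)`; `exists_scal`, `thl_sing` : the `p`-singular elements;
* `sgH` : the Siegel radical; `finrank_Fx_sg` : the fixed space of `z ⊗ k`; `sum_sg_zero`;
* `good_UU_even`, `good_su_even`, `good_psu_even`, `rest_psu_even_of5`.
-/

set_option autoImplicit false
set_option linter.unusedSectionVars false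

open Cfsg
open scoped ComplexConjugate

namespace Cfsg.Agent.H697.EP

open Module Cfsg.Agent.H603.CC Cfsg.Agent.H892.EP Cfsg.Agent.Characters.Core

universe u v


section Abs

variable {G H U : Type*} [Group G] [Group H] [Group U] [Finite G] [Finite H] [Finite U]

/-- the multiplicity of `ζ` -/
noncomputable def thl [Fintype H] (i : G × H →* U) (om : U → ℂ) (ζ : H → ℂ) (g : G) : ℂ :=
  ∑ h : H, om (i (g, h)) * conj (ζ h)

theorem thl_class [Fintype H] (i : G × H →* U) {om : U → ℂ} (hom : IsCharacter U om) (ζ : H → ℂ) :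
    IsClassFunction G (thl i om ζ) := by
  intro g x
  unfold thl
  refine Finset.sum_congr rfl fun h _ => ?_
  have h1 : i (x * g * x⁻¹, h) = i (x, 1) * i (g, h) * (i (x, 1))⁻¹ := by
    rw [← map_mul, ← map_inv, ← map_mul]
    congr 1
    ext <;> simp only [_root_.Prod.mk_mul_mk, _root_.one_mul, _root_.Prod.inv_mk, _root_.inv_one, _root_.mul_one]
  rw [h1, isCharacter_isClassFunction hom]

theorem thl_inner [Fintype G] [Fintype H] (i : G × H →* U) {om : U → ℂ} (hom : IsCharacter U om) {ζ : H → ℂ}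
    (hζ : IsCharacter H ζ) {χ : G → ℂ} (hχ : IsCharacter G χ) :
    ∃ k : ℕ, classInner (thl i om ζ) χ = k := by
  obtain ⟨k, hk⟩ := classInner_isNat (isCharacter_comp i hom)
    (isCharacter_mul (isCharacter_comp (MonoidHom.fst G H) hχ) (isCharacter_comp (MonoidHom.snd G H) hζ))
  refine ⟨Nat.card H * k, ?_⟩
  rw [Nat.cast_mul, ← hk, classInner_def, classInner_def, Fintype.sum_prod_type, Nat.card_prod, Nat.cast_mul,
    mul_inv, ← mul_assoc, mul_left_comm, mul_inv_cancel₀ card_ne_zero_complex, mul_one]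
  congr 1
  refine Finset.sum_congr rfl fun g _ => ?_
  rw [thl, Finset.sum_mul]
  refine Finset.sum_congr rfl fun h _ => ?_
  simp only [Function.comp_apply, Pi.mul_apply, MonoidHom.coe_fst, MonoidHom.coe_snd, map_mul]
  ring

theorem good_of_theta [Fintype H] (i : G × H →* U) {om : U → ℂ} (hom : IsCharacter U om) {ζ : H → ℂ}
    (hζ : IsCharacter H ζ) {p r : ℕ} [Fact p.Prime] [Fact r.Prime] (N : Subgroup G) (hN : IsPGroup r N)
    (h1 : ∑ᶠ u : N, thl i om ζ u = 0) {u : G} (hu : orderOf u = p) {c : ℂ} (hc : c ≠ 0)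
    (h2 : ∀ x : G, p ∣ orderOf x → thl i om ζ x = c) : Good p r G := by
  classical
  intro M hM
  have := Fintype.ofFinite G
  have := finite_irr (G := G)
  have := Fintype.ofFinite (IrrCharacter G)
  have := Fintype.ofFinite N
  choose k hk using fun χ : IrrCharacter G => thl_inner i hom hζ (isIrr_isCharacter χ.2)
  have hsum : ∀ g, thl i om ζ g = ∑ χ : IrrCharacter G, (k χ : ℂ) * (χ : G → ℂ) g := by
    intro g
    have h3 := congrFun (classFunction_eq_sum (thl_class i hom ζ)) g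
    rw [h3, Finset.sum_apply]
    exact Finset.sum_congr rfl fun χ _ => by rw [Pi.smul_apply, smul_eq_mul, hk]
  -- the section
  set S : Set G := {x : G | ∃ z, IsPPart p x z ∧ IsConj u z} with hS
  have hS1 : ∀ x ∈ S, thl i om ζ x = c := by
    rintro x ⟨z, ⟨y, hy, hcom, -, hyp⟩, hz⟩
    refine h2 x ?_
    have hzo : orderOf z = p := by rw [← orderOf_of_isConj hz, hu]
    have hcop : (orderOf z).Coprime (orderOf y) := by
      rw [hzo]
      exact ((Fact.out : p.Prime).coprime_iff_not_dvd).2 hyp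
    rw [← hy, hcom.orderOf_mul_eq_mul_orderOf_of_coprime hcop, hzo]
    exact dvd_mul_right _ _
  have hS2 : ∑ᶠ x ∈ S, thl i om ζ x ≠ 0 := by
    rw [finsum_mem_congr rfl hS1, finsum_mem_eq_finite_toFinset_sum _ (Set.toFinite _), Finset.sum_const,
      nsmul_eq_mul]
    refine mul_ne_zero ?_ hc
    rw [Nat.cast_ne_zero, Finset.card_ne_zero]
    refine ⟨u, (Set.Finite.mem_toFinset _).2 ⟨u, ⟨1, mul_one u, Commute.one_right u, ⟨1, by rw [hu, pow_one]⟩, ?_⟩,
      IsConj.refl u⟩⟩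
    rw [orderOf_one]
    exact (Fact.out : p.Prime).one_lt.not_ge ∘ Nat.le_of_dvd one_pos
  obtain ⟨χ, hχ0, hχS⟩ : ∃ χ : IrrCharacter G, k χ ≠ 0 ∧ ∑ᶠ x ∈ S, (χ : G → ℂ) x ≠ 0 := by
    by_contra hcon
    push Not at hcon
    apply hS2
    rw [finsum_mem_eq_finite_toFinset_sum _ (Set.toFinite _), Finset.sum_congr rfl fun x _ => hsum x,
      Finset.sum_comm]
    refine Finset.sum_eq_zero fun χ _ => ?_
    rw [← Finset.mul_sum]
    by_cases h3 : k χ = 0
    · rw [h3, Nat.cast_zero, zero_mul]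
    · have h4 := hcon χ h3
      rw [finsum_mem_eq_finite_toFinset_sum _ (Set.toFinite _)] at h4
      rw [h4, mul_zero]
  refine ⟨χ, mem_of_section_sum hM χ u hχS, noFix_sylow χ N hN ?_⟩
  -- the sums over `N` are natural numbers
  have hnat : ∀ ψ : IrrCharacter G, ∃ l : ℕ, ∑ y : N, (ψ : G → ℂ) (y : G) = l := by
    intro ψ
    have h3 : IsCharacter N (fun y : N => (ψ : G → ℂ) (y : G)) := isCharacter_comp N.subtype (isIrr_isCharacter ψ.2)
    obtain ⟨l, hl⟩ := classInner_isNat h3 (isCharacter_one (G := N))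
    refine ⟨Nat.card N * l, ?_⟩
    rw [classInner_def] at hl
    simp only [Pi.one_apply, map_one, mul_one] at hl
    have h4 : (Nat.card N : ℂ) ≠ 0 := card_ne_zero_complex
    rw [Nat.cast_mul, ← hl, mul_inv_cancel_left₀ h4]
  choose l hl using hnat
  rw [finsum_eq_sum_of_fintype] at h1
  have h3 : ∑ ψ : IrrCharacter G, k ψ * l ψ = 0 := by
    have h4 : ∑ y : N, thl i om ζ (y : G) = ∑ ψ : IrrCharacter G, (k ψ : ℂ) * (l ψ : ℂ) := by
      simp_rw [hsum]
      rw [Finset.sum_comm]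
      refine Finset.sum_congr rfl fun ψ _ => ?_
      rw [← hl ψ, Finset.mul_sum]
    rw [h4] at h1
    exact_mod_cast h1
  have h4 := (Finset.sum_eq_zero_iff.1 h3) χ (Finset.mem_univ _)
  rcases mul_eq_zero.1 h4 with h5 | h5
  · exact absurd h5 hχ0
  · show ∑ᶠ y : N, (χ : G → ℂ) y = 0
    rw [finsum_eq_sum_of_fintype, hl, h5, Nat.cast_zero]

end Abs

section Weil

variable {F : Type u} {V : Type v} [Field F] [AddCommGroup V] [Module F V] {q : ℕ} {σ : F →+* F}
  {B : V →ₛₗ[σ] V →ₗ[F] F} [Finite F] [Finite V]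

/-- `g ↦ -(-q) ^ dim ker (g - 1)` is a character of the unitary group in odd dimension -/
theorem weil_isCharacter (h : HS q σ B) (hodd : Odd (finrank F V)) (hn : 3 ≤ finrank F V) :
    IsCharacter (UU B) (fun g : UU B => - wf q g) := by
  classical
  have := Fintype.ofFinite (UU B)
  have := finite_irr (G := UU B)
  have := Fintype.ofFinite (IrrCharacter (UU B))
  obtain ⟨t, ht⟩ := exists_isTv h (by omega)
  obtain ⟨m, D⟩ := Cfsg.Agent.H458.CC.Main2Core.decomp h hodd hn (Cfsg.Agent.H603.CC.inp h hodd hn) ht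
  have h1 : (fun g : UU B => - wf q g) = ∑ χ : IrrCharacter (UU B), m χ • (χ : UU B → ℂ) := by
    funext g
    rw [D.eq_sum g, Finset.sum_apply]
    exact Finset.sum_congr rfl fun χ _ => by rw [Pi.smul_apply, nsmul_eq_mul]
  rw [h1]
  exact isCharacter_sum _ fun χ _ => isCharacter_nsmul _ (isIrr_isCharacter χ.2)

end Weil

section Gauss

variable {F : Type u} [Field F] [Finite F] {q : ℕ} {σ : F →+* F}

/-- the fixed field -/
def Fq (σ : F →+* F) : AddSubgroup F where
  carrier := {c | σ c = c}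
  add_mem' := by
    intro a b ha hb
    show σ (a + b) = a + b
    rw [map_add]
    exact congrArg₂ _ ha hb
  zero_mem' := map_zero σ
  neg_mem' := by
    intro a ha
    show σ (-a) = -a
    rw [map_neg]
    exact congrArg _ ha

omit [Finite F] in
theorem mem_Fq {c : F} : c ∈ Fq σ ↔ σ c = c := Iff.rfl

omit [Finite F] in
theorem addChar_sum (ψ : AddChar F ℂ) {ι : Type*} (s : Finset ι) (f : ι → F) : ψ (∑ i ∈ s, f i) = ∏ i ∈ s, ψ (f i) := by
  classical
  induction s using Finset.induction_on with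
  | empty => rw [Finset.sum_empty, Finset.prod_empty, AddChar.map_zero_eq_one]
  | insert a s ha ih => rw [Finset.sum_insert ha, Finset.prod_insert ha, AddChar.map_add_eq_mul, ih]

theorem gauss_one [Fintype F] (hF : Nat.card F = q ^ 2) (hσ : ∀ a, σ a = a ^ q) (hσσ : ∀ a, σ (σ a) = a)
    {ψ : AddChar F ℂ} (hψ : ψ 1 ≠ 1) : ∑ a : F, ψ (σ a * a) = -(q : ℂ) := by
  classical
  have hF' : Fintype.card F = q ^ 2 := by rw [← Nat.card_eq_fintype_card, hF]
  have := Fintype.ofFinite (Fq σ)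
  let N : F → Fq σ := fun a => ⟨σ a * a, by rw [mem_Fq, map_mul, hσσ, mul_comm]⟩
  have hfib : ∀ c : Fq σ, ((Finset.univ.filter fun a => N a = c).card : ℂ) = (q : ℂ) + 1 + if c = 0 then -(q : ℂ) else 0 := by
    intro c
    split_ifs with hc
    · subst hc
      have h1 : (Finset.univ.filter fun a => N a = 0) = {0} := by
        ext a
        rw [Finset.mem_filter, Finset.mem_singleton]
        constructor
        · rintro ⟨-, h⟩
          have h2 : σ a * a = 0 := congrArg Subtype.val h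
          rcases mul_eq_zero.1 h2 with h3 | h3
          · exact (map_eq_zero σ).1 h3
          · exact h3
        · rintro rfl
          refine ⟨Finset.mem_univ _, Subtype.ext ?_⟩
          show σ 0 * 0 = 0
          rw [mul_zero]
      rw [h1, Finset.card_singleton]
      push_cast
      ring
    · have h1 := Cfsg.Agent.ClassicalGeometry.HermLines4.card_norm_eq hF' (c := (c : F))
        (by rw [← hσ]; exact c.2) (fun h => hc (Subtype.ext h))
      have h2 : (Finset.univ.filter fun a => N a = c).card = Nat.card {x : F // x * x ^ q = c} := by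
        rw [← Fintype.card_subtype, ← Nat.card_eq_fintype_card]
        refine Nat.card_congr (Equiv.subtypeEquivRight fun x => ?_)
        rw [← hσ, mul_comm]
        exact Subtype.ext_iff
      rw [h2, h1]
      push_cast
      ring
  have h1 : ∑ a : F, ψ (σ a * a) = ∑ c : Fq σ, ((q : ℂ) + 1 + if c = 0 then -(q : ℂ) else 0) * ψ (c : F) := by
    rw [← Finset.sum_fiberwise (s := Finset.univ) (g := N)]
    refine Finset.sum_congr rfl fun c _ => ?_
    rw [← hfib, ← nsmul_eq_mul, ← Finset.sum_const]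
    refine Finset.sum_congr rfl fun a ha => ?_
    rw [← (Finset.mem_filter.1 ha).2]
  have h2 : ∑ c : Fq σ, ψ (c : F) = 0 := by
    have h3 : ψ.compAddMonoidHom (Fq σ).subtype ≠ 0 := by
      intro h4
      apply hψ
      have h5 := congrArg (fun f : AddChar (Fq σ) ℂ => f ⟨1, map_one σ⟩) h4
      simpa only [_root_.AddChar.compAddMonoidHom_apply, _root_.AddSubgroup.subtype_apply, _root_.AddChar.zero_apply] using h5
    exact (AddChar.sum_eq_zero_iff_ne_zero).2 h3
  rw [h1]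
  simp only [add_mul, ite_mul, zero_mul]
  rw [Finset.sum_add_distrib, Finset.sum_add_distrib, ← Finset.mul_sum, h2, Finset.sum_ite_eq' Finset.univ (0 : Fq σ),
    if_pos (Finset.mem_univ _)]
  simp only [h2, _root_.MulZeroClass.mul_zero, _root_.one_mul, _root_.add_zero, _root_.ZeroMemClass.coe_zero, _root_.AddChar.map_zero_eq_one, _root_.mul_one, _root_.zero_add]

theorem gauss [Fintype F] (hF : Nat.card F = q ^ 2) (hσ : ∀ a, σ a = a ^ q) (hne : σ ≠ RingHom.id F)
    (hσσ : ∀ a, σ (σ a) = a) {ψ : AddChar F ℂ} (hψ : ψ 1 ≠ 1) {A : Type*} [AddCommGroup A] [Module F A] [Fintype A]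
    (D : A →ₛₗ[σ] A →ₗ[F] F) (hD : D.IsSymm) :
    ∑ z : A, ψ (D z z) = (-(q : ℂ)) ^ (finrank F A + finrank F (LinearMap.ker D)) := by
  classical
  obtain ⟨W, hW⟩ := (LinearMap.ker D).exists_isCompl
  obtain ⟨r, hr, b, hb⟩ : ∃ (r : ℕ) (_ : finrank F W = r) (b : Basis (Fin r) F W),
      ∀ i j, D (b i : A) (b j : A) = if i = j then 1 else 0 := ⟨_, rfl, Cfsg.Agent.H118.CC.exists_onb hne hσσ D hD W hW⟩
  have := Fintype.ofFinite (LinearMap.ker D)
  have := Fintype.ofFinite W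
  let e : (LinearMap.ker D × (Fin r → F)) ≃ A :=
    ((Equiv.refl _).prodCongr b.equivFun.symm.toEquiv).trans (Submodule.prodEquivOfIsCompl _ _ hW).toEquiv
  have he : ∀ (x : LinearMap.ker D) (c : Fin r → F), e (x, c) = (x : A) + ((∑ i, c i • b i : W) : A) := by
    intro x c
    show Submodule.prodEquivOfIsCompl _ _ hW (x, b.equivFun.symm c) = _
    rw [b.equivFun_symm_apply]
    rfl
  have hval : ∀ (x : LinearMap.ker D) (c : Fin r → F), D (e (x, c)) (e (x, c)) = ∑ i, σ (c i) * c i := by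
    intro x c
    rw [he, Cfsg.Agent.H118.CC.form_add D hD _ _ _ _ x.2 x.2]
    rw [Submodule.coe_sum, LinearMap.map_sum₂]
    refine Finset.sum_congr rfl fun i _ => ?_
    rw [map_sum, Finset.sum_eq_single i]
    · rw [Submodule.coe_smul, form_smul_left, form_smul_right, hb, if_pos rfl, mul_one]
    · intro j _ hj
      rw [Submodule.coe_smul, Submodule.coe_smul, form_smul_left, form_smul_right, hb, if_neg (Ne.symm hj), mul_zero,
        mul_zero]
    · intro h
      exact absurd (Finset.mem_univ _) h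
  rw [← e.sum_comp, Fintype.sum_prod_type]
  simp only [hval]
  have h1 : ∀ c : Fin r → F, ψ (∑ i, σ (c i) * c i) = ∏ i, ψ (σ (c i) * c i) := by
    intro c
    exact addChar_sum ψ _ _
  simp only [h1]
  have h2 := Fintype.sum_pow (fun a : F => ψ (σ a * a)) r
  rw [gauss_one hF hσ hσσ hψ] at h2
  have h3 : ∑ c : Fin r → F, ∏ i, ψ (σ (c i) * c i) = (-(q : ℂ)) ^ r := by
    rw [h2]
  have h4 : Fintype.card (LinearMap.ker D) = (q ^ 2) ^ finrank F (LinearMap.ker D) := by
    rw [← Nat.card_eq_fintype_card, Module.natCard_eq_pow_finrank (K := F), hF]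
  have h5 := Submodule.finrank_add_eq_of_isCompl hW
  rw [h3, Finset.sum_const, Finset.card_univ, h4, nsmul_eq_mul, ← h5, hr]
  push_cast
  rw [← neg_sq (q : ℂ), ← pow_mul, ← pow_add]
  congr 1
  omega

end Gauss


section Spaces

variable {F : Type u} {V : Type v} [Field F] [AddCommGroup V] [Module F V] {q : ℕ} {σ : F →+* F}
  (B : V →ₛₗ[σ] V →ₗ[F] F) [Finite F] [Finite V]

/-- the form on `V ⊗ F^d` -/
noncomputable def piB (d : ℕ) : (Fin d → V) →ₛₗ[σ] (Fin d → V) →ₗ[F] F :=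
  LinearMap.mk₂'ₛₗ σ (RingHom.id F) (fun v w => ∑ j, B (v j) (w j))
    (fun v v' w => by
      rw [← Finset.sum_add_distrib]
      exact Finset.sum_congr rfl fun j _ => by rw [Pi.add_apply, form_add_left])
    (fun a v w => by
      rw [smul_eq_mul, Finset.mul_sum]
      exact Finset.sum_congr rfl fun j _ => by rw [Pi.smul_apply, form_smul_left])
    (fun v w w' => by
      rw [← Finset.sum_add_distrib]
      exact Finset.sum_congr rfl fun j _ => by rw [Pi.add_apply, form_add_right])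
    (fun a v w => by
      rw [smul_eq_mul, Finset.mul_sum]
      exact Finset.sum_congr rfl fun j _ => by rw [Pi.smul_apply, form_smul_right, RingHom.id_apply])

theorem piB_apply (d : ℕ) (v w : Fin d → V) : piB B d v w = ∑ j, B (v j) (w j) := rfl

/-- the form on `V × F` -/
noncomputable def prB : (V × F) →ₛₗ[σ] (V × F) →ₗ[F] F :=
  LinearMap.mk₂'ₛₗ σ (RingHom.id F) (fun v w => B v.1 w.1 + σ v.2 * w.2)
    (fun v v' w => by
      rw [Prod.fst_add, Prod.snd_add, form_add_left, map_add σ, add_mul]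
      ring)
    (fun a v w => by
      simp only [Prod.smul_fst, Prod.smul_snd, form_smul_left, smul_eq_mul, map_mul, mul_add]
      ring)
    (fun v w w' => by
      simp only [Prod.fst_add, Prod.snd_add, form_add_right, mul_add]
      ring)
    (fun a v w => by
      simp only [Prod.smul_fst, Prod.smul_snd, form_smul_right, smul_eq_mul, mul_add, RingHom.id_apply]
      ring)

theorem prB_apply (v w : V × F) : prB B v w = B v.1 w.1 + σ v.2 * w.2 := rfl

/-- the form on `F` -/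
noncomputable def oneB (σ : F →+* F) : F →ₛₗ[σ] F →ₗ[F] F :=
  LinearMap.mk₂'ₛₗ σ (RingHom.id F) (fun a b => σ a * b)
    (fun a a' b => by rw [map_add, add_mul])
    (fun c a b => by rw [smul_eq_mul, map_mul, smul_eq_mul, mul_assoc])
    (fun a b b' => mul_add _ _ _)
    (fun c a b => by rw [smul_eq_mul, RingHom.id_apply, smul_eq_mul, mul_left_comm])

theorem oneB_apply (a b : F) : oneB σ a b = σ a * b := rfl

variable {B}

theorem HS_right_ext (h : HS q σ B) {v : V} (hv : ∀ x, B x v = 0) : v = 0 :=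
  h.ext fun x => h.zero_symm (hv x)

theorem HS_right_ext' (h : HS q σ B) {v w : V} (hv : ∀ x, B x v = B x w) : v = w := by
  rw [← sub_eq_zero]
  exact HS_right_ext h fun x => by rw [form_sub_right, hv, sub_self]

theorem hs_pi (h : HS q σ B) (d : ℕ) : HS q σ (piB B d) where
  two_le := h.two_le
  card := h.card
  sig := h.sig
  symm := ⟨fun v w => by
    rw [piB_apply, piB_apply, map_sum]
    exact Finset.sum_congr rfl fun j _ => h.sy _ _⟩
  sep v hv := by
    classical
    funext j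
    refine h.ext fun y => ?_
    have h1 := hv (Pi.single j y)
    rw [piB_apply, Finset.sum_eq_single j] at h1
    · rwa [Pi.single_eq_same] at h1
    · intro i _ hi
      rw [Pi.single_eq_of_ne hi, map_zero]
    · intro h2
      exact absurd (Finset.mem_univ _) h2

theorem hs_pr (h : HS q σ B) : HS q σ (prB B) where
  two_le := h.two_le
  card := h.card
  sig := h.sig
  symm := ⟨fun v w => by
    rw [prB_apply, prB_apply, map_add, map_mul, h.inv, h.sy, mul_comm]⟩
  sep v hv := by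
    have h1 : v.1 = 0 := h.ext fun y => by
      have h2 := hv (y, 0)
      rwa [prB_apply, mul_zero, add_zero] at h2
    have h3 := hv (0, 1)
    rw [prB_apply, map_zero, zero_add, mul_one] at h3
    exact Prod.ext h1 ((map_eq_zero σ).1 h3)

theorem hs_one (h : HS q σ B) : HS q σ (oneB σ) where
  two_le := h.two_le
  card := h.card
  sig := h.sig
  symm := ⟨fun v w => by rw [oneB_apply, oneB_apply, map_mul, h.inv, mul_comm]⟩
  sep v hv := by
    have h1 := hv 1
    rw [oneB_apply, mul_one] at h1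
    exact (map_eq_zero σ).1 h1

/-- the standard space -/
noncomputable abbrev BW (σ : F →+* F) (d : ℕ) : (Fin d → F) →ₛₗ[σ] (Fin d → F) →ₗ[F] F := piB (oneB σ) d

theorem BW_apply {d : ℕ} (v w : Fin d → F) : BW σ d v w = ∑ j, σ (v j) * w j := rfl

variable {d : ℕ}

/-- matrix entries -/
noncomputable def mt (g : UU (BW σ d)) (i j : Fin d) : F := ac (BW σ d) g (Pi.single j 1) i

theorem ac_W (g : UU (BW σ d)) (w : Fin d → F) (i : Fin d) : ac (BW σ d) g w i = ∑ j, mt g i j * w j := by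
  have h1 : w = ∑ j, w j • (Pi.single j (1 : F) : Fin d → F) := by
    rw [← pi_eq_sum_univ']
  conv_lhs => rw [h1]
  show ((g : (Fin d → F) ≃ₗ[F] (Fin d → F)) _) i = _
  rw [map_sum, Finset.sum_apply]
  refine Finset.sum_congr rfl fun j _ => ?_
  rw [map_smul, Pi.smul_apply, smul_eq_mul, mul_comm]
  rfl

/-- the action on `V ⊗ F^d` -/
noncomputable def hL (V : Type v) [AddCommGroup V] [Module F V] (g : UU (BW σ d)) : (Fin d → V) →ₗ[F] (Fin d → V) :=
  LinearMap.pi fun i => ∑ j, mt g i j • LinearMap.proj j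

theorem hL_apply (g : UU (BW σ d)) (v : Fin d → V) (i : Fin d) : hL V g v i = ∑ j, mt g i j • v j := by
  simp only [hL, LinearMap.pi_apply, LinearMap.sum_apply, LinearMap.smul_apply, LinearMap.proj_apply]

theorem map_hL {V' : Type*} [AddCommGroup V'] [Module F V'] [Finite V'] (l : V →ₗ[F] V') (g : UU (BW σ d)) (v : Fin d → V)
    (i : Fin d) : l (hL V g v i) = hL V' g (fun j => l (v j)) i := by
  rw [hL_apply, hL_apply, map_sum]
  exact Finset.sum_congr rfl fun j _ => map_smul _ _ _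

theorem hL_F (g : UU (BW σ d)) (w : Fin d → F) : hL F g w = ac (BW σ d) g w := by
  funext i
  rw [hL_apply, ac_W]
  rfl

theorem form_hL (x : V) (g : UU (BW σ d)) (v : Fin d → V) (i : Fin d) :
    B x (hL V g v i) = ac (BW σ d) g (fun j => B x (v j)) i := by
  rw [map_hL, hL_F]

theorem hL_mul (h : HS q σ B) (g k : UU (BW σ d)) (v : Fin d → V) : hL V (g * k) v = hL V g (hL V k v) := by
  funext i
  refine HS_right_ext' h fun x => ?_
  rw [form_hL, form_hL, ac_mul]
  have h1 : ac (BW σ d) k (fun j => B x (v j)) = fun j => B x (hL V k v j) := funext fun j => (form_hL x k v j).symm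
  rw [h1]

theorem hL_one (h : HS q σ B) (v : Fin d → V) : hL V (1 : UU (BW σ d)) v = v := by
  funext i
  refine HS_right_ext' h fun x => ?_
  rw [form_hL]
  rfl

theorem hL_isom (g : UU (BW σ d)) (v w : Fin d → V) :
    piB B d (hL V g v) (hL V g w) = piB B d v w := by
  classical
  have h1 : ∀ j k, ∑ i, σ (mt g i j) * mt g i k = if j = k then 1 else 0 := by
    intro j k
    have h2 := form_ac g (Pi.single j 1) (Pi.single k 1)
    rw [BW_apply, BW_apply] at h2
    show ∑ i, σ (ac (BW σ d) g (Pi.single j 1) i) * ac (BW σ d) g (Pi.single k 1) i = _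
    rw [h2, Finset.sum_eq_single j]
    · rw [Pi.single_eq_same, map_one, one_mul]
      by_cases hjk : j = k
      · rw [if_pos hjk, hjk, Pi.single_eq_same]
      · rw [if_neg hjk, Pi.single_eq_of_ne hjk]
    · intro i _ hi
      rw [Pi.single_eq_of_ne hi, map_zero, zero_mul]
    · intro h3
      exact absurd (Finset.mem_univ _) h3
  rw [piB_apply, piB_apply]
  have h2 : ∀ i, B (hL V g v i) (hL V g w i) = ∑ j, ∑ k, σ (mt g i j) * mt g i k * B (v j) (w k) := by
    intro i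
    rw [hL_apply, hL_apply, LinearMap.map_sum₂]
    refine Finset.sum_congr rfl fun j _ => ?_
    rw [map_sum]
    refine Finset.sum_congr rfl fun k _ => ?_
    rw [form_smul_left, form_smul_right, mul_assoc]
  rw [Finset.sum_congr rfl fun i _ => h2 i, Finset.sum_comm]
  refine Finset.sum_congr rfl fun j _ => ?_
  rw [Finset.sum_comm, Finset.sum_eq_single j]
  · rw [← Finset.sum_mul, h1, if_pos rfl, one_mul]
  · intro k _ hk
    rw [← Finset.sum_mul, h1, if_neg (Ne.symm hk), zero_mul]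
  · intro h3
    exact absurd (Finset.mem_univ _) h3

theorem exists_iG (h : HS q σ B) (g : UU B × UU (BW σ d)) :
    ∃ x : UU (prB (piB B d)), ∀ v, ac (prB (piB B d)) x v = (fun j => ac B g.1 (hL V g.2 v.1 j), v.2) := by
  obtain ⟨x, hx⟩ := exists_ofLinear (hs_pr (hs_pi h d))
    (((((g.1 : V ≃ₗ[F] V) : V →ₗ[F] V).compLeft (Fin d)).comp (hL V g.2)).prodMap LinearMap.id) (by
      intro v w
      rw [prB_apply, prB_apply]
      show piB B d (fun j => ac B g.1 (hL V g.2 v.1 j)) (fun j => ac B g.1 (hL V g.2 w.1 j)) + σ v.2 * w.2 = _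
      rw [← hL_isom g.2 v.1 w.1, piB_apply, piB_apply]
      congr 1
      exact Finset.sum_congr rfl fun j _ => form_ac _ _ _)
  exact ⟨x, fun v => hx v⟩

/-- the homomorphism `GU(V) × GU_d → GU(V ⊗ F^d ⊕ F)` -/
noncomputable def iG (h : HS q σ B) (d : ℕ) : UU B × UU (BW σ d) →* UU (prB (piB B d)) :=
  MonoidHom.mk' (fun g => (exists_iG h g).choose) (by
    intro g k
    apply ac_ext
    intro v
    rw [ac_mul, (exists_iG h (g * k)).choose_spec, (exists_iG h g).choose_spec, (exists_iG h k).choose_spec]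
    refine Prod.ext ?_ rfl
    funext j
    show ac B (g.1 * k.1) (hL V (g.2 * k.2) v.1 j) = ac B g.1 (hL V g.2 (fun j => ac B k.1 (hL V k.2 v.1 j)) j)
    rw [ac_mul, hL_mul h]
    congr 1
    exact map_hL ((k.1 : V ≃ₗ[F] V) : V →ₗ[F] V) g.2 _ j)

theorem ac_iG (h : HS q σ B) (g : UU B) (k : UU (BW σ d)) (v : (Fin d → V) × F) :
    ac (prB (piB B d)) (iG h d (g, k)) v = (fun j => ac B g (hL V k v.1 j), v.2) := (exists_iG h (g, k)).choose_spec v

/-- the fixed vectors of `g ⊗ k` -/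
noncomputable def Fx (g : UU B) (k : UU (BW σ d)) : Submodule F (Fin d → V) :=
  LinearMap.ker ((((g : V ≃ₗ[F] V) : V →ₗ[F] V).compLeft (Fin d)).comp (hL V k) - LinearMap.id)

theorem mem_Fx {g : UU B} {k : UU (BW σ d)} {v : Fin d → V} : v ∈ Fx g k ↔ ∀ j, ac B g (hL V k v j) = v j := by
  rw [Fx, LinearMap.mem_ker, LinearMap.sub_apply, sub_eq_zero, funext_iff]
  rfl

theorem finrank_iG (h : HS q σ B) (g : UU B) (k : UU (BW σ d)) :
    finrank F (fx (iG h d (g, k))) = finrank F (Fx g k) + 1 := by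
  have h1 : finrank F (Fx g k) + 1 = finrank F (Fx g k × F) := by rw [Module.finrank_prod, finrank_self]
  rw [h1]
  refine LinearEquiv.finrank_eq
    { toFun := fun v => (⟨(v : (Fin d → V) × F).1, ?_⟩, (v : (Fin d → V) × F).2)
      invFun := fun v => ⟨((v.1 : Fin d → V), v.2), ?_⟩
      map_add' := fun v w => rfl
      map_smul' := fun c v => rfl
      left_inv := fun v => rfl
      right_inv := fun v => rfl }
  · rw [mem_Fx]
    have h2 := mem_fx.1 v.2
    rw [ac_iG] at h2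
    exact fun j => congrFun (congrArg Prod.fst h2) j
  · rw [mem_fx, ac_iG]
    refine Prod.ext ?_ rfl
    funext j
    exact mem_Fx.1 v.1.2 j

theorem wf_iG (h : HS q σ B) (g : UU B) (k : UU (BW σ d)) :
    - wf q (iG h d (g, k)) = (q : ℂ) * (-(q : ℂ)) ^ finrank F (Fx g k) := by
  rw [wf, finrank_iG, pow_succ]
  ring

end Spaces


section Sing

variable {F : Type u} [Field F] [Finite F] {p : ℕ} [Fact p.Prime]

/-- dimension of the fixed space of an element of order `p` -/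
theorem dvd_of_pow {S : Type*} [AddCommGroup S] [Module F S] [Finite S] (hp : ¬ p ∣ Nat.card F) (g : S ≃ₗ[F] S)
    (hgp : g ^ p = 1) (K : Submodule F S) (hK : ∀ v, v ∈ K ↔ g v = v) :
    p ∣ Nat.card F ^ (finrank F S - finrank F K) - 1 := by
  classical
  have hP : IsPGroup p (Subgroup.zpowers g) := by
    intro a
    refine ⟨1, ?_⟩
    obtain ⟨k, hk⟩ := a.2
    apply Subtype.ext
    rw [pow_one]
    show (a : S ≃ₗ[F] S) ^ p = 1
    have hk' : g ^ k = (a : S ≃ₗ[F] S) := hk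
    rw [← hk', ← zpow_natCast, ← zpow_mul, mul_comm, zpow_mul, zpow_natCast, hgp, one_zpow]
  have h1 := hP.card_modEq_card_fixedPoints S
  have h2 : Nat.card (MulAction.fixedPoints (Subgroup.zpowers g) S) = Nat.card K := by
    refine Nat.card_congr (Equiv.subtypeEquivRight fun v => ?_)
    rw [hK]
    constructor
    · intro h
      exact h ⟨g, Subgroup.mem_zpowers g⟩
    · rintro h ⟨a, k, rfl⟩
      show (g ^ k) v = v
      have h4 : g ∈ MulAction.stabilizer (S ≃ₗ[F] S) v := h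
      exact Subgroup.zpow_mem _ h4 k
  rw [h2, Module.natCard_eq_pow_finrank (K := F) (V := S), Module.natCard_eq_pow_finrank (K := F) (V := K)] at h1
  have hle : finrank F K ≤ finrank F S := Submodule.finrank_le _
  have hd : p ∣ Nat.card F ^ finrank F S - Nat.card F ^ finrank F K :=
    (Nat.modEq_iff_dvd' (Nat.pow_le_pow_right Nat.card_pos hle)).1 h1.symm
  have h3 : Nat.card F ^ finrank F S - Nat.card F ^ finrank F K =
      Nat.card F ^ finrank F K * (Nat.card F ^ (finrank F S - finrank F K) - 1) := by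
    rw [Nat.mul_sub, mul_one, ← pow_add, Nat.add_sub_cancel' hle]
  rw [h3] at hd
  rcases (Fact.out : p.Prime).dvd_mul.1 hd with h4 | h4
  · exact absurd ((Fact.out : p.Prime).dvd_of_dvd_pow h4) hp
  · exact h4

variable {V : Type v} [AddCommGroup V] [Module F V] {q : ℕ} {σ : F →+* F}
  {B : V →ₛₗ[σ] V →ₗ[F] F} [Finite V]

theorem ac_pow_mem {z : UU B} {S : Submodule F V} (hS : ∀ s ∈ S, ac B z s ∈ S) (k : ℕ) :
    ∀ s ∈ S, ac B (z ^ k) s ∈ S := by
  induction k with
  | zero => intro s hs; exact hs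
  | succ k ih => intro s hs; rw [pow_succ, ac_mul]; exact ih _ (hS s hs)

/-- small invariant subspaces are fixed -/
theorem fix_of_small {e : ℕ} (hp : ¬ p ∣ Nat.card F) (hord : ∀ i, 0 < i → i < e → ¬ p ∣ Nat.card F ^ i - 1) {z : UU B}
    (hz : z ^ p = 1) {S : Submodule F V} (hS : ∀ s ∈ S, ac B z s ∈ S) (hd : finrank F S < e) : S ≤ fx z := by
  let g0 : S →ₗ[F] S := ((z : V ≃ₗ[F] V) : V →ₗ[F] V).restrict hS
  have hg0 : ∀ s : S, ((g0 s : S) : V) = ac B z s := fun s => rfl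
  have hinj : Function.Injective g0 := by
    intro a b hab
    have h1 : ac B z a = ac B z b := by rw [← hg0, ← hg0, hab]
    exact Subtype.ext ((z : V ≃ₗ[F] V).injective h1)
  let g : S ≃ₗ[F] S := LinearEquiv.ofInjectiveEndo g0 hinj
  have hg : ∀ s : S, ((g s : S) : V) = ac B z s := fun s => rfl
  have hgk : ∀ (k : ℕ) (s : S), (((g ^ k) s : S) : V) = ac B (z ^ k) s := by
    intro k
    induction k with
    | zero => intro s; rfl
    | succ k ih => intro s; rw [pow_succ, LinearEquiv.mul_apply, ih, pow_succ, ac_mul, hg]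
  have hgp : g ^ p = 1 := by
    ext s
    rw [hgk, hz]
    rfl
  let K : Submodule F S := (fx z).comap S.subtype
  have hK : ∀ v, v ∈ K ↔ g v = v := by
    intro v
    rw [Subtype.ext_iff, hg]
    rfl
  have h1 := dvd_of_pow hp g hgp K hK
  have h2 : finrank F S - finrank F K = 0 := by
    by_contra h3
    exact hord _ (Nat.pos_of_ne_zero h3) (by omega) h1
  have h3 : K = ⊤ := by
    refine Submodule.eq_top_of_finrank_eq (le_antisymm (Submodule.finrank_le _) (by omega))
  intro s hs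
  have h4 : (⟨s, hs⟩ : S) ∈ K := by rw [h3]; exact Submodule.mem_top
  exact h4

theorem finrank_fx_one {e : ℕ} (he : 2 ≤ e) (hn : finrank F V = e + 1) (hp : ¬ p ∣ Nat.card F)
    (hord : ∀ i, 0 < i → i < e → ¬ p ∣ Nat.card F ^ i - 1) (hpe : p ∣ Nat.card F ^ e - 1) {z : UU B}
    (hz : z ^ p = 1) (hz1 : z ≠ 1) : finrank F (fx z) = 1 := by
  have h1 := dvd_of_pow hp (z : V ≃ₗ[F] V) (congrArg Subtype.val hz) (fx z) (fun v => Iff.rfl)
  rw [hn] at h1
  have hle : finrank F (fx z) ≤ finrank F V := Submodule.finrank_le _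
  have hne : finrank F (fx z) ≠ finrank F V := by
    intro h2
    apply hz1
    have h3 : fx z = ⊤ := Submodule.eq_top_of_finrank_eq h2
    apply ac_ext
    intro v
    have h4 : v ∈ fx z := by rw [h3]; exact Submodule.mem_top
    exact h4
  rcases Nat.lt_trichotomy (e + 1 - finrank F (fx z)) e with h2 | h2 | h2
  · exact absurd h1 (hord _ (by omega) h2)
  · omega
  · exfalso
    have h3 : e + 1 - finrank F (fx z) = e + 1 := by omega
    rw [h3] at h1
    refine hord 1 one_pos (by omega) ?_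
    rw [pow_one]
    have hQ : 1 ≤ Nat.card F := Nat.card_pos
    have hQe : 1 ≤ Nat.card F ^ e := Nat.one_le_pow _ _ hQ
    have h4 : Nat.card F ^ (e + 1) - 1 = Nat.card F * (Nat.card F ^ e - 1) + (Nat.card F - 1) := by
      rw [pow_succ', Nat.mul_sub, mul_one]
      have : Nat.card F ≤ Nat.card F * Nat.card F ^ e := Nat.le_mul_of_pos_right _ (by omega)
      omega
    rw [h4] at h1
    exact (Nat.dvd_add_right (dvd_mul_of_dvd_right hpe _)).1 h1

/-- the fixed line is not singular -/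
theorem form_ne_zero (h : HS q σ B) (hpF : (p : F) ≠ 0) {z : UU B} (hz : z ^ p = 1) (h1 : finrank F (fx z) = 1)
    {l : V} (hl : l ∈ fx z) (hl0 : l ≠ 0) : B l l ≠ 0 := by
  intro h0
  apply hl0
  refine h.ext fun v => ?_
  set s : V := ∑ i ∈ Finset.range p, ac B (z ^ i) v with hs
  have hsf : s ∈ fx z := by
    rw [mem_fx]
    have h2 : ac B z s = ∑ i ∈ Finset.range p, ac B (z ^ (i + 1)) v := by
      show (z : V ≃ₗ[F] V) s = _
      rw [hs, map_sum]
      refine Finset.sum_congr rfl fun i _ => ?_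
      rw [pow_succ', ac_mul]
      rfl
    have h3 := Finset.sum_range_succ (fun i => ac B (z ^ i) v) p
    have h4 := Finset.sum_range_succ' (fun i => ac B (z ^ i) v) p
    rw [h3] at h4
    rw [h2]
    have h5 : ac B (z ^ p) v = ac B (z ^ 0) v := by rw [hz, pow_zero]
    rw [h5] at h4
    exact (add_right_cancel h4).symm
  obtain ⟨c, hc⟩ := (finrank_eq_one_iff_of_nonzero' (⟨l, hl⟩ : fx z) (fun h2 => hl0 (congrArg Subtype.val h2))).1 h1 ⟨s, hsf⟩
  have hc' : c • l = s := congrArg Subtype.val hc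
  have h2 : B l s = 0 := by rw [← hc', form_smul_right, h0, mul_zero]
  have h3 : ∀ i, B l (ac B (z ^ i) v) = B l v := by
    intro i
    have h4 : ac B (z ^ i) l = l := ac_pow_of_fix hl i
    conv_lhs => rw [← h4]
    exact form_ac _ _ _
  rw [hs, map_sum, Finset.sum_congr rfl fun i _ => h3 i, Finset.sum_const, Finset.card_range, nsmul_eq_mul] at h2
  rcases mul_eq_zero.1 h2 with h4 | h4
  · exact absurd h4 hpF
  · exact h4

/-- **the fixed space of `x ⊗ k`, `x` `p`-singular** -/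
theorem exists_scal {e d : ℕ} (h : HS q σ B) (hpF : (p : F) ≠ 0) (he : 2 ≤ e) (hn : finrank F V = e + 1)
    (hp : ¬ p ∣ Nat.card F)
    (hord : ∀ i, 0 < i → i < e → ¬ p ∣ Nat.card F ^ i - 1) (hpe : p ∣ Nat.card F ^ e - 1) (hd : d < e)
    {x : UU B} (hx : p ∣ orderOf x) :
    ∃ w ∈ Zs (BW σ d), ∀ k : UU (BW σ d), finrank F (Fx x k) = finrank F (fx (w * k)) := by
  obtain ⟨m, hm⟩ := hx
  have ho : 0 < orderOf x := orderOf_pos x
  have hpp : p.Prime := Fact.out
  have hm0 : 0 < m := Nat.pos_of_ne_zero (by rintro rfl; rw [mul_zero] at hm; omega)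
  set z : UU B := x ^ m with hz
  have hzp : z ^ p = 1 := by rw [hz, ← pow_mul, mul_comm, ← hm, pow_orderOf_eq_one]
  have hz1 : z ≠ 1 := by
    intro h1
    have h2 := Nat.le_of_dvd hm0 (orderOf_dvd_of_pow_eq_one h1)
    rw [hm] at h2
    have := Nat.mul_le_mul_right m hpp.two_le
    omega
  have hf1 := finrank_fx_one he hn hp hord hpe hzp hz1
  obtain ⟨l, hl, hl0⟩ : ∃ l ∈ fx z, l ≠ 0 := by
    refine Submodule.exists_mem_ne_zero_of_ne_bot fun h1 => ?_
    rw [h1, finrank_bot] at hf1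
    omega
  have hspan : ∀ v ∈ fx z, ∃ c : F, c • l = v := by
    intro v hv
    obtain ⟨c, hc⟩ := (finrank_eq_one_iff_of_nonzero' (⟨l, hl⟩ : fx z) (fun h2 => hl0 (congrArg Subtype.val h2))).1 hf1 ⟨v, hv⟩
    exact ⟨c, congrArg Subtype.val hc⟩
  have hBl := form_ne_zero h hpF hzp hf1 hl hl0
  have hxl : ac B x l ∈ fx z := by
    rw [mem_fx, ← ac_mul]
    have h1 : z * x = x * z := by rw [hz, ← pow_succ, ← pow_succ']
    rw [h1, ac_mul, mem_fx.1 hl]
  obtain ⟨s, hs⟩ := hspan _ hxl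
  have hs1 : σ s * s = 1 := by
    have h1 := form_ac x l l
    rw [← hs, form_smul_left, form_smul_right, ← mul_assoc] at h1
    exact mul_right_cancel₀ hBl (h1.trans (one_mul _).symm)
  have hsq : s ^ (q + 1) = 1 := by rw [pow_succ, ← h.sig, hs1]
  obtain ⟨w, hw⟩ := exists_scalar (hs_pi (hs_one h) d) hsq
  refine ⟨w, ⟨s, hw⟩, fun k => ?_⟩
  -- the linear map
  let T : (Fin d → F) →ₗ[F] (Fin d → V) :=
    LinearMap.pi fun j => (LinearMap.proj j : (Fin d → F) →ₗ[F] F).smulRight l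
  have hT : ∀ (c : Fin d → F) j, T c j = c j • l := fun c j => rfl
  have hTi : Function.Injective T := by
    intro a b hab
    funext j
    have h1 := congrFun hab j
    rw [hT, hT] at h1
    exact smul_left_injective F hl0 h1
  have hTh : ∀ c : Fin d → F, hL V k (T c) = T (ac (BW σ d) k c) := by
    intro c
    funext j
    rw [hL_apply, hT, ac_W, Finset.sum_smul]
    exact Finset.sum_congr rfl fun i _ => by rw [hT, smul_smul]
  have key : Fx x k = (fx (w * k)).map T := by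
    ext v
    constructor
    · intro hv
      rw [mem_Fx] at hv
      -- the subspace spanned by the components
      set S : Submodule F V := Submodule.span F (Set.range v) with hS
      have h1 : ∀ j, hL V k v j ∈ S := by
        intro j
        rw [hL_apply]
        exact Submodule.sum_mem _ fun i _ => Submodule.smul_mem _ _ (Submodule.subset_span ⟨i, rfl⟩)
      have h2 : S ≤ Submodule.span F (Set.range (hL V k v)) := by
        rw [hS, Submodule.span_le]
        rintro _ ⟨j, rfl⟩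
        have h3 : v = hL V k⁻¹ (hL V k v) := by rw [← hL_mul h, inv_mul_cancel, hL_one h]
        rw [SetLike.mem_coe, h3, ← h3, h3, hL_apply]
        rw [← h3]
        exact Submodule.sum_mem _ fun i _ => Submodule.smul_mem _ _ (Submodule.subset_span ⟨i, rfl⟩)
      have h3 : ∀ s ∈ S, ac B x s ∈ S := by
        have h3' : ∀ a ∈ Submodule.span F (Set.range (hL V k v)), ac B x a ∈ S := by
          intro a ha
          induction ha using Submodule.span_induction with
          | mem a ha =>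
            obtain ⟨j, rfl⟩ := ha
            rw [hv j]
            exact Submodule.subset_span ⟨j, rfl⟩
          | zero => rw [ac_zero]; exact zero_mem _
          | add a b _ _ ha' hb' => rw [ac_add]; exact add_mem ha' hb'
          | smul c a _ ha' => rw [ac_smul]; exact Submodule.smul_mem _ _ ha'
        exact fun s hs' => h3' s (h2 hs')
      have h4 : finrank F S < e := by
        have h5 := finrank_range_le_card (R := F) v
        rw [Fintype.card_fin] at h5
        exact lt_of_le_of_lt h5 hd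
      have h5 := fix_of_small hp hord hzp (ac_pow_mem h3 m) h4
      have h6 : ∀ j, ∃ c : F, c • l = v j := fun j => hspan _ (h5 (Submodule.subset_span ⟨j, rfl⟩))
      choose c hc using h6
      have hvT : T c = v := funext fun j => (hT c j).trans (hc j)
      refine ⟨c, ?_, hvT⟩
      rw [SetLike.mem_coe, mem_fx, ac_mul, hw]
      apply hTi
      funext j
      have h7 := hv j
      rw [← hvT, hTh, hT, ac_smul, ← hs] at h7
      rw [hT, ← h7, Pi.smul_apply, smul_smul, smul_eq_mul, mul_comm]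
    · rintro ⟨c, hc, rfl⟩
      rw [SetLike.mem_coe, mem_fx, ac_mul, hw] at hc
      rw [mem_Fx]
      intro j
      rw [hTh, hT, ac_smul, ← hs, hT, smul_smul]
      congr 1
      have h1 := congrFun hc j
      rw [Pi.smul_apply, smul_eq_mul, mul_comm] at h1
      exact h1
  rw [key]
  exact (LinearEquiv.finrank_eq (Submodule.equivMapOfInjective T hTi _)).symm

/-- the value on the `p`-singular elements -/
theorem thl_sing {e d : ℕ} (h : HS q σ B) (hpF : (p : F) ≠ 0) (he : 2 ≤ e) (hn : finrank F V = e + 1)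
    (hp : ¬ p ∣ Nat.card F)
    (hord : ∀ i, 0 < i → i < e → ¬ p ∣ Nat.card F ^ i - 1) (hpe : p ∣ Nat.card F ^ e - 1) (hd : d < e)
    [Fintype (UU (BW σ d))] {ζ : UU (BW σ d) → ℂ} (hζ : ∀ z ∈ Zs (BW σ d), ∀ k, ζ (z * k) = ζ k)
    {x : UU B} (hx : p ∣ orderOf x) :
    thl (iG h d) (fun g => - wf q g) ζ x = (q : ℂ) * ∑ k : UU (BW σ d), wf q k * conj (ζ k) := by
  obtain ⟨w, hw, hk⟩ := exists_scal h hpF he hn hp hord hpe hd hx
  rw [thl]
  have h1 : ∀ k : UU (BW σ d), - wf q (iG h d (x, k)) * conj (ζ k) =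
      (q : ℂ) * (wf q (w * k) * conj (ζ (w * k))) := by
    intro k
    rw [wf_iG, hk, hζ w hw, wf]
    ring
  rw [Finset.sum_congr rfl fun k _ => h1 k, ← Finset.mul_sum]
  congr 1
  exact Equiv.sum_comp (Equiv.mulLeft w) (fun k => wf q k * conj (ζ k))

theorem sum_ne_zero {d : ℕ} (h : HS q σ B) [Fintype (UU (BW σ d))] {ζ : UU (BW σ d) → ℂ}
    (hi : IsIrrCharacter (UU (BW σ d)) ζ) (hζ : ∀ z ∈ Zs (BW σ d), ∀ k, ζ (z * k) = ζ k)
    (hf : ∀ g : UU (BW σ d), ζ g = ((q : ℂ) + 1)⁻¹ * ∑ᶠ z : Zs (BW σ d), (- wf q ((z : UU (BW σ d)) * g))) :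
    (q : ℂ) * ∑ k : UU (BW σ d), wf q k * conj (ζ k) ≠ 0 := by
  have := Fintype.ofFinite (Zs (BW σ d))
  have hq0 : (q : ℂ) ≠ 0 := by
    have := h.two_le
    exact_mod_cast (by omega : q ≠ 0)
  refine mul_ne_zero hq0 fun h0 => ?_
  have h1 := classInner_irr_self hi
  rw [classInner_def] at h1
  have h2 : ∑ g : UU (BW σ d), ζ g * conj (ζ g) = 0 := by
    have h3 : ∀ g, ζ g * conj (ζ g) =
        ((q : ℂ) + 1)⁻¹ * ∑ z : Zs (BW σ d), - (wf q ((z : UU (BW σ d)) * g) * conj (ζ ((z : UU (BW σ d)) * g))) := by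
      intro g
      have h4 : ∀ z : Zs (BW σ d), ζ ((z : UU (BW σ d)) * g) = ζ g := fun z => hζ _ z.2 g
      simp only [h4]
      generalize conj (ζ g) = c
      rw [hf g, finsum_eq_sum_of_fintype, mul_assoc, Finset.sum_mul]
      congr 1
      exact Finset.sum_congr rfl fun z _ => neg_mul _ _
    rw [Finset.sum_congr rfl fun g _ => h3 g, ← Finset.mul_sum, Finset.sum_comm]
    rw [Finset.sum_eq_zero, mul_zero]
    intro z _
    rw [Finset.sum_neg_distrib]
    have h4 := Equiv.sum_comp (Equiv.mulLeft (z : UU (BW σ d))) (fun k => wf q k * conj (ζ k))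
    rw [h0] at h4
    have h5 : ∀ k, Equiv.mulLeft (z : UU (BW σ d)) k = z * k := fun k => rfl
    simp only [h5] at h4
    rw [h4, neg_zero]
  rw [h2, mul_zero] at h1
  exact zero_ne_one h1

end Sing


section Skew

variable {F : Type u} [Field F] {σ : F →+* F} {m : ℕ}

/-- skew-hermitian matrices -/
def Skew (σ : F →+* F) (m : ℕ) : AddSubgroup (Fin m → Fin m → F) where
  carrier := {b | ∀ k i, b k i + σ (b i k) = 0}
  add_mem' := by
    intro a b ha hb k i
    rw [Pi.add_apply, Pi.add_apply, Pi.add_apply, Pi.add_apply, map_add]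
    linear_combination ha k i + hb k i
  zero_mem' := by
    intro k i
    simp
  neg_mem' := by
    intro a ha k i
    rw [Pi.neg_apply, Pi.neg_apply, Pi.neg_apply, Pi.neg_apply, map_neg]
    linear_combination -(ha k i)

theorem Skew.eq (b : Skew σ m) (k i : Fin m) : σ ((b : Fin m → Fin m → F) i k) = -(b : Fin m → Fin m → F) k i := by
  rw [eq_neg_iff_add_eq_zero, add_comm]
  exact b.2 k i

/-- the pairing with a matrix -/
def skL (σ : F →+* F) (κ : F) (g : Fin m → Fin m → F) : Skew σ m →+ F where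
  toFun b := κ * ∑ k, ∑ i, (b : Fin m → Fin m → F) k i * g k i
  map_zero' := by simp only [_root_.ZeroMemClass.coe_zero, _root_.Pi.zero_apply, _root_.MulZeroClass.zero_mul, _root_.Finset.sum_const_zero, _root_.MulZeroClass.mul_zero]
  map_add' a b := by
    simp only [AddSubgroup.coe_add, Pi.add_apply, add_mul, Finset.sum_add_distrib, mul_add]

theorem skL_apply (κ : F) (g : Fin m → Fin m → F) (b : Skew σ m) :
    skL σ κ g b = κ * ∑ k, ∑ i, (b : Fin m → Fin m → F) k i * g k i := rfl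

theorem sum_skew [Finite F] [Fintype (Skew σ m)] (hσσ : ∀ a, σ (σ a) = a) (h2 : (2 : F) ≠ 0) {κ : F} (hκ : κ ≠ 0)
    (hκσ : σ κ = -κ)
    {ψ : AddChar F ℂ} (hψ : ψ 1 ≠ 1) {g : Fin m → Fin m → F} (hg : ∀ k i, σ (g k i) = g i k) (hg0 : g ≠ 0) :
    ∑ b : Skew σ m, ψ (skL σ κ g b) = 0 := by
  classical
  have h1 : ψ.compAddMonoidHom (skL σ κ g) ≠ 0 := by
    intro h0
    obtain ⟨k0, hk0⟩ := Function.ne_iff.1 hg0
    obtain ⟨i0, hi0⟩ := Function.ne_iff.1 hk0
    have hG : g k0 i0 ≠ 0 := hi0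
    set c : F := κ⁻¹ / 2 / g k0 i0 with hc
    have hcG : c * g k0 i0 = κ⁻¹ / 2 := div_mul_cancel₀ _ hG
    have hcG' : σ c * g i0 k0 = -(κ⁻¹ / 2) := by
      have h3 := congrArg σ hcG
      rw [map_mul, hg] at h3
      rw [h3, map_div₀, map_inv₀, hκσ, map_ofNat, inv_neg, neg_div]
    let b : Skew σ m := ⟨fun k i => (if k = k0 ∧ i = i0 then c else 0) - (if k = i0 ∧ i = k0 then σ c else 0), by
      intro k i
      show ((if k = k0 ∧ i = i0 then c else 0) - (if k = i0 ∧ i = k0 then σ c else 0)) +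
        σ ((if i = k0 ∧ k = i0 then c else 0) - (if i = i0 ∧ k = k0 then σ c else 0)) = 0
      rw [map_sub, apply_ite σ, apply_ite σ, hσσ, map_zero]
      by_cases h3 : k = k0 ∧ i = i0 <;> by_cases h4 : k = i0 ∧ i = k0
      · rw [if_pos h3, if_pos h4, if_pos h4.symm, if_pos h3.symm]; ring
      · rw [if_pos h3, if_neg h4, if_neg fun h5 => h4 h5.symm, if_pos h3.symm]; ring
      · rw [if_neg h3, if_pos h4, if_pos h4.symm, if_neg fun h5 => h3 h5.symm]; ring
      · rw [if_neg h3, if_neg h4, if_neg fun h5 => h4 h5.symm, if_neg fun h5 => h3 h5.symm]; ring⟩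
    have hb : skL σ κ g b = 1 := by
      have h3 : ∀ k i, (b : Fin m → Fin m → F) k i * g k i =
          (if k = k0 then (if i = i0 then c * g k0 i0 else 0) else 0) -
            (if k = i0 then (if i = k0 then σ c * g i0 k0 else 0) else 0) := by
        intro k i
        show ((if k = k0 ∧ i = i0 then c else 0) - (if k = i0 ∧ i = k0 then σ c else 0)) * g k i = _
        rw [sub_mul, ite_mul, ite_mul, zero_mul, ite_and, ite_and]
        congr 1
        · split_ifs with h4 h5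
          · rw [h4, h5]
          · rfl
          · rfl
        · split_ifs with h4 h5
          · rw [h4, h5]
          · rfl
          · rfl
      rw [skL_apply]
      simp only [h3, Finset.sum_sub_distrib]
      simp only [Finset.sum_ite_eq', Finset.mem_univ, if_true, Finset.sum_ite_irrel, Finset.sum_const_zero]
      rw [hcG, hcG', sub_neg_eq_add, ← add_div, ← two_mul, mul_div_cancel_left₀ _ h2, mul_inv_cancel₀ hκ]
    have h3 := congrArg (fun f : AddChar (Skew σ m) ℂ => f b) h0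
    apply hψ
    rw [← hb]
    exact h3
  exact (AddChar.sum_eq_zero_iff_ne_zero).2 h1

end Skew

section Siegel

variable {F : Type u} {V : Type v} [Field F] [AddCommGroup V] [Module F V] {q : ℕ} {σ : F →+* F}
  {B : V →ₛₗ[σ] V →ₗ[F] F} [Finite F] [Finite V] {m d : ℕ} {e f : Fin m → V}

/-- a basis: `e` spans a maximal totally singular subspace, `f` is dual to `e` -/
structure WB (B : V →ₛₗ[σ] V →ₗ[F] F) (e f : Fin m → V) : Prop where
  ee : ∀ i j, B (e i) (e j) = 0
  ef : ∀ i j, B (e i) (f j) = if i = j then 1 else 0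
  perp : ∀ v, (∀ i, B (e i) v = 0) → ∃ c : Fin m → F, v = ∑ k, c k • e k

theorem WB.fe (h : HS q σ B) (W : WB B e f) (i j : Fin m) : B (f j) (e i) = if i = j then 1 else 0 := by
  rw [← h.sy, W.ef, apply_ite σ, map_one, map_zero]

theorem WB.f_sum (h : HS q σ B) (W : WB B e f) (c : Fin m → F) (l : Fin m) : B (f l) (∑ k, c k • e k) = c l := by
  rw [map_sum, Finset.sum_eq_single l]
  · rw [form_smul_right, W.fe h, if_pos rfl, mul_one]
  · intro k _ hk
    rw [form_smul_right, W.fe h, if_neg hk, mul_zero]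
  · intro h1
    exact absurd (Finset.mem_univ _) h1

theorem WB.e_sum (W : WB B e f) (c : Fin m → F) (l : Fin m) : B (e l) (∑ k, c k • e k) = 0 := by
  rw [map_sum]
  exact Finset.sum_eq_zero fun k _ => by rw [form_smul_right, W.ee, mul_zero]

theorem WB.e_sumf (W : WB B e f) (c : Fin m → F) (l : Fin m) : B (e l) (∑ k, c k • f k) = c l := by
  rw [map_sum, Finset.sum_eq_single l]
  · rw [form_smul_right, W.ef, if_pos rfl, mul_one]
  · intro k _ hk
    rw [form_smul_right, W.ef, if_neg (Ne.symm hk), mul_zero]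
  · intro h1
    exact absurd (Finset.mem_univ _) h1

theorem WB.ext (h : HS q σ B) (W : WB B e f) {x y : V} (he : ∀ i, B (e i) x = B (e i) y)
    (hf : ∀ i, B (f i) x = B (f i) y) : x = y := by
  obtain ⟨c, hc⟩ := W.perp (x - y) fun i => by rw [form_sub_right, he, sub_self]
  have h1 : ∀ l, c l = 0 := by
    intro l
    rw [← W.f_sum h c l, ← hc, form_sub_right, hf, sub_self]
  rw [← sub_eq_zero, hc]
  exact Finset.sum_eq_zero fun k _ => by rw [h1, zero_smul]

theorem exists_sg (h : HS q σ B) (W : WB B e f) (b : Skew σ m) :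
    ∃ z : UU B, ∀ x, ac B z x = x + ∑ k, (∑ i, (b : Fin m → Fin m → F) k i * B (e i) x) • e k := by
  let φ : V →ₗ[F] V := LinearMap.id + ∑ k, ∑ i, (b : Fin m → Fin m → F) k i • (B (e i)).smulRight (e k)
  have hφ : ∀ x, φ x = x + ∑ k, (∑ i, (b : Fin m → Fin m → F) k i * B (e i) x) • e k := by
    intro x
    simp only [φ, LinearMap.add_apply, LinearMap.id_apply, LinearMap.sum_apply, LinearMap.smul_apply,
      LinearMap.smulRight_apply, smul_smul, Finset.sum_smul]
  obtain ⟨z, hz⟩ := exists_ofLinear h φ (by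
    intro x y
    rw [hφ, hφ, form_add_left, form_add_right, form_add_right]
    have h1 : B (∑ k, (∑ i, (b : Fin m → Fin m → F) k i * B (e i) x) • e k)
        (∑ k, (∑ i, (b : Fin m → Fin m → F) k i * B (e i) y) • e k) = 0 := by
      rw [LinearMap.map_sum₂]
      exact Finset.sum_eq_zero fun k _ => by rw [form_smul_left, W.e_sum, mul_zero]
    have h2 : B x (∑ k, (∑ i, (b : Fin m → Fin m → F) k i * B (e i) y) • e k) =
        ∑ k, ∑ i, (b : Fin m → Fin m → F) k i * B (e i) y * B x (e k) := by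
      rw [map_sum]
      exact Finset.sum_congr rfl fun k _ => by rw [form_smul_right, Finset.sum_mul]
    have h3 : B (∑ k, (∑ i, (b : Fin m → Fin m → F) k i * B (e i) x) • e k) y =
        ∑ k, ∑ i, σ ((b : Fin m → Fin m → F) i k) * B x (e k) * B (e i) y := by
      rw [LinearMap.map_sum₂, Finset.sum_comm]
      refine Finset.sum_congr rfl fun k _ => ?_
      rw [form_smul_left, map_sum, Finset.sum_mul]
      exact Finset.sum_congr rfl fun i _ => by rw [map_mul, h.sy]
    rw [h1, h2, h3, add_zero, add_assoc, ← Finset.sum_add_distrib, Finset.sum_eq_zero, add_zero]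
    intro k _
    rw [← Finset.sum_add_distrib]
    refine Finset.sum_eq_zero fun i _ => ?_
    rw [Skew.eq]
    ring)
  exact ⟨z, fun x => (hz x).trans (hφ x)⟩

/-- the Siegel radical -/
noncomputable def sg (h : HS q σ B) (W : WB B e f) (b : Skew σ m) : UU B := (exists_sg h W b).choose

theorem ac_sg (h : HS q σ B) (W : WB B e f) (b : Skew σ m) (x : V) :
    ac B (sg h W b) x = x + ∑ k, (∑ i, (b : Fin m → Fin m → F) k i * B (e i) x) • e k := (exists_sg h W b).choose_spec x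

theorem e_sg (h : HS q σ B) (W : WB B e f) (b : Skew σ m) (x : V) (l : Fin m) :
    B (e l) (ac B (sg h W b) x) = B (e l) x := by
  rw [ac_sg, form_add_right, W.e_sum, add_zero]

theorem f_sg (h : HS q σ B) (W : WB B e f) (b : Skew σ m) (x : V) (l : Fin m) :
    B (f l) (ac B (sg h W b) x) = B (f l) x + ∑ i, (b : Fin m → Fin m → F) l i * B (e i) x := by
  rw [ac_sg, form_add_right, W.f_sum h]

/-- the homomorphism -/
noncomputable def sgH (h : HS q σ B) (W : WB B e f) : Multiplicative (Skew σ m) →* UU B :=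
  MonoidHom.mk' (fun b => sg h W (Multiplicative.toAdd b)) (by
    intro b c
    apply ac_ext
    intro x
    rw [ac_mul]
    refine W.ext h (fun l => ?_) (fun l => ?_)
    · rw [e_sg, e_sg, e_sg]
    · rw [f_sg, f_sg, f_sg, toAdd_mul]
      simp only [e_sg, AddSubgroup.coe_add, Pi.add_apply, add_mul, Finset.sum_add_distrib]
      ring)

theorem sgH_apply (h : HS q σ B) (W : WB B e f) (b : Multiplicative (Skew σ m)) :
    sgH h W b = sg h W (Multiplicative.toAdd b) := rfl

theorem sgH_injective (h : HS q σ B) (W : WB B e f) : Function.Injective (sgH h W) := by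
  rw [injective_iff_map_eq_one]
  intro b hb
  apply Multiplicative.toAdd.injective
  rw [toAdd_one]
  apply Subtype.ext
  funext l j
  have h1 := f_sg h W (Multiplicative.toAdd b) (f j) l
  rw [← sgH_apply, hb, ac_one, left_eq_add] at h1
  show ((Multiplicative.toAdd b : Skew σ m) : Fin m → Fin m → F) l j = 0
  rw [← h1, Finset.sum_eq_single j]
  · rw [W.ef, if_pos rfl, mul_one]
  · intro i _ hi
    rw [W.ef, if_neg hi, mul_zero]
  · intro h2
    exact absurd (Finset.mem_univ _) h2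

/-- the range of `1 - k` is the orthogonal complement of the fixed space -/
theorem exists_sub_ac (h : HS q σ B) (k : UU B) {w : V} (hw : ∀ u ∈ fx k, B u w = 0) : ∃ a, a - ac B k a = w := by
  let L : V →ₗ[F] V := LinearMap.id - ((k : V ≃ₗ[F] V) : V →ₗ[F] V)
  have hL : ∀ a, L a = a - ac B k a := fun a => rfl
  have hker : LinearMap.ker L = fx k := by
    ext a
    rw [LinearMap.mem_ker, hL, sub_eq_zero, mem_fx, eq_comm]
  have hle : LinearMap.range L ≤ perp B (fx k) := by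
    rintro _ ⟨a, rfl⟩ u hu
    rw [hL, form_sub_right]
    have h1 := form_ac k u a
    rw [mem_fx.1 hu] at h1
    rw [h1, sub_self]
  have h1 := LinearMap.finrank_range_add_finrank_ker L
  have h2 := finrank_perp h (fx k)
  rw [hker] at h1
  have h3 : LinearMap.range L = perp B (fx k) := Submodule.eq_of_le_of_finrank_eq hle (by omega)
  have h4 : w ∈ LinearMap.range L := by rw [h3]; exact hw
  obtain ⟨a, ha⟩ := h4
  exact ⟨a, ha⟩

set_option linter.unusedSimpArgs false in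
/-- the form on `K^m` -/
noncomputable def cf (κ : F) (b : Skew σ m) (K : Submodule F (Fin d → F)) :
    (Fin m → K) →ₛₗ[σ] (Fin m → K) →ₗ[F] F :=
  LinearMap.mk₂'ₛₗ σ (RingHom.id F)
    (fun x y => skL σ κ (fun k i => BW σ d (x k : Fin d → F) (y i : Fin d → F)) b)
    (fun x x' y => by
      simp only [skL_apply, Pi.add_apply, Submodule.coe_add, map_add, LinearMap.add_apply, mul_add,
        Finset.sum_add_distrib])
    (fun c x y => by
      simp only [skL_apply, Pi.smul_apply, Submodule.coe_smul, form_smul_left, smul_eq_mul, Finset.mul_sum]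
      exact Finset.sum_congr rfl fun k _ => Finset.sum_congr rfl fun i _ => by ring)
    (fun x y y' => by
      simp only [skL_apply, Pi.add_apply, Submodule.coe_add, map_add, LinearMap.add_apply, mul_add,
        Finset.sum_add_distrib])
    (fun c x y => by
      simp only [skL_apply, Pi.smul_apply, Submodule.coe_smul, form_smul_right, smul_eq_mul, Finset.mul_sum,
        RingHom.id_apply]
      exact Finset.sum_congr rfl fun k _ => Finset.sum_congr rfl fun i _ => by ring)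

theorem cf_apply (κ : F) (b : Skew σ m) (K : Submodule F (Fin d → F)) (x y : Fin m → K) :
    cf κ b K x y = skL σ κ (fun k i => BW σ d (x k : Fin d → F) (y i : Fin d → F)) b := rfl

theorem cf_symm (h : HS q σ B) {κ : F} (hκσ : σ κ = -κ) (b : Skew σ m) (K : Submodule F (Fin d → F)) :
    (cf κ b K).IsSymm := by
  refine ⟨fun x y => ?_⟩
  rw [cf_apply, cf_apply, skL_apply, skL_apply, map_mul, hκσ, map_sum, neg_mul, ← mul_neg, ← Finset.sum_neg_distrib]
  congr 1
  simp only [map_sum, ← Finset.sum_neg_distrib]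
  rw [Finset.sum_comm]
  refine Finset.sum_congr rfl fun k _ => Finset.sum_congr rfl fun i _ => ?_
  rw [map_mul, Skew.eq, (hs_pi (hs_one h) d).sy, neg_mul, neg_neg]

theorem mem_ker_cf (h : HS q σ B) {κ : F} (hκ : κ ≠ 0) (hκσ : σ κ = -κ) (b : Skew σ m) (K : Submodule F (Fin d → F))
    (x : Fin m → K) : x ∈ LinearMap.ker (cf κ b K) ↔
      ∀ l, ∀ u ∈ K, BW σ d u (∑ i, (b : Fin m → Fin m → F) l i • (x i : Fin d → F)) = 0 := by
  have hS := cf_symm h hκσ b K
  have h1 : ∀ y : Fin m → K, cf κ b K y x =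
      κ * ∑ k, BW σ d (y k : Fin d → F) (∑ i, (b : Fin m → Fin m → F) k i • (x i : Fin d → F)) := by
    intro y
    rw [cf_apply, skL_apply]
    congr 1
    refine Finset.sum_congr rfl fun k _ => ?_
    rw [map_sum]
    exact Finset.sum_congr rfl fun i _ => (form_smul_right _ _ _).symm
  rw [LinearMap.mem_ker]
  constructor
  · intro hx l u hu
    classical
    have h2 := h1 (Pi.single l ⟨u, hu⟩)
    rw [← hS.eq, hx, LinearMap.zero_apply, map_zero, Finset.sum_eq_single l] at h2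
    · rw [Pi.single_eq_same] at h2
      exact (mul_eq_zero.1 h2.symm).resolve_left hκ
    · intro k _ hk
      rw [Pi.single_eq_of_ne hk, Submodule.coe_zero, map_zero, LinearMap.zero_apply]
    · intro h3
      exact absurd (Finset.mem_univ _) h3
  · intro hx
    apply LinearMap.ext
    intro y
    rw [← hS.eq, h1, Finset.sum_eq_zero fun k _ => hx k _ (y k).2, mul_zero, map_zero]
    rfl

theorem mem_Fx_sg (h : HS q σ B) (W : WB B e f) (b : Skew σ m) (k : UU (BW σ d)) (v : Fin d → V) :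
    v ∈ Fx (sg h W b) k ↔ (∀ i, (fun j => B (e i) (v j)) ∈ fx k) ∧
      ∀ l, ac (BW σ d) k (fun j => B (f l) (v j)) + ∑ i, (b : Fin m → Fin m → F) l i • (fun j => B (e i) (v j)) =
        fun j => B (f l) (v j) := by
  rw [mem_Fx]
  constructor
  · intro hv
    have h1 : ∀ i, (fun j => B (e i) (v j)) ∈ fx k := by
      intro i
      rw [mem_fx]
      funext j
      rw [← form_hL, ← e_sg h W b, hv]
    refine ⟨h1, fun l => ?_⟩
    funext j
    rw [← hv j, f_sg, Pi.add_apply, ← form_hL, Finset.sum_apply]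
    congr 1
    refine Finset.sum_congr rfl fun i _ => ?_
    rw [Pi.smul_apply, smul_eq_mul, form_hL, mem_fx.1 (h1 i)]
  · rintro ⟨h1, h2⟩ j
    refine W.ext h (fun i => ?_) (fun l => ?_)
    · rw [e_sg, form_hL, mem_fx.1 (h1 i)]
    · rw [f_sg, form_hL]
      have h3 := congrFun (h2 l) j
      rw [Pi.add_apply, Finset.sum_apply] at h3
      rw [← h3]
      congr 1
      refine Finset.sum_congr rfl fun i _ => ?_
      rw [Pi.smul_apply, smul_eq_mul, form_hL, mem_fx.1 (h1 i)]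

/-- the dimension of the fixed space of `z ⊗ k`, `z` in the Siegel radical -/
theorem finrank_Fx_sg (h : HS q σ B) (W : WB B e f) (b : Skew σ m) (k : UU (BW σ d)) {κ : F} (hκ : κ ≠ 0)
    (hκσ : σ κ = -κ) :
    finrank F (Fx (sg h W b) k) = finrank F (Fin m → fx k) + finrank F (LinearMap.ker (cf κ b (fx k))) := by
  have hHW : HS q σ (BW σ d) := hs_pi (hs_one h) d
  -- the map `v ↦ B (e i) v`
  let T : Fx (sg h W b) k →ₗ[F] (Fin m → fx k) :=
    { toFun := fun v i => ⟨fun j => B (e i) ((v : Fin d → V) j), ((mem_Fx_sg h W b k _).1 v.2).1 i⟩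
      map_add' := fun v w => by
        funext i
        apply Subtype.ext
        funext j
        exact map_add _ _ _
      map_smul' := fun c v => by
        funext i
        apply Subtype.ext
        funext j
        exact map_smul (B (e i)) _ _ }
  have hT : ∀ v i j, ((T v i : fx k) : Fin d → F) j = B (e i) ((v : Fin d → V) j) := fun v i j => rfl
  have hrange : LinearMap.range T = LinearMap.ker (cf κ b (fx k)) := by
    ext x
    rw [mem_ker_cf h hκ hκσ]
    constructor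
    · rintro ⟨v, rfl⟩ l u hu
      have h1 := ((mem_Fx_sg h W b k _).1 v.2).2 l
      set a : Fin d → F := fun j => B (f l) ((v : Fin d → V) j) with ha
      have h2 : ∑ i, (b : Fin m → Fin m → F) l i • ((T v i : fx k) : Fin d → F) = a - ac (BW σ d) k a := by
        rw [eq_sub_iff_add_eq, add_comm]
        exact h1
      rw [h2, form_sub_right]
      have h3 := form_ac k u a
      rw [mem_fx.1 hu] at h3
      rw [h3, sub_self]
    · intro hx
      choose a ha using fun l => exists_sub_ac hHW k (hx l)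
      let v : Fin d → V := fun j => ∑ k', a k' j • e k' + ∑ k', ((x k' : fx k) : Fin d → F) j • f k'
      have hev : ∀ i, (fun j => B (e i) (v j)) = ((x i : fx k) : Fin d → F) := by
        intro i
        funext j
        show B (e i) (∑ k', a k' j • e k' + ∑ k', ((x k' : fx k) : Fin d → F) j • f k') = _
        rw [form_add_right, W.e_sum, W.e_sumf, zero_add]
      set c : Fin m → Fin d → F := fun l => ∑ k', B (f l) (f k') • ((x k' : fx k) : Fin d → F) with hc
      have hck : ∀ l, ac (BW σ d) k (c l) = c l := by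
        intro l
        have h1 : c l ∈ fx k := Submodule.sum_mem _ fun k' _ => Submodule.smul_mem _ _ (x k').2
        exact h1
      have hfv : ∀ l, (fun j => B (f l) (v j)) = a l + c l := by
        intro l
        funext j
        show B (f l) (∑ k', a k' j • e k' + ∑ k', ((x k' : fx k) : Fin d → F) j • f k') = _
        have h1 : c l j = ∑ k', (B (f l) (f k') • ((x k' : fx k) : Fin d → F)) j := Finset.sum_apply _ _ _
        rw [form_add_right, W.f_sum h, Pi.add_apply, map_sum, h1]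
        congr 1
        refine Finset.sum_congr rfl fun k' _ => ?_
        rw [form_smul_right, Pi.smul_apply, smul_eq_mul, mul_comm]
      have hv : v ∈ Fx (sg h W b) k := by
        rw [mem_Fx_sg]
        refine ⟨fun i => by rw [hev]; exact (x i).2, fun l => ?_⟩
        rw [hfv, ac_add, hck]
        simp only [hev]
        rw [← ha l]
        abel
      refine ⟨⟨v, hv⟩, ?_⟩
      funext i
      apply Subtype.ext
      exact hev i
  have hker : finrank F (LinearMap.ker T) = finrank F (Fin m → fx k) := by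
    have hmem : ∀ v : LinearMap.ker T, ∀ i j, B (e i) (((v : Fx (sg h W b) k) : Fin d → V) j) = 0 := by
      intro v i j
      rw [← hT, LinearMap.mem_ker.1 v.2]
      rfl
    have hfx : ∀ v : LinearMap.ker T, ∀ l, (fun j => B (f l) (((v : Fx (sg h W b) k) : Fin d → V) j)) ∈ fx k := by
      intro v l
      have h1 := ((mem_Fx_sg h W b k _).1 (v : Fx (sg h W b) k).2).2 l
      rw [mem_fx]
      rw [Finset.sum_eq_zero, add_zero] at h1
      · exact h1
      · intro i _
        funext j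
        rw [Pi.smul_apply, hmem v i j, smul_zero]
        rfl
    let G : LinearMap.ker T →ₗ[F] (Fin m → fx k) :=
      { toFun := fun v l => ⟨fun j => B (f l) (((v : Fx (sg h W b) k) : Fin d → V) j), hfx v l⟩
        map_add' := fun v w => by
          funext i
          apply Subtype.ext
          funext j
          exact map_add _ _ _
        map_smul' := fun c v => by
          funext i
          apply Subtype.ext
          funext j
          exact map_smul (B (f i)) _ _ }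
    have hG : ∀ v l j, ((G v l : fx k) : Fin d → F) j = B (f l) (((v : Fx (sg h W b) k) : Fin d → V) j) :=
      fun v l j => rfl
    refine LinearEquiv.finrank_eq (LinearEquiv.ofBijective G ⟨?_, ?_⟩)
    · intro v w hvw
      apply Subtype.ext
      apply Subtype.ext
      funext j
      refine W.ext h (fun i => ?_) (fun l => ?_)
      · rw [hmem, hmem]
      · rw [← hG, ← hG, hvw]
    · intro a
      let v : Fin d → V := fun j => ∑ k', ((a k' : fx k) : Fin d → F) j • e k'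
      have hev : ∀ i, (fun j => B (e i) (v j)) = 0 := by
        intro i
        funext j
        exact W.e_sum _ _
      have hfv : ∀ l, (fun j => B (f l) (v j)) = ((a l : fx k) : Fin d → F) := by
        intro l
        funext j
        exact W.f_sum h _ _
      have hv : v ∈ Fx (sg h W b) k := by
        rw [mem_Fx_sg]
        refine ⟨fun i => by rw [hev]; exact zero_mem _, fun l => ?_⟩
        rw [hfv, mem_fx.1 (a l).2]
        simp only [hev, smul_zero, Finset.sum_const_zero, add_zero]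
      have hv2 : (⟨v, hv⟩ : Fx (sg h W b) k) ∈ LinearMap.ker T := by
        rw [LinearMap.mem_ker]
        funext i
        apply Subtype.ext
        exact hev i
      refine ⟨⟨⟨v, hv⟩, hv2⟩, ?_⟩
      funext l
      apply Subtype.ext
      exact hfv l
  have h1 := LinearMap.finrank_range_add_finrank_ker T
  rw [hrange, hker] at h1
  rw [← h1, add_comm]

end Siegel


section Fin

variable {F : Type u} {V : Type v} [Field F] [AddCommGroup V] [Module F V] {q : ℕ} {σ : F →+* F}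
  {B : V →ₛₗ[σ] V →ₗ[F] F} [Finite F] [Finite V] {m d : ℕ} {e f : Fin m → V}

theorem exists_WB (h : HS q σ B) (hn : finrank F V = 2 * m) : ∃ e f : Fin m → V, WB B e f := by
  classical
  obtain ⟨E, -, hE, hEm⟩ := exists_max h (m := m) (Or.inr hn) (E := ⊥) (by
    intro x hx y hy
    rw [(Submodule.mem_bot F).1 hy, map_zero])
  let bE := Module.finBasisOfFinrankEq F E hEm
  let e : Fin m → V := fun i => (bE i : V)
  have hspan : ∀ v ∈ E, ∃ c : Fin m → F, v = ∑ k, c k • e k := by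
    intro v hv
    refine ⟨fun k => bE.repr ⟨v, hv⟩ k, ?_⟩
    have h1 := congrArg Subtype.val (bE.sum_repr ⟨v, hv⟩)
    rw [Submodule.coe_sum] at h1
    exact h1.symm
  have hperp : perp B E = E := by
    have hle : E ≤ perp B E := fun v hv w hw => hE w hw v hv
    refine (Submodule.eq_of_le_of_finrank_eq hle ?_).symm
    have := finrank_perp h E
    omega
  have hmem : ∀ v, (∀ i, B (e i) v = 0) → v ∈ E := by
    intro v hv
    rw [← hperp]
    intro w hw
    obtain ⟨c, rfl⟩ := hspan w hw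
    rw [LinearMap.map_sum₂]
    exact Finset.sum_eq_zero fun k _ => by rw [form_smul_left, hv, mul_zero]
  let L : V →ₗ[F] (Fin m → F) := LinearMap.pi fun i => B (e i)
  have hker : LinearMap.ker L = E := by
    ext v
    rw [LinearMap.mem_ker]
    constructor
    · intro hv
      exact hmem v fun i => congrFun hv i
    · intro hv
      funext i
      exact hE _ (bE i).2 _ hv
  have h1 := LinearMap.finrank_range_add_finrank_ker L
  rw [hker, hEm, hn] at h1
  have h2 : LinearMap.range L = ⊤ := by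
    refine Submodule.eq_top_of_finrank_eq ?_
    rw [Module.finrank_fin_fun]
    omega
  have h3 : ∀ j : Fin m, ∃ x, L x = Pi.single j 1 := by
    intro j
    have h4 : (Pi.single j 1 : Fin m → F) ∈ LinearMap.range L := by rw [h2]; exact Submodule.mem_top
    exact h4
  choose f hf using h3
  refine ⟨e, f, ⟨fun i j => hE _ (bE i).2 _ (bE j).2, fun i j => ?_, fun v hv => hspan v (hmem v hv)⟩⟩
  have h4 := congrFun (hf j) i
  show L (f j) i = _
  rw [h4, Pi.single_apply]

/-- no fixed vectors of the pointwise stabiliser of a totally singular subspace -/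
theorem sum_FixS_zero (h : HS q σ B) (hn : finrank F V = 3) {χ : UU B → ℂ} (hχ : IsCharacter (UU B) χ) (hr : NoRef χ)
    {S : Submodule F V} (hS : IsTS B S) : ∑ᶠ g : FixS B S, χ (g : UU B) = 0 := by
  have h1 := finrank_le_of_TS h hS
  have h2 := finrank_perp h S
  obtain ⟨f, hf, hff⟩ := exists_unit h (W := perp B S) (fun h3 => by
    have h4 := finrank_le_of_TS h h3
    omega)
  have hle : Ref B f ≤ FixS B S := by
    intro g hg s hs
    refine hg s ?_
    rw [mem_perp_span]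
    exact h.zero_symm (hf s hs)
  by_contra hcon
  obtain ⟨n, ρ, rfl⟩ := hχ
  have h3 : md (FixS B S) ρ.character ≠ 0 := by
    rw [Ne, md_eq_zero_iff]
    exact hcon
  obtain ⟨w, hw, hfix⟩ := (md_ne_zero_iff ρ _).1 h3
  exact not_noFix ρ (Q := Ref B f) hw (fun y hy => hfix y (hle hy)) (hr f hff)

theorem sum_pi_sub [Fintype V] (K : Submodule F V) [Fintype K] (φ : (Fin m → V) → ℂ) [∀ x : Fin m → V, Decidable (∀ i, x i ∈ K)] :
    ∑ x : Fin m → K, φ (fun i => (x i : V)) = ∑ x : Fin m → V, if ∀ i, x i ∈ K then φ x else 0 := by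
  classical
  rw [← Finset.sum_filter]
  refine Finset.sum_bij' (fun x _ i => (x i : V)) (fun x hx i => ⟨x i, (Finset.mem_filter.1 hx).2 i⟩) ?_ ?_ ?_ ?_ ?_
  · intro x _
    rw [Finset.mem_filter]
    exact ⟨Finset.mem_univ _, fun i => (x i).2⟩
  · intro x _
    exact Finset.mem_univ _
  · intro x _
    rfl
  · intro x _
    rfl
  · intro x _
    rfl

/-- the sum over the Siegel radical -/
theorem sum_sg_zero (h : HS q σ B) (W : WB B e f) (h2 : (2 : F) ≠ 0) [Fintype (UU (BW σ 3))] [Fintype (Skew σ m)]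
    {ζ : UU (BW σ 3) → ℂ}
    (hζ : IsCharacter (UU (BW σ 3)) ζ) (hr : NoRef ζ) :
    ∑ b : Skew σ m, thl (iG h 3) (fun g => - wf q g) ζ (sg h W b) = 0 := by
  classical
  have := Fintype.ofFinite F
  have hHW : HS q σ (BW σ 3) := hs_pi (hs_one h) 3
  obtain ⟨κ, hκ, hκσ'⟩ := Cfsg.Agent.H910.CC.exists_skew h
  have hκσ : σ κ = -κ := eq_neg_of_add_eq_zero_right hκσ'
  obtain ⟨ψ, hψ⟩ : ∃ ψ : AddChar F ℂ, ψ 1 ≠ 1 := AddChar.exists_apply_ne_zero.2 one_ne_zero
  set Gm : (Fin m → (Fin 3 → F)) → Fin m → Fin m → F := fun x k i => BW σ 3 (x k) (x i) with hGm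
  -- the Gauss sum
  have h3 : ∀ (b : Skew σ m) (k : UU (BW σ 3)), - wf q (iG h 3 (sg h W b, k)) =
      (q : ℂ) * ∑ x : Fin m → (Fin 3 → F), if ∀ i, x i ∈ fx k then ψ (skL σ κ (Gm x) b) else 0 := by
    intro b k
    have := Fintype.ofFinite (fx k)
    rw [wf_iG, finrank_Fx_sg h W b k hκ hκσ,
      ← gauss h.card h.sig h.ne_id h.inv hψ (cf κ b (fx k)) (cf_symm h hκσ b _),
      ← sum_pi_sub (fx k) (fun x => ψ (skL σ κ (Gm x) b))]
    rfl
  have h4 : ∀ x : Fin m → (Fin 3 → F), (∑ b : Skew σ m, ψ (skL σ κ (Gm x) b)) *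
      (∑ k : UU (BW σ 3), if ∀ i, x i ∈ fx k then conj (ζ k) else 0) = 0 := by
    intro x
    by_cases hx : Gm x = 0
    · have hS : IsTS (BW σ 3) (Submodule.span F (Set.range x)) := by
        have h5 : ∀ i, ∀ w ∈ Submodule.span F (Set.range x), BW σ 3 (x i) w = 0 := by
          intro i w hw
          induction hw using Submodule.span_induction with
          | mem a ha =>
            obtain ⟨j, rfl⟩ := ha
            exact congrFun (congrFun hx i) j
          | zero => exact map_zero _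
          | add a b _ _ ha hb => rw [form_add_right, ha, hb, add_zero]
          | smul c a _ ha => rw [form_smul_right, ha, mul_zero]
        intro u hu w hw
        induction hu using Submodule.span_induction with
        | mem a ha =>
          obtain ⟨j, rfl⟩ := ha
          exact h5 j w hw
        | zero => rw [map_zero, LinearMap.zero_apply]
        | add a b _ _ ha hb => rw [form_add_left, ha, hb, add_zero]
        | smul c a _ ha => rw [form_smul_left, ha, mul_zero]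
      have h5 := sum_FixS_zero hHW (by rw [Module.finrank_fin_fun]) hζ hr hS
      have h6 : (∑ k : UU (BW σ 3), if ∀ i, x i ∈ fx k then conj (ζ k) else 0) =
          conj (∑ᶠ g : FixS (BW σ 3) (Submodule.span F (Set.range x)), ζ (g : UU (BW σ 3))) := by
        have := Fintype.ofFinite (FixS (BW σ 3) (Submodule.span F (Set.range x)))
        rw [finsum_eq_sum_of_fintype, map_sum, ← Finset.sum_filter]
        symm
        refine Finset.sum_bij' (fun g _ => (g : UU (BW σ 3))) (fun g hg => ⟨g, ?_⟩) ?_ ?_ ?_ ?_ ?_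
        · intro w hw
          have h7 := (Finset.mem_filter.1 hg).2
          induction hw using Submodule.span_induction with
          | mem a ha =>
            obtain ⟨j, rfl⟩ := ha
            exact h7 j
          | zero => exact ac_zero g
          | add a b _ _ ha hb => rw [ac_add, ha, hb]
          | smul c a _ ha => rw [ac_smul, ha]
        · intro g _
          rw [Finset.mem_filter]
          exact ⟨Finset.mem_univ _, fun i => g.2 _ (Submodule.subset_span ⟨i, rfl⟩)⟩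
        · intro g _
          exact Finset.mem_univ _
        · intro g _
          rfl
        · intro g _
          rfl
        · intro g _
          rfl
      rw [h6, h5, map_zero, mul_zero]
    · rw [sum_skew h.inv h2 hκ hκσ hψ (fun k i => hHW.sy _ _) hx, zero_mul]
  have h5 : ∀ b : Skew σ m, thl (iG h 3) (fun g => - wf q g) ζ (sg h W b) =
      ∑ x : Fin m → (Fin 3 → F), (q : ℂ) * (ψ (skL σ κ (Gm x) b) *
        (∑ k : UU (BW σ 3), if ∀ i, x i ∈ fx k then conj (ζ k) else 0)) := by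
    intro b
    rw [thl]
    simp only [h3]
    have h6 : ∀ k : UU (BW σ 3), ((q : ℂ) * ∑ x : Fin m → (Fin 3 → F), if ∀ i, x i ∈ fx k then ψ (skL σ κ (Gm x) b) else 0) *
        conj (ζ k) = ∑ x : Fin m → (Fin 3 → F), (q : ℂ) * (ψ (skL σ κ (Gm x) b) * if ∀ i, x i ∈ fx k then conj (ζ k) else 0) := by
      intro k
      rw [Finset.mul_sum, Finset.sum_mul]
      refine Finset.sum_congr rfl fun x _ => ?_
      split_ifs
      · ring
      · ring
    rw [Finset.sum_congr rfl fun k _ => h6 k, Finset.sum_comm]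
    refine Finset.sum_congr rfl fun x _ => ?_
    rw [← Finset.mul_sum, ← Finset.mul_sum]
  rw [Finset.sum_congr rfl fun b _ => h5 b, Finset.sum_comm]
  refine Finset.sum_eq_zero fun x _ => ?_
  rw [← Finset.mul_sum, ← Finset.sum_mul, h4, mul_zero]

/-- `Good` for the full unitary group of even dimension `e + 1` -/
theorem good_UU_even (h : HS q σ B) {e' : ℕ} (he : Odd e') (he5 : 5 ≤ e') (hn : finrank F V = e' + 1)
    {p r : ℕ} [Fact p.Prime] [Fact r.Prime] [CharP F r] (hr2 : r ≠ 2) (hpr : p ≠ r) (hp : ¬ p ∣ Nat.card F)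
    (hord : ∀ i, 0 < i → i < e' → ¬ p ∣ Nat.card F ^ i - 1) (hpe : p ∣ Nat.card F ^ e' - 1)
    (hd : p ∣ Nat.card (UU B)) : Good p r (UU B) := by
  classical
  have hrp : r.Prime := Fact.out
  have hpp : p.Prime := Fact.out
  have hpF : (p : F) ≠ 0 := by
    rw [Ne, CharP.cast_eq_zero_iff F r]
    intro h1
    exact hpr ((Nat.prime_dvd_prime_iff_eq hrp hpp).1 h1).symm
  have h2F : (2 : F) ≠ 0 := by
    intro h1
    have h3 : ((2 : ℕ) : F) = 0 := by exact_mod_cast h1
    rw [CharP.cast_eq_zero_iff F r] at h3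
    exact hr2 ((Nat.prime_dvd_prime_iff_eq hrp Nat.prime_two).1 h3)
  obtain ⟨m, hm⟩ : ∃ m, e' + 1 = 2 * m := by
    obtain ⟨k, hk⟩ := he
    exact ⟨k + 1, by omega⟩
  obtain ⟨e, f, W⟩ := exists_WB h (hn.trans hm)
  have hHW : HS q σ (BW σ 3) := hs_pi (hs_one h) 3
  have hfW : finrank F (Fin 3 → F) = 3 := by rw [Module.finrank_fin_fun]
  obtain ⟨χ, hχr, -, hχz, hχ, -⟩ := exists_unique_weil hHW (by rw [hfW]; exact ⟨1, rfl⟩) (by rw [hfW]) 1
  have hz : ∀ z ∈ Zs (BW σ 3), ∀ k, (χ : UU (BW σ 3) → ℂ) (z * k) = (χ : UU (BW σ 3) → ℂ) k := by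
    intro z hz k
    have h1 := hχz ⟨z, hz⟩ k
    rwa [MonoidHom.one_apply, Units.val_one, one_mul] at h1
  have hf : ∀ g : UU (BW σ 3), (χ : UU (BW σ 3) → ℂ) g =
      ((q : ℂ) + 1)⁻¹ * ∑ᶠ z : Zs (BW σ 3), (- wf q ((z : UU (BW σ 3)) * g)) := by
    intro g
    rw [hχ]
    congr 1
    exact finsum_congr fun z => by rw [MonoidHom.one_apply, inv_one, Units.val_one, one_mul]
  have := Fintype.ofFinite (UU (BW σ 3))
  have := Fintype.ofFinite (Skew σ m)
  have hfX : finrank F ((Fin 3 → V) × F) = 3 * (e' + 1) + 1 := by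
    rw [Module.finrank_prod, finrank_self, Module.finrank_pi_fintype]
    simp only [hn, Finset.sum_const, Finset.card_univ, Fintype.card_fin, smul_eq_mul]
  have hom : IsCharacter (UU (prB (piB B 3))) (fun g => - wf q g) :=
    weil_isCharacter (hs_pr (hs_pi h 3)) (by rw [hfX]; exact ⟨3 * m, by omega⟩) (by rw [hfX]; omega)
  obtain ⟨u, hu⟩ := exists_prime_orderOf_dvd_card' p hd
  refine good_of_theta (iG h 3) hom (isIrr_isCharacter χ.2) (sgH h W).range ?_ ?_ hu
    (sum_ne_zero h χ.2 hz hf)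
    (fun x hx => thl_sing h hpF (by omega) hn hp hord hpe (by omega) hz hx)
  · have h1 : IsPGroup r (Multiplicative (Skew σ m)) := by
      intro b
      refine ⟨1, ?_⟩
      rw [pow_one]
      apply Multiplicative.toAdd.injective
      rw [toAdd_pow, toAdd_one]
      apply Subtype.ext
      funext k i
      rw [AddSubgroup.coe_nsmul, Pi.smul_apply, Pi.smul_apply, nsmul_eq_mul, CharP.cast_eq_zero, zero_mul]
      rfl
    exact h1.of_surjective (sgH h W).rangeRestrict (sgH h W).rangeRestrict_surjective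
  · let eY : Skew σ m ≃ (sgH h W).range :=
      Multiplicative.ofAdd.trans (MonoidHom.ofInjective (sgH_injective h W)).toEquiv
    rw [← finsum_comp_equiv eY, finsum_eq_sum_of_fintype]
    exact sum_sg_zero h W h2F (isIrr_isCharacter χ.2) hχr

end Fin

section SU

open Cfsg.Agent.H91.U Cfsg.Agent.LieClassical.HermBasic Matrix

variable {F : Type u} [Field F] [Fintype F] {q n : ℕ}

theorem p_dvd_SU' (hF : Fintype.card F = q ^ 2) {e p : ℕ} [Fact p.Prime] (he : Odd e) (hpq : ¬ p ∣ q + 1)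
    (h1 : p ∣ q ^ e + 1) : p ∣ Nat.card (SU (e + 1) F q) := by
  have he1 : 1 ≤ e := he.pos
  have h2 := Cfsg.Agent.S0278.result hF (e + 1) (by omega)
  have h3 : p ∣ ∏ i ∈ Finset.range (e + 1), (if Even i then q ^ (i + 1) + 1 else q ^ (i + 1) - 1) := by
    refine dvd_trans ?_ (Finset.dvd_prod_of_mem _ (Finset.mem_range.2 (show e - 1 < e + 1 by omega)))
    rw [if_pos (by obtain ⟨k, rfl⟩ := he; exact ⟨k, by omega⟩)]
    rwa [Nat.sub_add_cancel he1]
  have h4 : p ∣ (q + 1) * Nat.card (SU (e + 1) F q) := by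
    rw [h2]
    exact dvd_mul_of_dvd_right h3 _
  rcases (Fact.out : p.Prime).dvd_mul.1 h4 with h5 | h5
  · exact absurd h5 hpq
  · exact h5

theorem good_su_even {r : ℕ} [Fact r.Prime] [CharP F r] {p : ℕ} [Fact p.Prime] {e : ℕ} (hr2 : r ≠ 2)
    (hF : Fintype.card F = q ^ 2)
    (he : Odd e) (he5 : 5 ≤ e) (hpr : p ≠ r) (h1 : p ∣ q ^ e + 1)
    (h2 : ∀ i, 0 < i → i < e → ¬ p ∣ q ^ (2 * i) - 1) : Good p r (SU (e + 1) F q) := by
  have h := hs_std hF (e + 1)
  have hfr : finrank F (Fin (e + 1) → F) = e + 1 := finrank_std (e + 1)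
  have hrp : r.Prime := Fact.out
  have hpp : p.Prime := Fact.out
  obtain ⟨n, -, hn⟩ := FiniteField.card F r
  have hcF : Nat.card F = q ^ 2 := by rw [Nat.card_eq_fintype_card, hF]
  have hp : ¬ p ∣ Nat.card F := by
    intro h3
    rw [Nat.card_eq_fintype_card, hn] at h3
    exact hpr ((Nat.prime_dvd_prime_iff_eq hpp hrp).1 (hpp.dvd_of_dvd_pow h3))
  have hpq : ¬ p ∣ q + 1 := not_dvd_succ (by omega) h2
  have hord : ∀ i, 0 < i → i < e → ¬ p ∣ Nat.card F ^ i - 1 := by
    intro i hi hie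
    rw [hcF, ← pow_mul]
    exact h2 i hi hie
  have hpe : p ∣ Nat.card F ^ e - 1 := by
    have h3 : Nat.card F ^ e - 1 = (q ^ e + 1) * (q ^ e - 1) := by
      rw [hcF, ← pow_mul, mul_comm 2 e, pow_mul]
      have := Nat.sq_sub_sq (q ^ e) 1
      simpa only [_root_.one_pow] using this
    rw [h3]
    exact dvd_mul_of_dvd_left h1 _
  have hj : ∀ x y : Fin (e + 1) → F, sB hF (e + 1) (LinearEquiv.refl F (Fin (e + 1) → F) x)
      (LinearEquiv.refl F (Fin (e + 1) → F) y) = hermForm (e + 1) F q y x := fun x y => rfl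
  set i : SU (e + 1) F q →* UU (sB hF (e + 1)) :=
    Cfsg.Agent.H269.CC.homU (LinearEquiv.refl F (Fin (e + 1) → F)) hj with hi
  have hinj : Function.Injective i := by
    intro A A' hAA
    apply Subtype.ext
    apply Subtype.ext
    apply Matrix.toLin'.injective
    refine LinearMap.ext fun v => ?_
    exact congrArg (fun g : UU (sB hF (e + 1)) => ac (sB hF (e + 1)) g v) hAA
  have hd : p ∣ Nat.card (UU (sB hF (e + 1))) :=
    (p_dvd_SU' hF he hpq h1).trans (Subgroup.card_dvd_of_injective i hinj)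
  have hG : Good p r (UU (sB hF (e + 1))) := good_UU_even h he he5 hfr hr2 hpr hp hord hpe hd
  have hrange : i.range = (dt (B := sB hF (e + 1))).ker := by
    ext g
    constructor
    · rintro ⟨A, rfl⟩
      exact dt_homU hF hj A
    · intro hg
      obtain ⟨A, hA⟩ := Cfsg.Agent.H269.CC.exists_homU (LinearEquiv.refl F (Fin (e + 1) → F)) hj (MonoidHom.mem_ker.1 hg)
      exact ⟨A, hA⟩
  have hidx : ¬ r ∣ (dt (B := sB hF (e + 1))).ker.index := by
    rw [Subgroup.index_ker]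
    intro h3
    have h4 : r ∣ Nat.card Fˣ := h3.trans (Subgroup.card_subgroup_dvd_card _)
    rw [Nat.card_units, Nat.card_eq_fintype_card, hn] at h4
    have h5 : r ∣ r ^ (n : ℕ) := dvd_pow_self r n.2.ne'
    have h6 := (Nat.dvd_sub_iff_right (Nat.one_le_pow _ _ hrp.pos) h5).1 h4
    exact hrp.one_lt.ne' (Nat.dvd_one.1 h6)
  have hN := Good.down (N := (dt (B := sB hF (e + 1))).ker) inferInstance hidx hG
  exact hN.congr ((MulEquiv.subgroupCongr hrange.symm).trans (MonoidHom.ofInjective hinj).symm)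

/-- the theta lift: `PSU_n(q)`, `n` even, `e ≥ 5` -/
theorem good_psu_even {F : Type} [Field F] [Fintype F] {r : ℕ} [Fact r.Prime] [CharP F r] {p : ℕ} [Fact p.Prime]
    {n e q : ℕ} (hr : r ≠ 2) (hpr : p ≠ r)
    (hq : Fintype.card F = q ^ 2) (he : Odd e) (he5 : 5 ≤ e) (hen : e ≤ n) (hne : Even n) (h1 : p ∣ q ^ e + 1)
    (h2 : ∀ i, 0 < i → i < e → ¬ p ∣ q ^ (2 * i) - 1) : Good p r (PSU n F q) := by
  obtain ⟨a, ha⟩ := he
  obtain ⟨b, hb⟩ := hne
  exact good_psu_mid hr hq (k := e + 1) (by omega) (by omega) ⟨b - a - 1, by omega⟩ (not_dvd_succ (by omega) h2)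
    (good_su_even hr hq ⟨a, ha⟩ he5 hpr h1 h2)

/-- **Task [REST-PSU-EVEN]**, `e ≥ 5`. -/
theorem rest_psu_even_of5 {F : Type} [Field F] [Fintype F] {r : ℕ} [Fact r.Prime] [CharP F r] {p : ℕ} [Fact p.Prime]
    {n e q : ℕ} (hpar : ParU r (PSU n F q)) (hr : r ≠ 2) (hpr : p ≠ r)
    (hq : Fintype.card F = q ^ 2) (he : Odd e) (he5 : 5 ≤ e) (hen : e ≤ n) (hne : Even n) (h1 : p ∣ q ^ e + 1)
    (h2 : ∀ i, 0 < i → i < e → ¬ p ∣ q ^ (2 * i) - 1) : EvAt p (PSU n F q) :=
  evAt_of_good (par_of_parU hpar) (good_psu_even hr hpr hq he he5 hen hne h1 h2)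

end SU

end Cfsg.Agent.H697.EP
end

-- part: H790/EP/NrmTor
section
/-!
# Normalizers of finite subgroups of the torus (helper790)

* `exists_rp_of_normalizes` : an element of `D.group k` which normalises a finite subgroup `S` of the torus on which no
  root vanishes represents an element of the Weyl group.
* `comm_of_twist` : if `g σ(y) g⁻¹ = y` then the Weyl group elements of `g` and `y` commute.
-/

set_option autoImplicit false
set_option linter.unusedSectionVars false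

namespace Cfsg.Agent.H790.EP.NrmTor

open CoxeterSystem Cfsg Cfsg.Lie Cfsg.Lie.ChevalleyDatum
open Cfsg.Agent.ChevalleyStructure Cfsg.Agent.ChevalleyStructure.Elts Cfsg.Agent.ChevalleyStructure.CoxeterGeom
  Cfsg.Agent.ChevalleyStructure.CoxeterGeomTypes Cfsg.Agent.ChevalleyStructure.NPerm
open Cfsg.Agent.Tits.Roots Cfsg.Agent.Tits.Core Cfsg.Agent.Nodes Cfsg.Agent.Nodes.Reps Cfsg.Agent.Nodes.BNOf
  Cfsg.Agent.Nodes.RGDChev Cfsg.Agent.Nodes.Bruhat
open Cfsg.Agent.KFacts.RgdField Cfsg.Agent.KFacts.RgdChevCoord Cfsg.Agent.BpExc.TorCent Cfsg.Agent.BpExc.TorChev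
open Cfsg.Agent.GpExc.Field Cfsg.Agent.BpExc.Tow Cfsg.Agent.BpExc.TowChev Cfsg.Agent.BpExc.Fr
  Cfsg.Agent.BpExc.LangFr Cfsg.Agent.LangThm Cfsg.Agent.BpExc Cfsg.Agent.H129.TorusChar Cfsg.Agent.H129.TorusCent
  Cfsg.Agent.H129.TorusTw Cfsg.Agent.H129.TorusMain Cfsg.Agent.H720.TorusReal

universe u

variable {D : ChevalleyDatum} {l : ℕ} {M : CoxeterMatrix (Fin l)} (hp : IsType D l M) {k : Type u} [Field k]
  {W : Type*} [Group W] (cs : CoxeterSystem M W)

/-- An element normalising a finite subgroup of the torus on which no root vanishes represents an element of `W`. -/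
theorem exists_rp_of_normalizes [Finite W] (hk : LocFin k) (p : ℕ) [Fact p.Prime] [CharP k p]
    (hN : NSys M (TT D k) (nc hp k)) {S : Subgroup ↥(D.group k)} [Finite S] (hS : S ≤ TT D k)
    (hroot : ∀ a, IsRoot cs hp.isCartan a → ∃ s ∈ S, ch hp a s ≠ 1) {y : ↥(D.group k)}
    (hy : y ∈ Subgroup.normalizer (S : Set ↥(D.group k))) : ∃ w : W, Rp cs hN w y := by
  have H := tow hp cs hk p
  have C := coordsL hp cs hk p
  have hyG : y ∈ GG cs hp.isCartan (TL (Tj hp (k := k))) (XL (Xj hp)) := by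
    rw [GG_eq_top hp cs hk]; exact Subgroup.mem_top y
  obtain ⟨j1, h1⟩ := H.exists_level (S := fun j => ((Tj hp (k := k) j : Subgroup ↥(D.group k)) : Set _))
    (fun a b h => H.monoT h) (f := fun s : ↥S => (s : ↥(D.group k))) (fun s => by
      have h2 := hS s.2
      rw [← TL_eq hp hk] at h2
      exact H.mem_TL.1 h2)
  obtain ⟨j2, h2⟩ := H.mem_GG.1 hyG
  obtain ⟨j, b1, b2⟩ := H.dir j1 j2
  obtain ⟨w, hw⟩ := (Cfsg.Agent.Nodes.Bruhat.mem_GG (H.rgd j)).1 (H.mono_GG b2 h2)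
  obtain ⟨u, hu, k', hk', v, hv, rfl⟩ := Cfsg.Agent.Nodes.NormalForm.exists_normal_form (H.rgd j) hw
  have hSj : (S : Set ↥(D.group k)) ⊆ Tj hp (k := k) j := fun s hs => H.monoT b1 (h1 ⟨s, hs⟩)
  have key : ∀ s ∈ S, (u * k' * v) * s * (u * k' * v)⁻¹ * u = u * ((u * k' * v) * s * (u * k' * v)⁻¹) ∧
      s * v = v * s := by
    intro s hs
    have hs' : (u * k' * v) * s * (u * k' * v)⁻¹ ∈ S := (Subgroup.mem_normalizer_iff.1 hy s).1 hs
    have h3 := conj_form' (H.rgd j) (hSj hs) (hSj hs') hu hk' hv (by group)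
    exact ⟨h3.1, h3.2.2⟩
  have huC : u ∈ Subgroup.centralizer (S : Set ↥(D.group k)) := by
    rw [Subgroup.mem_centralizer_iff]
    intro s hs
    obtain ⟨s', hs', e⟩ : ∃ s' ∈ S, (u * k' * v) * s' * (u * k' * v)⁻¹ = s := by
      refine ⟨(u * k' * v)⁻¹ * s * (u * k' * v), ?_, by group⟩
      rw [Subgroup.mem_normalizer_iff.1 hy]
      have : u * k' * v * ((u * k' * v)⁻¹ * s * (u * k' * v)) * (u * k' * v)⁻¹ = s := by group
      rw [this]; exact hs
    rw [← e]
    exact (key s' hs').1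
  have hvC : v ∈ Subgroup.centralizer (S : Set ↥(D.group k)) := by
    rw [Subgroup.mem_centralizer_iff]
    exact fun s hs => (key s hs).2
  -- the unipotent part of the centraliser is trivial
  have htriv : ∀ x ∈ RGD.Sup (Xj hp (k := k) j) (RGD.Pos cs hp.isCartan), x ∈ Subgroup.centralizer (S : Set _) →
      x = 1 := by
    intro x hx hxC
    have h3 : x ∈ RGD.Sup (Xj hp (k := k) j) (RGD.Pos cs hp.isCartan) ⊓ Subgroup.centralizer (S : Set _) :=
      ⟨hx, hxC⟩
    rw [Cfsg.Agent.Nodes.NormalForm.centralizer_U (H.rgd j) hSj] at h3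
    have h4 : RGD.Sup (fun x => Xj hp (k := k) j x ⊓ Subgroup.centralizer (S : Set ↥(D.group k)))
        (RGD.Pos cs hp.isCartan) ≤ ⊥ := by
      refine RGD.Sup_le fun a ha => ?_
      rintro z ⟨hz1, hz2⟩
      rw [Subgroup.mem_bot]
      by_contra hz
      obtain ⟨s, hs, hsa⟩ := hroot a ha.1
      have hzX : z ∈ XX D l k a := by
        have := le_XL (X := Xj hp (k := k)) j a hz1
        rwa [XL_eq hp hk] at this
      have h5 := mem_Sx_of_centralizer (x := s) C (hS hs) ha.1 hzX hz (by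
        rw [Subgroup.mem_centralizer_singleton_iff]
        exact ((Subgroup.mem_centralizer_iff.1 hz2) s hs).symm)
      exact hsa h5.2
    exact Subgroup.mem_bot.1 (h4 h3)
  have hu1 : u = 1 := htriv u hu huC
  have hv1 : v = 1 := htriv v (RGD.Sup_mono (S := Cfsg.Agent.Nodes.NormalForm.NW cs hp.isCartan w) (S' := RGD.Pos cs hp.isCartan)
    (fun x hx => ⟨hx.1, hx.2.1⟩) hv) hvC
  refine ⟨w, ?_⟩
  rw [hu1, hv1, one_mul, mul_one]
  have hk2 := H.rp_up hk'
  have key2 : ∀ (T : Subgroup ↥(D.group k)) (h1 : NSys M T (nc hp k)) (h2 : T = TT D k), Rp cs h1 w k' →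
      Rp cs hN w k' := by
    intro T h1 h2 h3
    subst h2
    exact h3
  exact key2 _ _ (TL_eq hp hk) hk2

/-- If `g σ(y) g⁻¹ = y`, the Weyl group elements of `g` and `y` commute (`σ` acting trivially on the lattice). -/
theorem comm_of_twist [IsAlgClosed k] [Finite W] (hk : LocFin k) {p e : ℕ} [Fact p.Prime] [CharP k p]
    {σ : MulAut ↥(D.group k)} (hσ : IsFrob p e σ)
    (F : Fr cs hp.isCartan (TT D k) (XX D l k) σ (AddEquiv.refl (Fin l → ℤ))) {d' : ℕ} {B' : Fin l → Fin l → ℤ}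
    (hB : InvC D l d' B') (hd' : d' ≠ 0) {hN : NSys M (TT D k) (nc hp k)} {w v : W} {g y : ↥(D.group k)}
    (hg : Rp cs hN w g) (hy : Rp cs hN v y) (hgy : g * σ y * g⁻¹ = y) : v * w = w * v := by
  obtain ⟨τ, hτ, h1, h2⟩ := exists_regular (k := k) hp cs p hB hd'
  -- `τ = y (g σ(t) g⁻¹) y⁻¹`
  have hgN := fun t => Subgroup.mem_normalizer_iff.1 hg.mem_normalizer t
  have hyN := fun t => Subgroup.mem_normalizer_iff.1 hy.mem_normalizer t
  obtain ⟨t, ht, ee⟩ : ∃ t ∈ TT D k, y * (g * σ t * g⁻¹) * y⁻¹ = τ := by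
    refine ⟨σ⁻¹ (g⁻¹ * (y⁻¹ * τ * y) * g), ?_, ?_⟩
    · rw [← F.tor, MulAut.apply_inv_self, hgN, hyN]
      have : y * (g * (g⁻¹ * (y⁻¹ * τ * y) * g) * g⁻¹) * y⁻¹ = τ := by group
      rw [this]; exact hτ
    · rw [MulAut.apply_inv_self]; group
  have hσt : σ t ∈ TT D k := (F.tor t).2 ht
  have hgt : g * σ t * g⁻¹ ∈ TT D k := (hgN _).1 hσt
  have hyt : y * t * y⁻¹ ∈ TT D k := (hyN _).1 ht
  have e2 : g * σ (y * t * y⁻¹) * g⁻¹ = τ := by
    rw [← ee, map_mul, map_mul, map_inv]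
    have h3 : y * g = g * σ y := by
      conv_lhs => rw [← hgy]
      group
    calc g * (σ y * σ t * (σ y)⁻¹) * g⁻¹ = (g * σ y) * σ t * (g * σ y)⁻¹ := by group
      _ = (y * g) * σ t * (y * g)⁻¹ := by rw [h3]
      _ = _ := by group
  have f1 : ∀ x, cX hp τ (rep cs hp.isCartan (v * w) x) = cX hp t x ^ p ^ e := by
    intro x
    rw [← ee, map_mul (rep cs hp.isCartan)]
    show cX hp _ (rep cs hp.isCartan v (rep cs hp.isCartan w x)) = _
    rw [cX_rp hp cs hk p hy hgt, cX_rp hp cs hk p hg hσt]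
    exact cX_sigma hp cs hσ F ht x
  have f2 : ∀ x, cX hp τ (rep cs hp.isCartan (w * v) x) = cX hp t x ^ p ^ e := by
    intro x
    rw [← e2, map_mul (rep cs hp.isCartan)]
    show cX hp _ (rep cs hp.isCartan w (rep cs hp.isCartan v x)) = _
    rw [cX_rp hp cs hk p hg ((F.tor _).2 hyt)]
    have h3 := cX_sigma hp cs hσ F hyt (rep cs hp.isCartan v x)
    rw [cX_rp hp cs hk p hy ht] at h3
    exact h3
  have h3 := h2 (v * w * (w * v)⁻¹) (fun a _ => by
    have h4 := f1 (rep cs hp.isCartan (w * v)⁻¹ a)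
    have h5 := f2 (rep cs hp.isCartan (w * v)⁻¹ a)
    rw [rep_apply_inv] at h5
    rw [map_mul (rep cs hp.isCartan)]
    show cX hp τ (rep cs hp.isCartan (v * w) (rep cs hp.isCartan (w * v)⁻¹ a)) = _
    rw [h4, h5])
  exact mul_inv_eq_one.1 h3

end Cfsg.Agent.H790.EP.NrmTor
end

-- part: H790/EP/ThmR
section
/-!
# S4929, theorem R (helper790; idea: helper892)

* `even_blockRank_of_real` : if all degrees in `B₀(G)` are odd and `z ≠ 1` is a real `p`-element, `p` odd, then
  `l(B₀(C_G(z)))` is even;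
* `exists_even_of_real_pair`, `evAt_of_real_pair` : `P = ⟨z, u⟩` an abelian Sylow `p`-subgroup, `z ≠ 1` real, no element of
  `N(P) ∩ C(z)` acts on `P` as an involution.
-/

set_option autoImplicit false
set_option linter.unusedSectionVars false

open Cfsg Cfsg.Agent.Blocks.Basic Cfsg.Agent.Blocks.Local Cfsg.Agent.Blocks.Blau
open scoped ComplexConjugate

namespace Cfsg.Agent.H790.EP

open Cfsg.Agent.Characters.Core (finite_irr isIrr_isCharacter isIrr_isClassFunction isIrr_comp)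
open Cfsg.Agent.H613.RegGram Cfsg.Agent.H613.Contrib Cfsg.Agent.H613.ContribVal Cfsg.Agent.H658

section sym

variable {G : Type*} [Group G] [Finite G] {p : ℕ} [Fact p.Prime] {M : Ideal AlgInt}

/-- conjugation by an element inverting `u` -/
theorem exists_aut {u t : G} (ht : t * u * t⁻¹ = u⁻¹) {H : Subgroup G}
    (hH : H = Subgroup.centralizer ({u} : Set G)) : ∃ e : H ≃* H, ∀ y : H, ((e y : H) : G) = t * y * t⁻¹ := by
  have hu : u ∈ H := by rw [hH, Subgroup.mem_centralizer_singleton_iff]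
  have key : ∀ s : G, (s * u * s⁻¹ = u⁻¹) → ∀ y ∈ H, s * y * s⁻¹ ∈ H := by
    intro s hs y hy
    rw [hH, Subgroup.mem_centralizer_singleton_iff] at hy ⊢
    have h1 : u = (s * u * s⁻¹)⁻¹ := by rw [hs, inv_inv]
    calc s * y * s⁻¹ * u = s * y * s⁻¹ * (s * u * s⁻¹)⁻¹ := by rw [← h1]
      _ = s * (y * u⁻¹) * s⁻¹ := by group
      _ = s * (u⁻¹ * y) * s⁻¹ := by
          rw [(show Commute y u⁻¹ from Commute.inv_right (show Commute y u from hy)).eq]
      _ = (s * u * s⁻¹)⁻¹ * (s * y * s⁻¹) := by group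
      _ = u * (s * y * s⁻¹) := by rw [← h1]
  have ht' : t⁻¹ * u * t⁻¹⁻¹ = u⁻¹ := by
    have h1 : u = t⁻¹ * u⁻¹ * t := by rw [← ht]; group
    have h2 : u⁻¹ = t⁻¹ * u * t := by
      calc u⁻¹ = (t⁻¹ * u⁻¹ * t)⁻¹ := by rw [← h1]
        _ = _ := by group
    rw [inv_inv, ← h2]
  refine ⟨{ toFun := fun y => ⟨t * y * t⁻¹, key t ht y y.2⟩
            invFun := fun y => ⟨t⁻¹ * y * t⁻¹⁻¹, key t⁻¹ ht' y y.2⟩
            left_inv := fun y => Subtype.ext (by simp [mul_assoc])
            right_inv := fun y => Subtype.ext (by simp [mul_assoc])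
            map_mul' := fun y y' => Subtype.ext (by simp only [mul_assoc, _root_.Subgroup.coe_mul, _root_.mul_assoc, _root_.MulMemClass.mk_mul_mk, _root_.inv_mul_cancel_left]) }, fun y => rfl⟩

theorem conj_wt {u t : G} (ht : t * u * t⁻¹ = u⁻¹) {H : Subgroup G} [Fintype H]
    (hH : H = Subgroup.centralizer ({u} : Set G)) (e : H ≃* H) (he : ∀ y : H, ((e y : H) : G) = t * y * t⁻¹)
    (ψ : IrrCharacter G) (η : IrrCharacter H) :
    conj (wt p u (ψ : G → ℂ) (η : H → ℂ)) = wt p u (ψ : G → ℂ) ((η : H → ℂ) ∘ e) := by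
  classical
  rw [wt_def, wt_def, rg_def, rg_def, pair_eq_sum_filter, pair_eq_sum_filter, map_mul, map_inv₀,
    Complex.conj_natCast, map_sum]
  congr 1
  let τ : H ≃ H := e.toEquiv.trans (Equiv.inv H)
  have hτ : ∀ y, τ y = (e y)⁻¹ := fun y => rfl
  symm
  refine Finset.sum_equiv τ (fun y => ?_) (fun y _ => ?_)
  · rw [Finset.mem_filter, Finset.mem_filter, hτ, orderOf_inv, e.orderOf_eq]
    simp only [_root_.Finset.mem_univ, _root_.true_and]
  · rw [hτ, map_mul, Complex.conj_conj,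
      ← Cfsg.Agent.Characters.Core.isCharacter_apply_inv (isIrr_isCharacter ψ.2)]
    have h1 : (η : H → ℂ) (e y)⁻¹ = conj ((η : H → ℂ) (e y)) :=
      Cfsg.Agent.Characters.Core.isCharacter_apply_inv (isIrr_isCharacter η.2) _
    have h2 : (u * (((e y)⁻¹ : H) : G))⁻¹ = t * (u * (y : G)) * t⁻¹ := by
      have h3 : (y : G) * u = u * y := Subgroup.mem_centralizer_singleton_iff.1 (hH ▸ y.2)
      rw [Subgroup.coe_inv, he, mul_inv_rev, inv_inv, ← ht, ← h3]
      group
    rw [h1, h2, isIrr_isClassFunction ψ.2, Function.comp_apply]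

theorem contr_symm (hM : IsPModular p M) {u t : G} (ht : t * u * t⁻¹ = u⁻¹) {H : Subgroup G} [Fintype H]
    (hH : H = Subgroup.centralizer ({u} : Set G)) [Fintype (principalBlock M H)] (χ ψ : IrrCharacter G) :
    contr p u (principalBlock M H) (χ : G → ℂ) (ψ : G → ℂ) =
      contr p u (principalBlock M H) (ψ : G → ℂ) (χ : G → ℂ) := by
  obtain ⟨e, he⟩ := exists_aut ht hH
  -- the involution `η ↦ η ∘ e`
  let F : principalBlock M H → principalBlock M H := fun η =>
    ⟨_, Cfsg.Agent.H684.BlockTools.infl_mem hM e.toMonoidHom e.surjective η.2⟩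
  have hF : ∀ η : principalBlock M H, ((F η : IrrCharacter H) : H → ℂ) = ((η : IrrCharacter H) : H → ℂ) ∘ e :=
    fun η => rfl
  have ht2 : t * t ∈ H := by
    rw [hH, Subgroup.mem_centralizer_singleton_iff]
    have h1 : t * u = u⁻¹ * t := by rw [← ht]; group
    have h2 : t * u⁻¹ = u * t := by
      have : t * u⁻¹ * t⁻¹ = u := by
        calc t * u⁻¹ * t⁻¹ = (t * u * t⁻¹)⁻¹ := by group
          _ = u := by rw [ht, inv_inv]
      calc t * u⁻¹ = t * u⁻¹ * t⁻¹ * t := by group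
        _ = u * t := by rw [this]
    calc t * t * u = t * (t * u) := by group
      _ = t * u⁻¹ * t := by rw [h1]; group
      _ = u * (t * t) := by rw [h2]; group
  have hinv : Function.Involutive F := by
    intro η
    apply Subtype.ext
    apply Subtype.ext
    funext y
    rw [hF, hF, Function.comp_apply, Function.comp_apply]
    have h1 : e (e y) = ⟨t * t, ht2⟩ * y * ⟨t * t, ht2⟩⁻¹ := by
      apply Subtype.ext
      rw [he, he]
      push_cast
      group
    rw [h1, isIrr_isClassFunction (η : IrrCharacter H).2]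
  have hc : ∀ (ψ : IrrCharacter G) (η : principalBlock M H),
      conj (wt p u (ψ : G → ℂ) ((η : IrrCharacter H) : H → ℂ)) =
        wt p u (ψ : G → ℂ) ((F η : IrrCharacter H) : H → ℂ) := fun ψ η => conj_wt ht hH e he ψ η
  rw [contr_def, contr_def]
  refine Fintype.sum_equiv hinv.toPerm _ _ fun η => ?_
  rw [Function.Involutive.coe_toPerm, hc, hc, hinv]
  ring

end sym

section main

variable {G : Type*} [Group G] [Finite G] {p : ℕ} [Fact p.Prime] {M : Ideal AlgInt}

/-- the third main theorem for `C_G(z)` -/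
theorem induced_principal (hM : IsPModular p M) (z : G) (hz : ∃ k : ℕ, orderOf z = p ^ k) {H : Subgroup G}
    (hH : H = Subgroup.centralizer ({z} : Set G)) : IsInducedBlock M H (principalBlock M H) (principalBlock M G) := by
  have hP : IsPGroup p (Subgroup.zpowers z) := by
    obtain ⟨k, hk⟩ := hz
    exact IsPGroup.of_card (n := k) (by rw [Nat.card_zpowers, hk])
  have hHc : H = Subgroup.centralizer ((Subgroup.zpowers z : Subgroup G) : Set G) := by
    rw [hH]
    apply le_antisymm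
    · intro y hy
      rw [Subgroup.mem_centralizer_singleton_iff] at hy
      rw [Subgroup.mem_centralizer_iff]
      rintro _ ⟨i, rfl⟩
      exact ((show Commute y z from hy).zpow_right i).symm.eq
    · exact Subgroup.centralizer_le (Set.singleton_subset_iff.2 (Subgroup.mem_zpowers z))
  have hb : IsPBlock M (principalBlock M H) := Blocks.PrincipalSection.isPBlock_principalBlock
  have hle : Subgroup.zpowers z ≤ H := by
    rw [Subgroup.zpowers_le, hH, Subgroup.mem_centralizer_singleton_iff]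
  have hdef : InducedBlockDefined M H (principalBlock M H) :=
    S0919.result p M hM (Subgroup.zpowers z) _ hP hle hHc.ge
      (hHc.le.trans (Subgroup.centralizer_le_normalizer _)) _ hb
  exact (S0936.result p M hM _ _ hdef).2 rfl

/-- a natural number all of whose ... : `n` odd is not twice an algebraic integer (copy for products) -/
theorem even_of_two_mul {n : ℕ} {a : ℂ} (ha : IsIntegral ℤ a) (h : (n : ℂ) = 2 * a) : Even n := by
  by_contra hn
  exact Cfsg.Agent.H809.Evn.not_two_mul (Nat.not_even_iff_odd.1 hn) ha h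

/-- **Theorem R.** -/
theorem even_blockRank_of_real (hM : IsPModular p M) (hp2 : p ≠ 2)
    (hall : ∀ χ ∈ principalBlock M G, ¬ 2 ∣ charDegree (χ : G → ℂ)) (z : G) (hz : ∃ k : ℕ, orderOf z = p ^ k)
    (hz1 : z ≠ 1) (hr : IsConj z z⁻¹) {H : Subgroup G} (hH : H = Subgroup.centralizer ({z} : Set G)) :
    Even (blockRank p (principalBlock M H)) := by
  classical
  have hp : p.Prime := Fact.out
  have := Fintype.ofFinite G
  have := Fintype.ofFinite H
  have := finite_irr (G := H)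
  have := Fintype.ofFinite (IrrCharacter H)
  have := finite_irr (G := G)
  have := Fintype.ofFinite (IrrCharacter G)
  have : Fintype (principalBlock M H) := Fintype.ofFinite _
  have : Fintype (principalBlock M G) := Fintype.ofFinite _
  obtain ⟨t, ht⟩ := isConj_iff.1 hr
  have hind := induced_principal hM z hz hH
  obtain ⟨j, hj⟩ := id hz
  have hj0 : j ≠ 0 := by
    rintro rfl
    rw [pow_zero, orderOf_eq_one_iff] at hj
    exact hz1 hj
  obtain ⟨n, e, hE⟩ := exists_exp hH (q := p ^ j) (by rw [← hj]; exact pow_orderOf_eq_one z)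
  have hex : ∀ ξ η : IrrCharacter H, ∃ k : ℤ, ξ ∈ principalBlock M H →
      (p : ℂ) ^ blockDefect p (principalBlock M H) * rg p (ξ : H → ℂ) (η : H → ℂ) = k := by
    intro ξ η
    by_cases hξ : ξ ∈ principalBlock M H
    · obtain ⟨k, hk⟩ := exists_int_rg hM hξ η
      exact ⟨k, fun _ => hk⟩
    · exact ⟨0, fun h => absurd h hξ⟩
  choose k hk using hex
  set d := blockDefect p (principalBlock M H) with hd
  -- the integral contributions
  set E : IrrCharacter G → IrrCharacter G → ℂ := fun χ ψ =>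
    (p : ℂ) ^ d * contr p z (principalBlock M H) (χ : G → ℂ) (ψ : G → ℂ) with hEdef
  have hint : ∀ χ ψ, IsIntegral ℤ (E χ ψ) := by
    intro χ ψ
    have h1 := pow_mul_contr_eq hM hE hind.1 (fun ξ hξ η => hk ξ η hξ) χ ψ (k := 1) (by rw [pow_one]; exact hH)
    rw [pow_one] at h1
    rw [hEdef]
    show IsIntegral ℤ ((p : ℂ) ^ d * contr p z (principalBlock M H) (χ : G → ℂ) (ψ : G → ℂ))
    rw [h1]
    refine IsIntegral.sum _ fun i _ => IsIntegral.mul ?_ (IsIntegral.pow ?_ 1)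
    · have h2 : ((((n χ i.1 * n ψ i.2 * k i.1 i.2 : ℤ)) : ℚ) : ℂ) =
          (((n χ i.1 * n ψ i.2 * k i.1 i.2 : ℤ)) : ℂ) := by
        push_cast
        rfl
      rw [h2]
      exact isIntegral_algebraMap (R := ℤ) (x := (n χ i.1 * n ψ i.2 * k i.1 i.2 : ℤ))
    · have hne : p ^ j ≠ 0 := pow_ne_zero _ hp.ne_zero
      exact (isIntegral_of_pow_eq_one hne (hE.root _)).mul
        (Cfsg.Agent.H658.isIntegral_conj (isIntegral_of_pow_eq_one hne (hE.root _)))
  have hsym : ∀ χ ψ, E χ ψ = E ψ χ := fun χ ψ => by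
    rw [hEdef]
    show (p : ℂ) ^ d * _ = (p : ℂ) ^ d * _
    rw [contr_symm hM ht hH χ ψ]
  have hidem : ∀ χ : IrrCharacter G, ∑ ψ : principalBlock M G, E χ ψ * E χ ψ = (p : ℂ) ^ d * E χ χ := by
    intro χ
    have h1 := sum_contr_mul_contr hM hz hH hind (χ := (χ : G → ℂ)) (χ' := (χ : G → ℂ)) (isIrr_isClassFunction χ.2)
    have h2 : ∀ ψ : principalBlock M G, E χ ψ * E χ ψ = (p : ℂ) ^ d * (p : ℂ) ^ d *
        (contr p z (principalBlock M H) (χ : G → ℂ) ((ψ : IrrCharacter G) : G → ℂ) *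
          contr p z (principalBlock M H) ((ψ : IrrCharacter G) : G → ℂ) (χ : G → ℂ)) := by
      intro ψ
      conv_lhs => rw [hsym χ ψ]
      rw [← contr_symm hM ht hH (ψ : IrrCharacter G) χ]
      rw [hEdef]
      ring
    rw [Finset.sum_congr rfl fun ψ _ => h2 ψ, ← Finset.mul_sum, h1, hEdef]
    ring
  -- orthogonality with the degrees
  have horth : ∀ χ : IrrCharacter G, ∑ ψ : principalBlock M G, E χ ψ * ((ψ : IrrCharacter G) : G → ℂ) 1 = 0 := by
    intro χ
    have hwt : ∀ η : principalBlock M H, ∑ ψ : principalBlock M G,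
        conj (wt p z ((ψ : IrrCharacter G) : G → ℂ) ((η : IrrCharacter H) : H → ℂ)) *
          ((ψ : IrrCharacter G) : G → ℂ) 1 = 0 := by
      intro η
      have h1 : ∀ ψ : principalBlock M G,
          conj (wt p z ((ψ : IrrCharacter G) : G → ℂ) ((η : IrrCharacter H) : H → ℂ)) *
            ((ψ : IrrCharacter G) : G → ℂ) 1 = ∑ y : H with ¬ p ∣ orderOf y, (Nat.card H : ℂ)⁻¹ *
              ((η : IrrCharacter H) : H → ℂ) y * (((ψ : IrrCharacter G) : G → ℂ) 1 *
                conj (((ψ : IrrCharacter G) : G → ℂ) (z * (y : G)))) := by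
        intro ψ
        rw [wt_def, rg_def, pair_eq_sum_filter, map_mul, map_inv₀, Complex.conj_natCast, map_sum, Finset.mul_sum,
          Finset.sum_mul]
        refine Finset.sum_congr rfl fun y _ => ?_
        rw [map_mul, Complex.conj_conj]
        ring
      rw [Finset.sum_congr rfl fun ψ _ => h1 ψ, Finset.sum_comm]
      refine Finset.sum_eq_zero fun y hy => ?_
      rw [← Finset.mul_sum]
      have hy' : ¬ p ∣ orderOf y := (Finset.mem_filter.1 hy).2
      have hzy : p ∣ orderOf (z * (y : G)) := by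
        have hc : Commute z (y : G) :=
          (Subgroup.mem_centralizer_singleton_iff.1 (hH ▸ y.2)).symm
        have hcop : Nat.Coprime (orderOf z) (orderOf (y : G)) := by
          rw [hj]
          refine Nat.Coprime.pow_left _ ((Nat.Prime.coprime_iff_not_dvd hp).2 ?_)
          rw [Subgroup.orderOf_coe]
          exact hy'
        rw [hc.orderOf_mul_eq_mul_orderOf_of_coprime hcop, hj]
        exact (dvd_pow_self p hj0).mul_right _
      have h2 := S0907.result p M hM _ (Blocks.PrincipalSection.isPBlock_principalBlock (K := G)) 1 (z * (y : G))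
        (by rw [orderOf_one]; exact fun h => hp.one_lt.ne' (Nat.dvd_one.1 h)) hzy
      rw [finsum_mem_eq_toFinset_sum] at h2
      rw [← Finset.sum_subtype (principalBlock M G).toFinset (p := fun x => x ∈ principalBlock M G)
        (fun x => Set.mem_toFinset)
        (fun ψ : IrrCharacter G => (ψ : G → ℂ) 1 * conj ((ψ : G → ℂ) (z * (y : G)))), h2, mul_zero]
    have h3 : ∀ ψ : principalBlock M G, E χ ψ * ((ψ : IrrCharacter G) : G → ℂ) 1 =
        ∑ η : principalBlock M H, (p : ℂ) ^ d * wt p z (χ : G → ℂ) ((η : IrrCharacter H) : H → ℂ) *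
          (conj (wt p z ((ψ : IrrCharacter G) : G → ℂ) ((η : IrrCharacter H) : H → ℂ)) *
            ((ψ : IrrCharacter G) : G → ℂ) 1) := by
      intro ψ
      rw [hEdef]
      show (p : ℂ) ^ d * contr p z _ _ _ * _ = _
      rw [contr_def, Finset.mul_sum, Finset.sum_mul]
      refine Finset.sum_congr rfl fun η _ => ?_
      ring
    rw [Finset.sum_congr rfl fun ψ _ => h3 ψ, Finset.sum_comm]
    refine Finset.sum_eq_zero fun η _ => ?_
    rw [← Finset.mul_sum, hwt, mul_zero]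
  choose! c hc using fun (χ : IrrCharacter G) (hχ : χ ∈ principalBlock M G) =>
    (Nat.not_even_iff_odd.1 fun h => hall χ hχ (even_iff_two_dvd.1 h) : Odd (charDegree (χ : G → ℂ)))
  have hsum : ∀ χ : IrrCharacter G, ∃ a : ℂ, IsIntegral ℤ a ∧ (p : ℂ) ^ d * E χ χ = 2 * a := by
    intro χ
    obtain ⟨b, hb, h1⟩ := Cfsg.Agent.H809.Evn.sq_sum (Finset.univ : Finset (principalBlock M G))
      (fun ψ => E χ ψ) (fun ψ _ => hint χ ψ)
    set S := ∑ ψ : principalBlock M G, (c ψ : ℂ) * E χ ψ with hS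
    have hSint : IsIntegral ℤ S := IsIntegral.sum _ fun ψ _ => (isIntegral_natCast _).mul (hint χ ψ)
    have h2 : ∑ ψ : principalBlock M G, E χ ψ = -(2 * S) := by
      have h3 := horth χ
      have h4 : ∑ ψ : principalBlock M G, E χ ψ * ((ψ : IrrCharacter G) : G → ℂ) 1 =
          2 * S + ∑ ψ : principalBlock M G, E χ ψ := by
        rw [hS, Finset.mul_sum, ← Finset.sum_add_distrib]
        refine Finset.sum_congr rfl fun ψ _ => ?_
        rw [irr_one_eq_charDegree (ψ : IrrCharacter G).2, hc ψ ψ.2]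
        push_cast
        ring
      rw [h4] at h3
      linear_combination h3
    refine ⟨2 * (S * S) - b, ((isIntegral_natCast 2).mul (hSint.mul hSint)).sub hb, ?_⟩
    rw [← hidem χ]
    rw [h2] at h1
    linear_combination -h1
  choose a ha hae using hsum
  have htr := sum_contr_self hM hz hH hind
  have hfin : ((p ^ d * p ^ d * blockRank p (principalBlock M H) : ℕ) : ℂ) =
      2 * ∑ χ : principalBlock M G, a χ := by
    have h1 : ∀ χ : principalBlock M G, 2 * a χ = (p : ℂ) ^ d * (p : ℂ) ^ d *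
        contr p z (principalBlock M H) ((χ : IrrCharacter G) : G → ℂ) ((χ : IrrCharacter G) : G → ℂ) := by
      intro χ
      rw [← hae, hEdef]
      ring
    rw [Finset.mul_sum, Finset.sum_congr rfl fun χ _ => h1 χ, ← Finset.mul_sum, htr]
    push_cast
    ring
  have hev := even_of_two_mul (IsIntegral.sum _ fun (χ : principalBlock M G) _ => ha χ) hfin
  have hodd : Odd (p ^ d) := (hp.odd_of_ne_two hp2).pow
  rcases Nat.even_mul.1 hev with h | h
  · exact absurd h (Nat.not_even_iff_odd.2 (hodd.mul hodd))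
  · exact h

/-- the principal block modulo a central `p`-subgroup -/
theorem defl_principalBlock (hM : IsPModular p M) {U : Subgroup G} [U.Normal] (hU : U ≤ Subgroup.center G)
    (hp : IsPGroup p U) :
    Cfsg.Agent.H644.CentralQuot.defl U (principalBlock M G) = principalBlock M (G ⧸ U) := by
  have := Fintype.ofFinite G
  have hprime := isPrime_of_isPModular hM
  have hB : IsPBlock M (principalBlock M G) := Blocks.PrincipalSection.isPBlock_principalBlock
  have h1 := Cfsg.Agent.H644.CentralQuot.isPBlock_defl hM hU hp hB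
  have h2 : IsPBlock M (principalBlock M (G ⧸ U)) := Blocks.PrincipalSection.isPBlock_principalBlock
  set o : IrrCharacter (G ⧸ U) := ⟨fun _ => 1, isIrrCharacter_one⟩ with ho
  have h3 : o ∈ principalBlock M (G ⧸ U) := Blocks.PrincipalSection.one_mem_principalBlock
  have h4 : o ∈ Cfsg.Agent.H644.CentralQuot.defl U (principalBlock M G) := by
    rw [Cfsg.Agent.H644.CentralQuot.mem_defl]
    have h5 : Cfsg.Agent.H644.CentralQuot.infl U o = ⟨fun _ => 1, isIrrCharacter_one⟩ := by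
      apply Subtype.ext
      rw [Cfsg.Agent.H644.CentralQuot.infl_coe]
    rw [h5]
    exact Blocks.PrincipalSection.one_mem_principalBlock
  rw [isPBlock_eq_blockOf h1 h4, isPBlock_eq_blockOf h2 h3]

/-- an automorphism of order two of a cyclic `p`-group inverts it, `p` odd -/
theorem dvd_or {p m : ℕ} (hp : p.Prime) (hp2 : p ≠ 2) {k : ℤ} (h : ((p ^ m : ℕ) : ℤ) ∣ k * k - 1) :
    ((p ^ m : ℕ) : ℤ) ∣ k - 1 ∨ ((p ^ m : ℕ) : ℤ) ∣ k + 1 := by
  have hpp := Nat.prime_iff_prime_int.1 hp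
  have e : k * k - 1 = (k - 1) * (k + 1) := by ring
  rw [e] at h
  push_cast at h ⊢
  by_cases h1 : (p : ℤ) ∣ k - 1
  · left
    have h2 : ¬ (p : ℤ) ∣ k + 1 := by
      intro h2
      have h3 : (p : ℤ) ∣ 2 := by
        have := dvd_sub h2 h1
        have e : k + 1 - (k - 1) = 2 := by ring
        rwa [e] at this
      have h4 : p ∣ 2 := by exact_mod_cast h3
      exact hp2 ((Nat.prime_dvd_prime_iff_eq hp Nat.prime_two).1 h4)
    exact IsCoprime.dvd_of_dvd_mul_right (IsCoprime.pow_left ((Prime.coprime_iff_not_dvd hpp).2 h2)) h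
  · right
    exact IsCoprime.dvd_of_dvd_mul_left (IsCoprime.pow_left ((Prime.coprime_iff_not_dvd hpp).2 h1)) h

/-- **Theorem R for `P = ⟨z, u⟩` abelian.** -/
theorem exists_even_of_real_pair (hM : IsPModular p M) (hp2 : p ≠ 2) (P : Sylow p G)
    (hab : ∀ x ∈ (P : Subgroup G), ∀ y ∈ (P : Subgroup G), x * y = y * x) {z u : G} (hz : z ∈ (P : Subgroup G))
    (hz1 : z ≠ 1) (hr : IsConj z z⁻¹) (hgen : (P : Subgroup G) = Subgroup.closure {z, u})
    (hno : ∀ y ∈ Subgroup.normalizer ((P : Subgroup G) : Set G), y * z = z * y →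
      (∀ v ∈ (P : Subgroup G), y * y * v = v * (y * y)) → ∀ v ∈ (P : Subgroup G), y * v = v * y) :
    ∃ χ : IrrCharacter G, χ ∈ principalBlock M G ∧ 2 ∣ charDegree (χ : G → ℂ) := by
  classical
  have hp : p.Prime := Fact.out
  by_contra hcon
  push Not at hcon
  have hzp : ∃ k : ℕ, orderOf z = p ^ k := by
    obtain ⟨k, hk⟩ := IsPGroup.iff_orderOf.1 P.isPGroup' ⟨z, hz⟩
    exact ⟨k, by rw [← hk, Subgroup.orderOf_mk]⟩
  set H := Subgroup.centralizer ({z} : Set G) with hH
  have hPH : (P : Subgroup G) ≤ H := fun y hy => Subgroup.mem_centralizer_singleton_iff.2 (hab y hy z hz)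
  have heven := even_blockRank_of_real hM hp2 hcon z hzp hz1 hr (H := H) rfl
  have hzH : z ∈ H := hPH hz
  have huP : u ∈ (P : Subgroup G) := by rw [hgen]; exact Subgroup.subset_closure (by simp)
  have huH : u ∈ H := hPH huP
  let z' : H := ⟨z, hzH⟩
  let u' : H := ⟨u, huH⟩
  set U : Subgroup H := Subgroup.zpowers z' with hU
  have hUc : U ≤ Subgroup.center H := by
    rw [hU, Subgroup.zpowers_le, Subgroup.mem_center_iff]
    intro g
    exact Subtype.ext (Subgroup.mem_centralizer_singleton_iff.1 g.2)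
  have hUn : U.Normal := ⟨fun a ha g => by
    rw [Subgroup.mem_center_iff.1 (hUc ha) g, mul_inv_cancel_right]
    exact ha⟩
  have hUp : IsPGroup p U := by
    obtain ⟨k, hk⟩ := hzp
    refine IsPGroup.of_card (n := k) ?_
    rw [hU, Nat.card_zpowers, ← hk]
    exact (Subgroup.orderOf_coe z').symm
  have := Fintype.ofFinite G
  have := Fintype.ofFinite H
  have hrank : blockRank p (principalBlock M (H ⧸ U)) = blockRank p (principalBlock M H) := by
    rw [← defl_principalBlock hM hUc hUp]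
    exact Cfsg.Agent.H644.CentralQuot.blockRank_defl hM hUc hUp Blocks.PrincipalSection.isPBlock_principalBlock
  rw [← hrank] at heven
  -- the Sylow subgroup of the quotient
  let PH : Sylow p H := P.subtype hPH
  have hPHmem : ∀ y : H, y ∈ (PH : Subgroup H) ↔ (y : G) ∈ (P : Subgroup G) := fun y => Subgroup.mem_subgroupOf
  have hUP : U ≤ (PH : Subgroup H) := by
    rw [hU, Subgroup.zpowers_le, hPHmem]
    exact hz
  set Q : Sylow p (H ⧸ U) := PH.mapSurjective (QuotientGroup.mk'_surjective U) with hQ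
  have hQc : (Q : Subgroup (H ⧸ U)) = (PH : Subgroup H).map (QuotientGroup.mk' U) := rfl
  have hQmem : ∀ y : H, QuotientGroup.mk' U y ∈ (Q : Subgroup (H ⧸ U)) ↔ y ∈ (PH : Subgroup H) := by
    intro y
    rw [hQc]
    constructor
    · rintro ⟨v, hv, hvy⟩
      have h1 : v⁻¹ * y ∈ U := QuotientGroup.eq.1 hvy
      have h2 : y = v * (v⁻¹ * y) := by group
      rw [h2]
      exact mul_mem hv (hUP h1)
    · intro h
      exact Subgroup.mem_map_of_mem _ h
  have hgenQ : ∀ q ∈ (Q : Subgroup (H ⧸ U)), ∃ k : ℤ, q = QuotientGroup.mk' U u' ^ k := by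
    rintro q ⟨v, hv, rfl⟩
    have hv' : (v : G) ∈ Subgroup.closure {z, u} := by
      rw [← hgen]; exact (hPHmem v).1 hv
    -- `v = z ^ i * u ^ j`
    have key : ∀ w : G, w ∈ Subgroup.closure ({z, u} : Set G) → ∃ i j : ℤ, w = z ^ i * u ^ j := by
      intro w hw
      induction hw using Subgroup.closure_induction with
      | mem w hw =>
        rcases hw with rfl | hw
        · exact ⟨1, 0, by group⟩
        · rw [Set.mem_singleton_iff] at hw
          subst hw
          exact ⟨0, 1, by group⟩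
      | one => exact ⟨0, 0, by group⟩
      | mul a b _ _ iha ihb =>
        obtain ⟨i, j, rfl⟩ := iha
        obtain ⟨i', j', rfl⟩ := ihb
        refine ⟨i + i', j + j', ?_⟩
        have hc : Commute (z ^ i') (u ^ j) := Commute.zpow_zpow (show Commute z u from hab z hz u huP) _ _
        calc z ^ i * u ^ j * (z ^ i' * u ^ j') = z ^ i * (u ^ j * z ^ i') * u ^ j' := by group
          _ = z ^ i * (z ^ i' * u ^ j) * u ^ j' := by rw [hc.eq]
          _ = _ := by rw [zpow_add, zpow_add]; group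
      | inv a _ iha =>
        obtain ⟨i, j, rfl⟩ := iha
        refine ⟨-i, -j, ?_⟩
        have hc : Commute (z ^ i) (u ^ j) := Commute.zpow_zpow (show Commute z u from hab z hz u huP) _ _
        rw [hc.eq]
        group
    obtain ⟨i, j, hij⟩ := key _ hv'
    refine ⟨j, ?_⟩
    have h1 : v = z' ^ i * u' ^ j := Subtype.ext (by rw [hij]; rfl)
    have h2 : QuotientGroup.mk' U (z' ^ i) = 1 :=
      (QuotientGroup.eq_one_iff _).2 (Subgroup.zpow_mem_zpowers z' i)
    rw [h1, map_mul, h2, one_mul, map_zpow]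
  have huQ : QuotientGroup.mk' U u' ∈ (Q : Subgroup (H ⧸ U)) := (hQmem u').2 ((hPHmem u').2 huP)
  have hQcyc : IsCyclic (Q : Subgroup (H ⧸ U)) := by
    refine ⟨⟨⟨QuotientGroup.mk' U u', huQ⟩, fun q => ?_⟩⟩
    obtain ⟨k, hk⟩ := hgenQ q q.2
    exact ⟨k, Subtype.ext hk.symm⟩
  by_cases hd : p ∣ Nat.card (H ⧸ U)
  · rw [Cfsg.Agent.H734.KB.rank_cyclic hM Q hQcyc hd] at heven
    set C := Subgroup.centralizer ((Q : Subgroup (H ⧸ U)) : Set (H ⧸ U)) with hC
    set N := Subgroup.normalizer ((Q : Subgroup (H ⧸ U)) : Set (H ⧸ U)) with hN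
    have hCn : (C.subgroupOf N).Normal := by
      refine ⟨fun a ha g => ?_⟩
      rw [Subgroup.mem_subgroupOf, hC, Subgroup.mem_centralizer_iff] at ha ⊢
      intro q hq
      have h1 : (g : H ⧸ U)⁻¹ * q * g ∈ (Q : Subgroup (H ⧸ U)) := by
        have := (Subgroup.mem_normalizer_iff.1 (inv_mem g.2) q).1 hq
        rwa [inv_inv] at this
      have h2 := ha _ h1
      push_cast
      calc q * ((g : H ⧸ U) * a * (g : H ⧸ U)⁻¹) = g * (((g : H ⧸ U)⁻¹ * q * g) * a) * (g : H ⧸ U)⁻¹ := by group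
        _ = g * (a * ((g : H ⧸ U)⁻¹ * q * g)) * (g : H ⧸ U)⁻¹ := by rw [h2]
        _ = _ := by group
    have hcard : 2 ∣ Nat.card (N ⧸ C.subgroupOf N) := heven.two_dvd
    have : Fact (Nat.Prime 2) := ⟨Nat.prime_two⟩
    obtain ⟨g, hg⟩ := exists_prime_orderOf_dvd_card' 2 hcard
    obtain ⟨⟨y₀, hy₀⟩, rfl⟩ := QuotientGroup.mk_surjective g
    have hyC : y₀ ∉ C := by
      intro h
      have h1 : (QuotientGroup.mk (⟨y₀, hy₀⟩ : N) : N ⧸ C.subgroupOf N) = 1 :=
        (QuotientGroup.eq_one_iff _).2 (Subgroup.mem_subgroupOf.2 h)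
      rw [h1, orderOf_one] at hg
      exact absurd hg (by norm_num)
    have hyC2 : y₀ * y₀ ∈ C := by
      have h1 := pow_orderOf_eq_one (QuotientGroup.mk (⟨y₀, hy₀⟩ : N) : N ⧸ C.subgroupOf N)
      rw [hg, ← QuotientGroup.mk_pow, QuotientGroup.eq_one_iff, Subgroup.mem_subgroupOf] at h1
      rw [pow_two] at h1
      exact h1
    obtain ⟨y, rfl⟩ := QuotientGroup.mk'_surjective U y₀
    set π := QuotientGroup.mk' U with hπ
    -- `y` normalises `P`
    have hyP : ∀ v : H, v ∈ (PH : Subgroup H) ↔ y * v * y⁻¹ ∈ (PH : Subgroup H) := by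
      intro v
      rw [← hQmem, ← hQmem, map_mul, map_mul, map_inv]
      exact Subgroup.mem_normalizer_iff.1 hy₀ _
    -- the action on `Q`
    obtain ⟨k, hk⟩ := hgenQ _ ((Subgroup.mem_normalizer_iff.1 hy₀ _).1 huQ)
    have hk' : ∀ n : ℤ, π y * (π u') ^ n * (π y)⁻¹ = (π u') ^ (k * n) := by
      intro n
      rw [zpow_mul, ← hk, conj_zpow]
    have hk2 : π u' ^ (k * k) = π u' := by
      have h1 := Subgroup.mem_centralizer_iff.1 hyC2 _ huQ
      have h2 := hk' k
      rw [← hk] at h2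
      rw [← h2]
      calc π y * (π y * π u' * (π y)⁻¹) * (π y)⁻¹ = π y * π y * π u' * (π y * π y)⁻¹ := by group
        _ = π u' * (π y * π y) * (π y * π y)⁻¹ := by rw [h1]
        _ = π u' := by group
    obtain ⟨m, hm⟩ : ∃ m : ℕ, orderOf (π u') = p ^ m := by
      obtain ⟨m, hm⟩ := IsPGroup.iff_orderOf.1 Q.isPGroup' ⟨π u', huQ⟩
      exact ⟨m, by rw [← hm, Subgroup.orderOf_mk]⟩
    have hdv : ((p ^ m : ℕ) : ℤ) ∣ k * k - 1 := by
      rw [← hm, orderOf_dvd_iff_zpow_eq_one, zpow_sub, hk2, zpow_one, mul_inv_cancel]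
    have hinv : ∀ q ∈ (Q : Subgroup (H ⧸ U)), π y * q * (π y)⁻¹ = q⁻¹ := by
      rcases dvd_or hp hp2 hdv with h | h
      · exfalso
        apply hyC
        rw [hC, Subgroup.mem_centralizer_iff]
        intro q hq
        obtain ⟨n, rfl⟩ := hgenQ q hq
        have h1 : π u' ^ k = π u' := by
          rw [← hm, orderOf_dvd_iff_zpow_eq_one, zpow_sub, zpow_one, mul_inv_eq_one] at h
          exact h
        have h2 := hk' n
        rw [zpow_mul, h1] at h2
        calc π u' ^ n * π y = π y * π u' ^ n * (π y)⁻¹ * π y := by rw [h2]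
          _ = π y * π u' ^ n := by group
      · intro q hq
        obtain ⟨n, rfl⟩ := hgenQ q hq
        have h1 : π u' ^ k = (π u')⁻¹ := by
          rw [← hm, orderOf_dvd_iff_zpow_eq_one, zpow_add, zpow_one] at h
          exact eq_inv_of_mul_eq_one_left h
        rw [hk', zpow_mul, h1, inv_zpow]
    -- `y ^ 2` centralises `P`
    have hyy : ∀ v ∈ (P : Subgroup G), (y : G) * y * v = v * (y * y) := by
      intro v hv
      let v' : H := ⟨v, hPH hv⟩
      have hv' : v' ∈ (PH : Subgroup H) := (hPHmem v').2 hv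
      have h1 := hinv (π v') ((hQmem v').2 hv')
      have h2 : π (y * v' * y⁻¹) = π v'⁻¹ := by rw [map_mul, map_mul, map_inv, map_inv, h1]
      have h3 : (y * v' * y⁻¹)⁻¹ * v'⁻¹ ∈ U := QuotientGroup.eq.1 h2
      set c := (y * v' * y⁻¹)⁻¹ * v'⁻¹ with hc
      have hcc : ∀ g : H, g * c = c * g := Subgroup.mem_center_iff.1 (hUc h3)
      have h4 : y * v' * y⁻¹ = v'⁻¹ * c⁻¹ := by rw [hc]; group
      have hcc' : ∀ g : H, g * c⁻¹ = c⁻¹ * g := fun g => ((show Commute g c from hcc g).inv_right).eq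
      have h5 : y * (y * v' * y⁻¹) * y⁻¹ = v' := by
        rw [h4]
        calc y * (v'⁻¹ * c⁻¹) * y⁻¹ = y * v'⁻¹ * (c⁻¹ * y⁻¹) := by group
          _ = y * v'⁻¹ * (y⁻¹ * c⁻¹) := by rw [hcc']
          _ = (y * v' * y⁻¹)⁻¹ * c⁻¹ := by group
          _ = (v'⁻¹ * c⁻¹)⁻¹ * c⁻¹ := by rw [h4]
          _ = c * (v' * c⁻¹) := by group
          _ = v' := by rw [hcc']; group
      have h6 : y * y * v' = v' * (y * y) := by
        calc y * y * v' = y * (y * v' * y⁻¹) * y⁻¹ * (y * y) := by group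
          _ = v' * (y * y) := by rw [h5]
      exact congrArg Subtype.val h6
    have hyN : (y : G) ∈ Subgroup.normalizer ((P : Subgroup G) : Set G) := by
      rw [Subgroup.mem_normalizer_iff]
      intro g
      constructor
      · intro hg
        have := (hyP ⟨g, hPH hg⟩).1 ((hPHmem _).2 hg)
        exact (hPHmem _).1 this
      · intro hg
        have h5 : g ∈ H := by
          have h6 := hPH hg
          have h7 := mul_mem (mul_mem (inv_mem y.2) h6) y.2
          have h8 : (y : G)⁻¹ * (y * g * (y : G)⁻¹) * y = g := by group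
          rwa [h8] at h7
        exact (hPHmem ⟨g, h5⟩).1 ((hyP ⟨g, h5⟩).2 ((hPHmem _).2 hg))
    have hcent := hno y hyN (Subgroup.mem_centralizer_singleton_iff.1 y.2) hyy
    apply hyC
    rw [hC, Subgroup.mem_centralizer_iff]
    rintro _ ⟨v, hv, rfl⟩
    have h1 : y * v = v * y := Subtype.ext (hcent v ((hPHmem v).1 hv))
    rw [← map_mul, ← map_mul, h1]
  · -- `P = ⟨z⟩`
    have := Fintype.ofFinite (H ⧸ U)
    have hone : blockRank p (principalBlock M (H ⧸ U)) = 1 := by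
      refine S4646.rank_one_of_compl hM ?_
      obtain ⟨Q₀⟩ : Nonempty (Sylow p (H ⧸ U)) := inferInstance
      refine ⟨Q₀, ⊤, inferInstance, ?_⟩
      have h1 : (Q₀ : Subgroup (H ⧸ U)) = ⊥ := by
        rw [← Subgroup.card_eq_one, Q₀.card_eq_multiplicity, Nat.factorization_eq_zero_of_not_dvd hd, pow_zero]
      rw [h1]
      exact Subgroup.isComplement'_top_bot
    rw [hone] at heven
    exact absurd heven (by decide)

theorem evAt_of_real_pair (hp2 : p ≠ 2) (P : Sylow p G)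
    (hab : ∀ x ∈ (P : Subgroup G), ∀ y ∈ (P : Subgroup G), x * y = y * x) {z u : G} (hz : z ∈ (P : Subgroup G))
    (hz1 : z ≠ 1) (hr : IsConj z z⁻¹) (hgen : (P : Subgroup G) = Subgroup.closure {z, u})
    (hno : ∀ y ∈ Subgroup.normalizer ((P : Subgroup G) : Set G), y * z = z * y →
      (∀ v ∈ (P : Subgroup G), y * y * v = v * (y * y)) → ∀ v ∈ (P : Subgroup G), y * v = v * y) :
    Cfsg.Agent.H892.EP.EvAt p G := fun _ hM => exists_even_of_real_pair hM hp2 P hab hz hz1 hr hgen hno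

end main

end Cfsg.Agent.H790.EP
end

-- part: H790/EP/Rank2
section
/-!
# S4929: groups `D.group F` whose Sylow `p`-subgroups are homocyclic of rank two in a torus (helper790)

`evAt_rank2` : `w ∈ W`, `E` an endomorphism of the root lattice with `E w = q E mod p ^ a` (`E = Φ(X) / (X - q)` at `w`),
`-1 ∈ W`, `p ∤ |W|`, `v_p |D.group F| ≤ 2 a`, at most seven involutions of `W` commute with `w`.
-/

set_option autoImplicit false
set_option linter.unusedSectionVars false

namespace Cfsg.Agent.H790.EP.Rank2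

open CoxeterSystem Cfsg Cfsg.Lie Cfsg.Lie.ChevalleyDatum
open Cfsg.Agent.ChevalleyStructure Cfsg.Agent.ChevalleyStructure.Elts Cfsg.Agent.ChevalleyStructure.CoxeterGeom
  Cfsg.Agent.ChevalleyStructure.CoxeterGeomTypes Cfsg.Agent.ChevalleyStructure.NPerm
open Cfsg.Agent.Tits.Roots Cfsg.Agent.Tits.Core Cfsg.Agent.Nodes Cfsg.Agent.Nodes.Reps Cfsg.Agent.Nodes.BNOf
  Cfsg.Agent.Nodes.RGDChev Cfsg.Agent.Nodes.Bruhat
open Cfsg.Agent.KFacts.RgdField Cfsg.Agent.KFacts.RgdChevCoord Cfsg.Agent.BpExc.TorCent Cfsg.Agent.BpExc.TorChev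
open Cfsg.Agent.GpExc.Field Cfsg.Agent.BpExc.Tow Cfsg.Agent.BpExc.TowChev Cfsg.Agent.BpExc.Fr
  Cfsg.Agent.BpExc.LangFr Cfsg.Agent.LangThm Cfsg.Agent.BpExc Cfsg.Agent.H129.TorusChar Cfsg.Agent.H129.TorusMain
  Cfsg.Agent.H129.TorusUntw Cfsg.Agent.ChevStructure.FieldMap Cfsg.Agent.BpExc.EmbSplit
open Cfsg.Agent.H378.TorDual Cfsg.Agent.H130.TorEmb Cfsg.Agent.H790.EP.NrmTor Cfsg.Agent.H720.TorusReal
open Cfsg.Agent.H892.EP (EvAt)

universe u

variable {D : ChevalleyDatum} {l : ℕ} {M : CoxeterMatrix (Fin l)} (hp : IsType D l M)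
  {W : Type*} [Group W] (cs : CoxeterSystem M W)

/-- the character `x ↦ ζ ^ y (E x)` -/
def psi {k : Type u} [Field k] (ζ : kˣ) (y : (Fin l → ℤ) →ₗ[ℤ] ℤ) : Ch l k where
  toFun x := ζ ^ y (Multiplicative.toAdd x)
  map_one' := by
    rw [toAdd_one, map_zero, zpow_zero]
  map_mul' a b := by
    rw [toAdd_mul, map_add, zpow_add]

theorem psi_apply {k : Type u} [Field k] (ζ : kˣ) (y : (Fin l → ℤ) →ₗ[ℤ] ℤ) (x : Fin l → ℤ) :
    psi ζ y (Multiplicative.ofAdd x) = ζ ^ y x := rfl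

theorem eq_one_of_coprime {G : Type*} [Group G] {x : G} {a b : ℕ} (ha : x ^ a = 1) (hb : x ^ b = 1)
    (h : a.Coprime b) : x = 1 := by
  have h1 : orderOf x ∣ a.gcd b := Nat.dvd_gcd (orderOf_dvd_of_pow_eq_one ha) (orderOf_dvd_of_pow_eq_one hb)
  rw [h, Nat.dvd_one, orderOf_eq_one_iff] at h1
  exact h1

set_option maxHeartbeats 4000000 in
/-- **Theorem R for homocyclic Sylow subgroups of rank two in a torus.** -/
theorem evAt_rank2 [Finite W] {F : Type u} [Field F] [Fintype F] {q : ℕ} (hq : Fintype.card F = q) {p : ℕ}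
    [hpp : Fact p.Prime] (hp2 : p ≠ 2) (hp8 : 8 ≤ p) (hpq : ¬ p ∣ q) (hpW : ¬ p ∣ Nat.card W)
    {B : Fin l → Fin l → ℤ} (hB : InvC D l 1 B) {a : ℕ} (ha : 0 < a)
    (hcard : (Nat.card ↥(D.group F)).factorization p ≤ 2 * a) {w w₀ : W}
    (hneg : ∀ x, rep cs hp.isCartan w₀ x = -x) (E : Module.End ℤ (Fin l → ℤ))
    (hE : ∀ x, ∃ x', E (rep cs hp.isCartan w x) = (q : ℤ) • E x + ((p ^ a : ℕ) : ℤ) • x')
    (x₀ x₁ : Fin l → ℤ) (y₀ y₁ : (Fin l → ℤ) →ₗ[ℤ] ℤ)
    (h00 : ((p ^ a : ℕ) : ℤ) ∣ y₀ (E x₀) - 1) (h10 : ((p ^ a : ℕ) : ℤ) ∣ y₁ (E x₀)) (h11 : ((p ^ a : ℕ) : ℤ) ∣ y₁ (E x₁) - 1)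
    (hroot : ∀ α, IsRoot cs hp.isCartan α → ∃ y : (Fin l → ℤ) →ₗ[ℤ] ℤ, ¬ (p : ℤ) ∣ y (E α))
    (hinv : ∀ g : Fin 8 → W, (∀ j, g j * g j = 1 ∧ g j * w = w * g j ∧ g j ≠ 1) → ∃ i j, i < j ∧ g i = g j) :
    EvAt p ↥(D.group F) := by
  obtain ⟨r, e, hr, hrF, hrk, he, rfl, hk⟩ := exists_closure hq
  let k := AlgebraicClosure F
  let f : F →+* k := algebraMap F k
  let hN : NSys M (TT D k) (nc hp k) := nsys_of_locFin hp cs hk r
  have hFr := fr_phi (k := k) (p := r) (e := e) hp cs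
  have hσ := isFrob_phi (D := D) (k := k) (p := r) (e := e)
  obtain ⟨g, hg⟩ := exists_rp cs hN w
  obtain ⟨z, hz⟩ := lang_all hp cs he hσ hFr 1 g
  rw [map_one, one_mul] at hz
  set σ := phi D k r e with hσdef
  have hσz : σ z = z * g := by rw [hz]; group
  set N : ℕ := p ^ a with hNdef
  have hpr : p ≠ r := by
    rintro rfl
    exact hpq (dvd_pow_self _ he.ne')
  have hN0 : 0 < N := pow_pos hpp.out.pos a
  have hNk : ((N : ℕ) : k) ≠ 0 := by
    rw [Ne, CharP.cast_eq_zero_iff k r]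
    intro h
    exact hpr ((Nat.prime_dvd_prime_iff_eq hr.out hpp.out).1 (hr.out.dvd_of_dvd_pow h)).symm
  have hNne : NeZero ((N : ℕ) : k) := ⟨hNk⟩
  obtain ⟨ζ', hζ'⟩ := HasEnoughRootsOfUnity.exists_primitiveRoot k N
  obtain ⟨ζ, rfl⟩ := hζ'.isUnit hN0.ne'
  have hζ : IsPrimitiveRoot ζ N := IsPrimitiveRoot.coe_units_iff.1 hζ'
  -- the elements of the torus
  let t : ((Fin l → ℤ) →ₗ[ℤ] ℤ) → ↥(D.group k) := fun y => tor hp hB one_ne_zero (psi ζ (y ∘ₗ E))
  have htT : ∀ y, t y ∈ TT D k := fun y => tor_mem hp hB one_ne_zero _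
  have hcX : ∀ y x, cX hp (t y) x = ((ζ ^ y (E x) : kˣ) : k) := fun y x => by
    show cX hp (tor hp hB one_ne_zero _) x = _
    rw [cX_tor, psi_apply]
    rfl
  have htw : ∀ y, g * σ (t y) * g⁻¹ = t y := by
    intro y
    rw [tau_iff hp cs hk hσ hFr hg (htT y)]
    intro x
    rw [theta_apply, hcX, hcX]
    obtain ⟨x', hx'⟩ := hE x
    show ((ζ ^ y (E (rep cs hp.isCartan w x)) : kˣ) : k) = _
    rw [hx', ← Units.val_pow_eq_pow_val]
    congr 1
    rw [map_add, map_smul, map_smul, smul_eq_mul, smul_eq_mul, zpow_add, zpow_mul ζ ((N : ℕ) : ℤ), zpow_natCast ζ N,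
      hζ.pow_eq_one, one_zpow, mul_one, mul_comm, zpow_mul, zpow_natCast]
  have htN : ∀ y, t y ^ N = 1 := by
    intro y
    refine cX_inj hp (pow_mem (htT y) N) (one_mem _) fun i => ?_
    rw [cX_pow hp (htT y), hcX, cX_one, ← Units.val_pow_eq_pow_val, ← zpow_natCast, ← zpow_mul, mul_comm, zpow_mul,
      zpow_natCast, hζ.pow_eq_one, one_zpow, Units.val_one]
  -- the subgroup `P'`
  let P' : Subgroup ↥(D.group k) :=
    { carrier := {s | s ∈ TT D k ∧ g * σ s * g⁻¹ = s ∧ s ^ N = 1}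
      mul_mem' := by
        rintro s s' ⟨h1, h2, h3⟩ ⟨h1', h2', h3'⟩
        refine ⟨mul_mem h1 h1', ?_, ?_⟩
        · rw [map_mul]
          calc g * (σ s * σ s') * g⁻¹ = (g * σ s * g⁻¹) * (g * σ s' * g⁻¹) := by group
            _ = s * s' := by rw [h2, h2']
        · have hc : Commute s s' := TT_comm hp h1 h1'
          rw [hc.mul_pow, h3, h3', one_mul]
      one_mem' := ⟨one_mem _, by rw [map_one]; group, one_pow _⟩
      inv_mem' := by
        rintro s ⟨h1, h2, h3⟩
        refine ⟨inv_mem h1, ?_, by rw [inv_pow, h3, inv_one]⟩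
        rw [map_inv]
        calc g * (σ s)⁻¹ * g⁻¹ = (g * σ s * g⁻¹)⁻¹ := by group
          _ = s⁻¹ := by rw [h2] }
  have hP' : ∀ s, s ∈ P' ↔ s ∈ TT D k ∧ g * σ s * g⁻¹ = s ∧ s ^ N = 1 := fun s => Iff.rfl
  have htP : ∀ y, t y ∈ P' := fun y => ⟨htT y, htw y, htN y⟩
  -- the embedding
  let θ : ↥(D.group F) →* ↥(D.group k) := (MulAut.conj z⁻¹).toMonoidHom.comp (emb hp.inList f)
  have hθ : ∀ x, θ x = z⁻¹ * emb hp.inList f x * z := fun x => by
    show z⁻¹ * emb hp.inList f x * z⁻¹⁻¹ = _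
    rw [inv_inv]
  have hθi : Function.Injective θ := (MulAut.conj z⁻¹).injective.comp (emb_injective hp.inList f)
  have hθσ : ∀ x, g * σ (θ x) * g⁻¹ = θ x := by
    intro x
    rw [hθ, map_mul, map_mul, map_inv, hσz, phi_emb hp f hq]
    group
  have hsurj : ∀ y, g * σ y * g⁻¹ = y → ∃ x, θ x = y := by
    intro y hy
    have h1 : σ (z * y * z⁻¹) = z * y * z⁻¹ := by
      rw [map_mul, map_mul, map_inv, hσz]
      calc z * g * σ y * (z * g)⁻¹ = z * (g * σ y * g⁻¹) * z⁻¹ := by group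
        _ = z * y * z⁻¹ := by rw [hy]
    obtain ⟨x, hx⟩ := fix_range hp cs f hq hB one_ne_zero (fun b => ⟨b, pow_one b⟩) h1
    refine ⟨x, ?_⟩
    rw [hθ, hx]
    group
  -- the subgroup `P`
  let P : Subgroup ↥(D.group F) := P'.comap θ
  have hPP : ∀ x, x ∈ P ↔ θ x ∈ P' := fun x => Iff.rfl
  have hPp : IsPGroup p P := by
    intro x
    refine ⟨a, Subtype.ext (hθi ?_)⟩
    rw [Subgroup.coe_pow, map_pow, Subgroup.coe_one, map_one]
    exact x.2.2.2
  obtain ⟨Q, hPQ⟩ := hPp.exists_le_sylow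
  have hQcard : Nat.card ↥(Q : Subgroup ↥(D.group F)) ≤ N * N := by
    rw [Sylow.card_eq_multiplicity, hNdef, ← pow_add, ← two_mul]
    exact Nat.pow_le_pow_right hpp.out.pos hcard
  have hζd : ∀ m n : ℤ, ζ ^ m = ζ ^ n → (N : ℤ) ∣ m - n := by
    intro m n h
    rw [← hζ.zpow_eq_one_iff_dvd, zpow_sub, h, mul_inv_cancel]
  have hζd' : ∀ m n : ℤ, (N : ℤ) ∣ m - n → ζ ^ m = ζ ^ n := by
    intro m n h
    rw [← hζ.zpow_eq_one_iff_dvd, zpow_sub] at h
    exact mul_inv_eq_one.1 h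
  -- generation
  have hgen : ∀ (m : ℤ) (X U : ↥(D.group F)), θ X = t (y₀ + m • y₁) → θ U = t y₁ →
      ∀ x ∈ (Q : Subgroup ↥(D.group F)), ∃ i j : ℕ, x = X ^ i * U ^ j := by
    intro m X U hX hU
    have hXQ : X ∈ (Q : Subgroup ↥(D.group F)) := hPQ (by rw [hPP, hX]; exact htP _)
    have hUQ : U ∈ (Q : Subgroup ↥(D.group F)) := hPQ (by rw [hPP, hU]; exact htP _)
    let Ψ : Fin N × Fin N → ↥(Q : Subgroup ↥(D.group F)) := fun ij =>
      ⟨X ^ (ij.1 : ℕ) * U ^ (ij.2 : ℕ), mul_mem (pow_mem hXQ _) (pow_mem hUQ _)⟩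
    have hchar : ∀ i j : ℕ, ∀ x, cX hp (θ (X ^ i * U ^ j)) x =
        ((ζ ^ ((y₀ (E x) + m * y₁ (E x)) * i + y₁ (E x) * j) : kˣ) : k) := by
      intro i j x
      rw [map_mul, map_pow, map_pow, hX, hU, cX_mul hp (pow_mem (htT _) _) (pow_mem (htT _) _),
        cX_pow hp (htT _), cX_pow hp (htT _), hcX, hcX, ← Units.val_pow_eq_pow_val, ← Units.val_pow_eq_pow_val,
        ← Units.val_mul]
      congr 1
      rw [zpow_add, zpow_mul ζ _ (i : ℤ), zpow_mul ζ _ (j : ℤ), zpow_natCast, zpow_natCast]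
      rfl
    have hinj : Function.Injective Ψ := by
      rintro ⟨i, j⟩ ⟨i', j'⟩ h
      have h1 : X ^ (i : ℕ) * U ^ (j : ℕ) = X ^ (i' : ℕ) * U ^ (j' : ℕ) := congrArg Subtype.val h
      have h2 : ∀ x, (N : ℤ) ∣ ((y₀ (E x) + m * y₁ (E x)) * i + y₁ (E x) * j) -
          ((y₀ (E x) + m * y₁ (E x)) * i' + y₁ (E x) * j') := by
        intro x
        apply hζd
        have h3 := hchar i j x
        rw [h1, hchar] at h3
        exact (Units.ext h3).symm
      have h3 : (N : ℤ) ∣ (i : ℤ) - i' := by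
        have h4 := h2 x₀
        have e1 : ((i : ℕ) : ℤ) - ((i' : ℕ) : ℤ) = ((y₀ (E x₀) + m * y₁ (E x₀)) * i + y₁ (E x₀) * j) -
          ((y₀ (E x₀) + m * y₁ (E x₀)) * i' + y₁ (E x₀) * j') - (y₀ (E x₀) - 1) * (i - i') -
          y₁ (E x₀) * (m * (i - i') + (j - j')) := by ring
        rw [e1]
        exact dvd_sub (dvd_sub h4 (h00.mul_right _)) (h10.mul_right _)
      have h5 : i = i' := by
        apply Fin.ext
        have h6 := i.2
        have h7 := i'.2
        have h8 := Int.eq_zero_of_abs_lt_dvd h3 (by rw [abs_lt]; constructor <;> omega)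
        omega
      subst h5
      have h9 : (N : ℤ) ∣ (j : ℤ) - j' := by
        have h4 := h2 x₁
        have e1 : ((j : ℕ) : ℤ) - ((j' : ℕ) : ℤ) = ((y₀ (E x₁) + m * y₁ (E x₁)) * i + y₁ (E x₁) * j) -
          ((y₀ (E x₁) + m * y₁ (E x₁)) * i + y₁ (E x₁) * j') - (y₁ (E x₁) - 1) * (j - j') := by ring
        rw [e1]
        exact dvd_sub h4 (h11.mul_right _)
      have h10' : j = j' := by
        apply Fin.ext
        have h6 := j.2
        have h7 := j'.2
        have h8 := Int.eq_zero_of_abs_lt_dvd h9 (by rw [abs_lt]; constructor <;> omega)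
        omega
      rw [h10']
    have hbij : Function.Bijective Ψ := by
      refine hinj.bijective_of_nat_card_le ?_
      rw [Nat.card_prod, Nat.card_fin]
      exact hQcard
    intro x hx
    obtain ⟨⟨i, j⟩, hij⟩ := hbij.2 ⟨x, hx⟩
    exact ⟨i, j, (congrArg Subtype.val hij).symm⟩
  -- `Q = P`
  obtain ⟨X₀, hX₀⟩ := hsurj (t (y₀ + (0 : ℤ) • y₁)) (htw _)
  obtain ⟨U, hU⟩ := hsurj (t y₁) (htw _)
  have hUP : U ∈ P := by rw [hPP, hU]; exact htP _
  have hQP : (Q : Subgroup ↥(D.group F)) = P := by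
    refine le_antisymm (fun x hx => ?_) hPQ
    obtain ⟨i, j, rfl⟩ := hgen 0 X₀ U hX₀ hU x hx
    exact mul_mem (pow_mem (by rw [hPP, hX₀]; exact htP _) i) (pow_mem hUP j)
  -- `v` fixing all characters is trivial
  have hfix : ∀ v : W, (∀ s ∈ P', ∀ x, cX hp s (rep cs hp.isCartan v x) = cX hp s x) → v = 1 := by
    intro v hv
    by_contra hne
    obtain ⟨α, hα, hsum⟩ := BpExc.Fix.exists_root_sum_eq_zero (cs := cs) (h := hp.isCartan) hne (orderOf_pos v)
      (pow_orderOf_eq_one v)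
    obtain ⟨y, hy⟩ := hroot α hα
    have hvp : ∀ i : ℕ, (ζ ^ y (E (rep cs hp.isCartan (v ^ i) α)) : kˣ) = ζ ^ y (E α) := by
      intro i
      apply Units.ext
      rw [← hcX, ← hcX]
      induction i with
      | zero => rw [pow_zero, map_one]; rfl
      | succ i ih =>
        rw [pow_succ', map_mul]
        show cX hp (t y) (rep cs hp.isCartan v (rep cs hp.isCartan (v ^ i) α)) = _
        rw [hv _ (htP y), ih]
    have h1 : (ζ ^ y (E α)) ^ orderOf v = 1 := by
      have h2 := congrArg (fun x => ζ ^ y (E x)) hsum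
      simp only [map_sum, map_zero, zpow_zero] at h2
      have h3 : ∀ s : Finset ℕ, ζ ^ (∑ i ∈ s, y (E (rep cs hp.isCartan (v ^ i) α))) = (ζ ^ y (E α)) ^ s.card := by
        classical
        intro s
        induction s using Finset.induction_on with
        | empty => rw [Finset.sum_empty, zpow_zero, Finset.card_empty, pow_zero]
        | insert b s hb ih =>
          rw [Finset.sum_insert hb, zpow_add, ih, hvp, Finset.card_insert_of_notMem hb, pow_succ']
      rw [h3, Finset.card_range] at h2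
      exact h2
    have h2 : (ζ ^ y (E α)) ^ N = 1 := by
      rw [← zpow_natCast, ← zpow_mul, mul_comm, zpow_mul, zpow_natCast, hζ.pow_eq_one, one_zpow]
    have h3 : ζ ^ y (E α) = 1 := by
      refine eq_one_of_coprime h1 h2 ?_
      rw [hNdef]
      refine Nat.Coprime.pow_right a ?_
      exact ((Nat.Prime.coprime_iff_not_dvd hpp.out).2 fun h2 => hpW (h2.trans (orderOf_dvd_natCard v))).symm
    rw [hζ.zpow_eq_one_iff_dvd] at h3
    apply hy
    refine dvd_trans ?_ h3
    rw [hNdef]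
    exact_mod_cast dvd_pow_self p ha.ne'
  -- the choice of the line
  have hbad : ∃ j : Fin 8, ∀ v : W, v * v = 1 → v * w = w * v →
      (∀ x, cX hp (t (y₀ + ((j : ℕ) : ℤ) • y₁)) (rep cs hp.isCartan v x) = cX hp (t (y₀ + ((j : ℕ) : ℤ) • y₁)) x) →
      v = 1 := by
    by_contra hcon
    push Not at hcon
    choose v hv1 hv2 hv3 hv4 using hcon
    obtain ⟨i, j, hij, e1⟩ := hinv v fun j => ⟨hv1 j, hv2 j, hv4 j⟩
    apply hv4 i
    apply hfix
    have hd : ∀ (j : Fin 8) (x : Fin l → ℤ), (N : ℤ) ∣ (y₀ (E (rep cs hp.isCartan (v j) x)) +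
        ((j : ℕ) : ℤ) * y₁ (E (rep cs hp.isCartan (v j) x))) - (y₀ (E x) + ((j : ℕ) : ℤ) * y₁ (E x)) := by
      intro j x
      apply hζd
      have h1 := hv3 j x
      rw [hcX, hcX] at h1
      exact Units.ext h1
    have hd1 : ∀ x, (N : ℤ) ∣ y₁ (E (rep cs hp.isCartan (v i) x)) - y₁ (E x) := by
      intro x
      have h1 := hd i x
      have h2 := hd j x
      rw [← e1] at h2
      have h3 := dvd_sub h2 h1
      have h4 : (N : ℤ) ∣ (((j : ℕ) : ℤ) - ((i : ℕ) : ℤ)) *
          (y₁ (E (rep cs hp.isCartan (v i) x)) - y₁ (E x)) := by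
        have e2 : (((j : ℕ) : ℤ) - ((i : ℕ) : ℤ)) * (y₁ (E (rep cs hp.isCartan (v i) x)) - y₁ (E x)) =
          (y₀ (E (rep cs hp.isCartan (v i) x)) + ((j : ℕ) : ℤ) * y₁ (E (rep cs hp.isCartan (v i) x))) -
          (y₀ (E x) + ((j : ℕ) : ℤ) * y₁ (E x)) - ((y₀ (E (rep cs hp.isCartan (v i) x)) +
          ((i : ℕ) : ℤ) * y₁ (E (rep cs hp.isCartan (v i) x))) - (y₀ (E x) + ((i : ℕ) : ℤ) * y₁ (E x))) := by ring
        rw [e2]; exact h3
      refine IsCoprime.dvd_of_dvd_mul_left ?_ h4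
      have hlt : (i : ℕ) < (j : ℕ) := hij
      have e3 : ((j : ℕ) : ℤ) - ((i : ℕ) : ℤ) = (((j : ℕ) - (i : ℕ) : ℕ) : ℤ) := by
        rw [Nat.cast_sub hlt.le]
      rw [e3, hNdef, Nat.isCoprime_iff_coprime]
      refine Nat.Coprime.pow_left a ?_
      rw [Nat.Prime.coprime_iff_not_dvd hpp.out]
      intro h5
      have h6 := Nat.le_of_dvd (by omega) h5
      have h7 := j.2
      omega
    have hd0 : ∀ x, (N : ℤ) ∣ y₀ (E (rep cs hp.isCartan (v i) x)) - y₀ (E x) := by
      intro x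
      have h1 := hd i x
      have h2 := hd1 x
      have e2 : y₀ (E (rep cs hp.isCartan (v i) x)) - y₀ (E x) =
        ((y₀ (E (rep cs hp.isCartan (v i) x)) + ((i : ℕ) : ℤ) * y₁ (E (rep cs hp.isCartan (v i) x))) -
        (y₀ (E x) + ((i : ℕ) : ℤ) * y₁ (E x))) - ((i : ℕ) : ℤ) *
        (y₁ (E (rep cs hp.isCartan (v i) x)) - y₁ (E x)) := by ring
      rw [e2]
      exact dvd_sub h1 (h2.mul_left _)
    intro s hs x
    obtain ⟨y, hy⟩ := hsurj s hs.2.1
    obtain ⟨m, n, rfl⟩ := hgen 0 X₀ U hX₀ hU y (hPQ (by rw [hPP, hy]; exact hs))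
    rw [← hy, map_mul, map_pow, map_pow, hX₀, hU, cX_mul hp (pow_mem (htT _) _) (pow_mem (htT _) _),
      cX_mul hp (pow_mem (htT _) _) (pow_mem (htT _) _), cX_pow hp (htT _), cX_pow hp (htT _), cX_pow hp (htT _),
      cX_pow hp (htT _), hcX, hcX, hcX, hcX]
    have e4 : (ζ ^ (y₀ + (0 : ℤ) • y₁) (E (rep cs hp.isCartan (v i) x)) : kˣ) = ζ ^ (y₀ + (0 : ℤ) • y₁) (E x) := by
      apply hζd'
      rw [zero_smul, add_zero]
      exact hd0 x
    have e5 : (ζ ^ y₁ (E (rep cs hp.isCartan (v i) x)) : kˣ) = ζ ^ y₁ (E x) := hζd' _ _ (hd1 x)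
    rw [e4, e5]
  obtain ⟨j, hj⟩ := hbad
  obtain ⟨X, hX⟩ := hsurj (t (y₀ + ((j : ℕ) : ℤ) • y₁)) (htw _)
  have hXP : X ∈ P := by rw [hPP, hX]; exact htP _
  have hXQ : X ∈ (Q : Subgroup ↥(D.group F)) := hPQ hXP
  have hUQ : U ∈ (Q : Subgroup ↥(D.group F)) := hPQ hUP
  refine evAt_of_real_pair hp2 Q ?_ hXQ ?_ ?_ (u := U) ?_ ?_
  · -- commutative
    intro x hx y hy
    rw [hQP, hPP] at hx hy
    apply hθi
    rw [map_mul, map_mul]
    exact TT_comm hp hx.1 hy.1
  · -- nontrivial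
    intro h1
    rw [h1, map_one] at hX
    have h2 := hcX (y₀ + ((j : ℕ) : ℤ) • y₁) x₀
    rw [← hX, cX_one] at h2
    have h3 : (N : ℤ) ∣ (y₀ + ((j : ℕ) : ℤ) • y₁) (E x₀) := by
      rw [← hζ.zpow_eq_one_iff_dvd]
      exact (Units.ext h2).symm
    have h4 : (y₀ + ((j : ℕ) : ℤ) • y₁) (E x₀) = y₀ (E x₀) + ((j : ℕ) : ℤ) * y₁ (E x₀) := rfl
    rw [h4] at h3
    have h5 : (N : ℤ) ∣ 1 := by
      have e1 : (1 : ℤ) = (y₀ (E x₀) + ((j : ℕ) : ℤ) * y₁ (E x₀)) - (y₀ (E x₀) - 1) -
        y₁ (E x₀) * ((j : ℕ) : ℤ) := by ring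
      rw [e1]
      exact dvd_sub (dvd_sub h3 h00) (h10.mul_right _)
    have h6 : N ∣ 1 := by exact_mod_cast h5
    have h7 : p ∣ 1 := (dvd_pow_self p ha.ne').trans h6
    exact hpp.out.one_lt.ne' (Nat.dvd_one.1 h7)
  · -- real
    have hnegc : ∀ x, cX hp (t (y₀ + ((j : ℕ) : ℤ) • y₁)) x =
        cX hp (t (y₀ + ((j : ℕ) : ℤ) • y₁)) (rep cs hp.isCartan w₀ x) ^ (-1 : ℤ) := by
      intro x
      rw [hneg, (isMC_cX hp (htT _)).neg, zpow_neg_one, inv_inv]
    obtain ⟨y, hy1, hy2⟩ := real_fixed hp cs hk he hσ hFr hB one_ne_zero (w' := w₀) hg (htT (y₀ + ((j : ℕ) : ℤ) • y₁))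
      hz (fun x => by rw [theta_apply, theta_apply, hneg]; show _ = rep cs hp.isCartan w (rep cs hp.isCartan w₀ x);
                      rw [hneg, map_neg]; rfl) hnegc
    obtain ⟨c, hc⟩ := fix_range hp cs f hq hB one_ne_zero (fun b => ⟨b, pow_one b⟩) hy1
    rw [isConj_iff]
    refine ⟨c, emb_injective hp.inList f ?_⟩
    rw [map_mul, map_mul, map_inv, map_inv, hc]
    have h1 : emb hp.inList f X = z * t (y₀ + ((j : ℕ) : ℤ) • y₁) * z⁻¹ := by
      rw [← hX, hθ]; group
    rw [h1, hy2, zpow_neg_one]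
  · -- generation
    apply le_antisymm
    · intro x hx
      obtain ⟨i, m, rfl⟩ := hgen _ X U hX hU x hx
      exact mul_mem (pow_mem (Subgroup.subset_closure (by simp)) i) (pow_mem (Subgroup.subset_closure (by simp)) m)
    · rw [Subgroup.closure_le]
      rintro x (rfl | rfl)
      · exact hXQ
      · exact hUQ
  · -- the condition on the normalizer
    intro y hyN hyX hyy v hv
    have hPfin : Finite ↥P' := by
      have h1 : (P' : Set ↥(D.group k)) ⊆ Set.range θ := fun s hs => by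
        obtain ⟨x, hx⟩ := hsurj s hs.2.1
        exact ⟨x, hx⟩
      exact ((Set.finite_range θ).subset h1).to_subtype
    have hyP : θ y ∈ Subgroup.normalizer (P' : Set ↥(D.group k)) := by
      rw [Subgroup.mem_normalizer_iff]
      have key : ∀ x, x ∈ P ↔ y * x * y⁻¹ ∈ P := by
        intro x
        have := Subgroup.mem_normalizer_iff.1 hyN x
        rw [← hQP]
        exact this
      intro s
      constructor
      · intro hs
        obtain ⟨x, rfl⟩ := hsurj s hs.2.1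
        have h1 := (key x).1 hs
        rw [hPP, map_mul, map_mul, map_inv] at h1
        exact h1
      · intro hs
        obtain ⟨x, hx⟩ := hsurj _ hs.2.1
        have h1 : s = θ (y⁻¹ * x * y) := by
          rw [map_mul, map_mul, map_inv, hx]; group
        rw [h1]
        have h2 := (key (y⁻¹ * x * y)).2 (by
          have : y * (y⁻¹ * x * y) * y⁻¹ = x := by group
          rw [this, hPP, hx]; exact hs)
        exact h2
    obtain ⟨u, hu⟩ := exists_rp_of_normalizes hp cs hk r hN (S := P') (fun s hs => hs.1) (fun α hα => by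
      obtain ⟨y', hy'⟩ := hroot α hα
      refine ⟨t y', htP y', ?_⟩
      rw [← cX_root hp cs (htT y') hα, hcX]
      intro h1
      apply hy'
      have h2 : (ζ ^ y' (E α) : kˣ) = 1 := Units.ext h1
      rw [hζ.zpow_eq_one_iff_dvd] at h2
      refine dvd_trans ?_ h2
      rw [hNdef]
      exact_mod_cast dvd_pow_self p ha.ne') hyP
    have hcomm := comm_of_twist hp cs hk hσ hFr hB one_ne_zero hg hu (hθσ y)
    have hsq : u * u = 1 := by
      apply hfix
      intro s hs x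
      obtain ⟨x', hx'⟩ := hsurj s hs.2.1
      have h1 := hyy x' (hPQ (by rw [hPP, hx']; exact hs))
      have h2 : (θ y * θ y) * s * (θ y * θ y)⁻¹ = s := by
        rw [← hx', ← map_mul, ← map_mul, ← map_inv, ← map_mul, h1]
        congr 1
        group
      have h3 := cX_rp hp cs hk r (hu.mul hu) hs.1 x
      rw [h2] at h3
      exact h3
    have hone : u = 1 := by
      refine hj u hsq hcomm fun x => ?_
      have h2 : θ y * t (y₀ + ((j : ℕ) : ℤ) • y₁) * (θ y)⁻¹ = t (y₀ + ((j : ℕ) : ℤ) • y₁) := by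
        rw [← hX, ← map_mul, hyX, map_mul]; group
      have h3 := cX_rp hp cs hk r hu (htT (y₀ + ((j : ℕ) : ℤ) • y₁)) x
      rw [h2] at h3
      exact h3
    rw [hone] at hu
    have hyT := hu.mem_of_one
    rw [hQP, hPP] at hv
    apply hθi
    rw [map_mul, map_mul]
    exact TT_comm hp hyT hv.1

end Cfsg.Agent.H790.EP.Rank2
end

-- part: H790/EP/Lat8
section
/-!
# Computations in the root lattice of a simply laced type (helper790, for S4929)

* `bf A` : the bilinear form of the Cartan matrix, invariant under the Weyl group if `A` is symmetric;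
* `gram` : the values `B(α, w^i α)` if `Φ(w) = 0`, `Φ` of degree four;
* `exists_eq` : a decidable certificate bounding the number of involutions commuting with an element of the
  Weyl group.
-/

set_option autoImplicit false
set_option linter.unusedSectionVars false

namespace Cfsg.Agent.H790.EP.Lat8

open CoxeterSystem Cfsg Cfsg.Lie Cfsg.Lie.ChevalleyDatum
open Cfsg.Agent.ChevalleyStructure Cfsg.Agent.ChevalleyStructure.CoxeterGeom
  Cfsg.Agent.Tits.Roots Cfsg.Agent.Tits.Core Cfsg.Agent.Nodes.RGDChev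
  Cfsg.Agent.H130.WeylCk Cfsg.Agent.H130.WeylTab Cfsg.Agent.H130.PolyL

section Form

variable {l : ℕ} (A : Fin l → Fin l → ℤ)

/-- the bilinear form of the Cartan matrix -/
def bf : (Fin l → ℤ) →ₗ[ℤ] (Fin l → ℤ) →ₗ[ℤ] ℤ :=
  LinearMap.mk₂ ℤ (fun x y => ∑ i, x i * pairing A i y)
    (fun x x' y => by
      rw [← Finset.sum_add_distrib]
      exact Finset.sum_congr rfl fun i _ => by rw [Pi.add_apply, add_mul])
    (fun c x y => by
      rw [Finset.smul_sum]
      exact Finset.sum_congr rfl fun i _ => by rw [Pi.smul_apply, smul_eq_mul, smul_eq_mul, mul_assoc])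
    (fun x y y' => by
      rw [← Finset.sum_add_distrib]
      refine Finset.sum_congr rfl fun i _ => ?_
      rw [← mul_add]
      congr 1
      unfold pairing
      rw [← Finset.sum_add_distrib]
      exact Finset.sum_congr rfl fun j _ => by rw [Pi.add_apply, mul_add])
    (fun c x y => by
      rw [Finset.smul_sum]
      refine Finset.sum_congr rfl fun i _ => ?_
      rw [smul_eq_mul, mul_left_comm]
      congr 1
      unfold pairing
      rw [Finset.mul_sum]
      exact Finset.sum_congr rfl fun j _ => by rw [Pi.smul_apply, smul_eq_mul, mul_left_comm])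

variable {A}

theorem bf_apply (x y : Fin l → ℤ) : bf A x y = ∑ i, x i * pairing A i y := rfl

theorem bf_single_left (i : Fin l) (c : ℤ) (y : Fin l → ℤ) : bf A (Pi.single i c) y = c * pairing A i y := by
  rw [bf_apply, Finset.sum_eq_single i]
  · rw [Pi.single_eq_same]
  · intro j _ hj
    rw [Pi.single_eq_of_ne hj, zero_mul]
  · intro h
    exact absurd (Finset.mem_univ i) h

theorem bf_comm (hs : ∀ i j, A i j = A j i) (x y : Fin l → ℤ) : bf A x y = bf A y x := by
  rw [bf_apply, bf_apply]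
  unfold pairing
  simp_rw [Finset.mul_sum]
  rw [Finset.sum_comm]
  refine Finset.sum_congr rfl fun j _ => Finset.sum_congr rfl fun i _ => ?_
  rw [hs i j]
  ring

theorem bf_refl (hs : ∀ i j, A i j = A j i) (h2 : ∀ i, A i i = 2) (i : Fin l) (x y : Fin l → ℤ) :
    bf A (refl A i x) (refl A i y) = bf A x y := by
  have hx : refl A i x = x - Pi.single i (pairing A i x) := refl_apply A i x
  have hy : refl A i y = y - Pi.single i (pairing A i y) := refl_apply A i y
  have h3 : pairing A i (Pi.single i (pairing A i y)) = 2 * pairing A i y := by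
    unfold pairing
    rw [Finset.sum_eq_single i]
    · rw [Pi.single_eq_same, h2]
    · intro j _ hj
      rw [Pi.single_eq_of_ne hj, mul_zero]
    · intro h
      exact absurd (Finset.mem_univ i) h
  rw [hx, hy, LinearMap.map_sub₂, map_sub, map_sub, bf_single_left, bf_single_left, h3,
    bf_comm hs x (Pi.single _ _), bf_single_left]
  ring

variable {W : Type*} [Group W] {M : CoxeterMatrix (Fin l)} (cs : CoxeterSystem M W) (h : IsCartan M A)

/-- **The form is invariant.** -/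
theorem bf_rep (hs : ∀ i j, A i j = A j i) (h2 : ∀ i, A i i = 2) (v : W) (x y : Fin l → ℤ) :
    bf A (rep cs h v x) (rep cs h v y) = bf A x y := by
  obtain ⟨L, rfl⟩ := cs.wordProd_surjective v
  induction L with
  | nil => rw [wordProd_nil, map_one]; rfl
  | cons i L ih =>
    rw [wordProd_cons, map_mul, rep_simple]
    show bf A (refl A i (rep cs h (cs.wordProd L) x)) (refl A i (rep cs h (cs.wordProd L) y)) = _
    rw [bf_refl hs h2, ih]

/-- the form on lists -/
def bl (Al : List (List ℤ)) (x y : List ℤ) : ℤ := dot x (Al.map (fun s => dot s y))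

theorem bl_eq {Al : List (List ℤ)} (hA : MatList A Al) (hl : Al.length = l) {x y : List ℤ} (hx : x.length = l)
    (hy : y.length = l) : bl Al x y = bf A (toFn l x) (toFn l y) := by
  unfold bl
  rw [dot_eq _ _ hx (by rw [List.length_map, hl]), bf_apply]
  refine Finset.sum_congr rfl fun i _ => ?_
  congr 1
  have h1 : toFn l (Al.map fun s => dot s y) i = dot (Al.getD i []) y := by
    show (Al.map fun s => dot s y).getD i.1 0 = _
    rw [List.getD_eq_getElem _ _ (by rw [List.length_map, hl]; exact i.2), List.getElem_map,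
      List.getD_eq_getElem _ _ (by rw [hl]; exact i.2)]
  rw [h1, dot_eq _ _ (hA i).1 hy]
  unfold pairing
  refine Finset.sum_congr rfl fun j _ => ?_
  rw [(hA i).2 j]
  rfl

end Form

/-! ### Gram values -/

section Gram

variable {l : ℕ} {A : Fin l → Fin l → ℤ} {W : Type*} [Group W] {M : CoxeterMatrix (Fin l)}
  (cs : CoxeterSystem M W) (h : IsCartan M A)

/-- the relations between the values `B(α, w^i α)` -/
theorem gram (hs : ∀ i j, A i j = A j i) (h2 : ∀ i, A i i = 2) (w : W) {c₀ c₁ c₂ c₃ : ℤ} {α : Fin l → ℤ}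
    (hα : bf A α α = 2)
    (hΦ : Polynomial.aeval (rep cs h w) (ofL [c₀, c₁, c₂, c₃, 1]) α = 0) :
    c₀ * bf A α ((rep cs h w ^ 1) α) + c₁ * 2 + c₂ * bf A α ((rep cs h w ^ 1) α) +
      c₃ * bf A α ((rep cs h w ^ 2) α) + bf A α ((rep cs h w ^ 3) α) = 0 ∧
    c₀ * bf A α ((rep cs h w ^ 2) α) + c₁ * bf A α ((rep cs h w ^ 1) α) + c₂ * 2 +
      c₃ * bf A α ((rep cs h w ^ 1) α) + bf A α ((rep cs h w ^ 2) α) = 0 := by
  set ω := rep cs h w with hω
  have h1 := hΦ
  simp only [ofL, map_add, map_mul, Polynomial.aeval_X, Polynomial.aeval_C, mul_zero, add_zero,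
    LinearMap.add_apply, Module.End.mul_apply, Module.algebraMap_end_apply, map_smul, one_smul] at h1
  have e2 : ∀ n, (ω ^ (n + 1)) α = ω ((ω ^ n) α) := by
    intro n
    rw [pow_succ']
    rfl
  have h3 : c₀ • (ω ^ 0) α + c₁ • (ω ^ 1) α + c₂ • (ω ^ 2) α + c₃ • (ω ^ 3) α + (ω ^ 4) α = 0 := by
    rw [e2 3, e2 2, e2 1, e2 0, pow_zero, ← h1]
    show c₀ • α + c₁ • ω α + c₂ • ω (ω α) + c₃ • ω (ω (ω α)) + ω (ω (ω (ω α))) = _
    abel
  have hinv : ∀ n m : ℕ, bf A ((ω ^ n) α) ((ω ^ (n + m)) α) = bf A α ((ω ^ m) α) := by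
    intro n m
    have h4 : ∀ m, (ω ^ m) α = rep cs h (w ^ m) α := fun m => by rw [hω, map_pow]
    rw [h4, h4, h4, pow_add, rep_mul_apply, bf_rep cs h hs h2]
  have hinv' : ∀ n m : ℕ, bf A ((ω ^ (n + m)) α) ((ω ^ n) α) = bf A α ((ω ^ m) α) := by
    intro n m
    rw [bf_comm hs, hinv]
  have hz : ∀ n, bf A ((ω ^ n) α) ((ω ^ n) α) = 2 := by
    intro n
    have h5 := hinv n 0
    rw [add_zero, pow_zero] at h5
    rw [h5]
    exact hα
  constructor
  · have h5 := congrArg (fun x => bf A ((ω ^ 1) α) x) h3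
    simp only [map_add, map_smul, smul_eq_mul, map_zero] at h5
    rw [show bf A ((ω ^ 1) α) ((ω ^ 0) α) = bf A α ((ω ^ 1) α) from hinv' 0 1, hz,
      show bf A ((ω ^ 1) α) ((ω ^ 2) α) = bf A α ((ω ^ 1) α) from hinv 1 1,
      show bf A ((ω ^ 1) α) ((ω ^ 3) α) = bf A α ((ω ^ 2) α) from hinv 1 2,
      show bf A ((ω ^ 1) α) ((ω ^ 4) α) = bf A α ((ω ^ 3) α) from hinv 1 3] at h5
    exact h5
  · have h5 := congrArg (fun x => bf A ((ω ^ 2) α) x) h3
    simp only [map_add, map_smul, smul_eq_mul, map_zero] at h5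
    rw [show bf A ((ω ^ 2) α) ((ω ^ 0) α) = bf A α ((ω ^ 2) α) from hinv' 0 2, hz,
      show bf A ((ω ^ 2) α) ((ω ^ 1) α) = bf A α ((ω ^ 1) α) from hinv' 1 1,
      show bf A ((ω ^ 2) α) ((ω ^ 3) α) = bf A α ((ω ^ 1) α) from hinv 2 1,
      show bf A ((ω ^ 2) α) ((ω ^ 4) α) = bf A α ((ω ^ 2) α) from hinv 2 2] at h5
    exact h5

/-- the value of the form on two roots is bounded -/
theorem bf_bound (hs : ∀ i j, A i j = A j i) (h2 : ∀ i, A i i = 2)
    (hb : ∀ (i : Fin l) (a : Fin l → ℤ), IsRoot cs h a → |pairing A i a| ≤ 2) {a b : Fin l → ℤ}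
    (ha : IsRoot cs h a) (hb' : IsRoot cs h b) : |bf A a b| ≤ 2 := by
  obtain ⟨v, i, rfl⟩ := ha
  have h1 : bf A (rep cs h v (sr i)) b = pairing A i (rep cs h v⁻¹ b) := by
    rw [← bf_rep cs h hs h2 v⁻¹, rep_inv_apply]
    show bf A (Pi.single i 1) _ = _
    rw [bf_single_left, one_mul]
  rw [h1]
  exact hb i _ (hb'.act _)

theorem bf_self (hs : ∀ i j, A i j = A j i) (h2 : ∀ i, A i i = 2) {a : Fin l → ℤ} (ha : IsRoot cs h a) :
    bf A a a = 2 := by
  obtain ⟨v, i, rfl⟩ := ha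
  rw [bf_rep cs h hs h2]
  show bf A (Pi.single i 1) (Pi.single i 1) = _
  rw [bf_single_left, one_mul]
  unfold pairing
  rw [Finset.sum_eq_single i]
  · rw [Pi.single_eq_same, h2]; rfl
  · intro j _ hj
    rw [Pi.single_eq_of_ne hj, mul_zero]
  · intro h
    exact absurd (Finset.mem_univ i) h

end Gram

/-! ### involutions -/

section Inv

/-- `A x` -/
def rowOf (Al : List (List ℤ)) (x : List ℤ) : List ℤ := Al.map (fun s => dot s x)

/-- `A (w^i α - w^{-i} α)`, `i = 1, 2, 3` -/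
def rows1 {l : ℕ} (Al : List (List ℤ)) (L : List (Fin l)) (k : ℕ) (α : List ℤ) : List (List ℤ) :=
  [1, 2, 3].map fun i => rowOf Al (addV (acn Al L (k * i) α) ((acn Al L.reverse (k * i) α).map fun a => -1 * a))

/-- `(A w^{-i} α₂, A w^i α₁)`, `i = 0, 1, 2, 3` -/
def rows2 {l : ℕ} (Al : List (List ℤ)) (L : List (Fin l)) (k : ℕ) (α₁ α₂ : List ℤ) : List (List ℤ × List ℤ) :=
  [0, 1, 2, 3].map fun i => (rowOf Al (acn Al L.reverse (k * i) α₂), rowOf Al (acn Al L (k * i) α₁))

/-- `B(w^i α₁, α₂)`, `i = 0, 1, 2, 3` -/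
def vals {l : ℕ} (Al : List (List ℤ)) (L : List (Fin l)) (k : ℕ) (α₁ α₂ : List ℤ) : List (ℕ × ℤ) :=
  [0, 1, 2, 3].map fun i => (k * i, bl Al (acn Al L (k * i) α₁) α₂)

/-- the pairs of images -/
def prs {l : ℕ} (Al : List (List ℤ)) (L : List (Fin l)) (R : List (List ℤ)) (r₁ r₂ : List (List ℤ))
    (pq : List (List ℤ × List ℤ)) (T : List (ℕ × ℤ)) (α₁ α₂ : List ℤ) : List (List ℤ × List ℤ) :=
  ((((R.filter fun β => r₁.all fun s => dot s β == 0) ×ˢ (R.filter fun β => r₂.all fun s => dot s β == 0)).filter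
    fun b => pq.all fun s => dot s.1 b.1 == dot s.2 b.2).filter
    fun b => T.all fun m => bl Al (acn Al L m.1 b.1) b.2 == m.2).filter fun b => !decide (b = (α₁, α₂))

variable {l : ℕ} {A : Fin l → Fin l → ℤ} {Al : List (List ℤ)} {W : Type*} [Group W] {M : CoxeterMatrix (Fin l)}
  (cs : CoxeterSystem M W) (h : IsCartan M A)

theorem commute_aeval {V : Type*} [AddCommGroup V] {f g : Module.End ℤ V} (hfg : ∀ x, f (g x) = g (f x))
    (P : Polynomial ℤ) (x : V) : f (Polynomial.aeval g P x) = Polynomial.aeval g P (f x) := by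
  induction P using Polynomial.induction_on' with
  | add p q hp hq =>
    rw [map_add, LinearMap.add_apply, LinearMap.add_apply, map_add, hp, hq]
  | monomial n a =>
    rw [Polynomial.aeval_monomial]
    show f (algebraMap ℤ (Module.End ℤ V) a ((g ^ n) x)) = algebraMap ℤ (Module.End ℤ V) a ((g ^ n) (f x))
    rw [Module.algebraMap_end_apply, Module.algebraMap_end_apply, map_smul]
    congr 1
    induction n with
    | zero => rfl
    | succ n ih =>
      rw [pow_succ']
      show f (g ((g ^ n) x)) = g ((g ^ n) (f x))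
      rw [hfg, ih]

theorem dot_rowOf (hA : MatList A Al) (hl : Al.length = l) (hs : ∀ i j, A i j = A j i) {x y : List ℤ}
    (hx : x.length = l) (hy : y.length = l) : dot (rowOf Al x) y = bf A (toFn l x) (toFn l y) := by
  rw [bf_comm hs, ← bl_eq hA hl hy hx, bl, dot_eq _ _ (by rw [rowOf, List.length_map, hl]) hy,
    dot_eq _ _ hy (by rw [List.length_map, hl])]
  exact Finset.sum_congr rfl fun j _ => mul_comm _ _

/-- **Few involutions commute with `w`.** -/
theorem exists_eq (hA : MatList A Al) (hl : Al.length = l) (hs : ∀ i j, A i j = A j i) (h2 : ∀ i, A i i = 2)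
    (L : List (Fin l)) (k : ℕ) (R : List (List ℤ)) (hRl : ∀ x ∈ R, x.length = l)
    (hR : ∀ a, IsRoot cs h a → ∃ x ∈ R, toFn l x = a) {α₁ α₂ : List ℤ} (h1l : α₁.length = l) (h2l : α₂.length = l)
    (hr1 : IsRoot cs h (toFn l α₁)) (hr2 : IsRoot cs h (toFn l α₂)) (c d : Fin l → List ℤ)
    (hcd : ∀ j : Fin l, bas l j = addV (horner Al L k α₁ (c j)) (horner Al L k α₂ (d j)))
    {r₁ r₂ : List (List ℤ)} (hr₁ : r₁ = rows1 Al L k α₁) (hr₂ : r₂ = rows1 Al L k α₂)
    {pq : List (List ℤ × List ℤ)} (hpq : pq = rows2 Al L k α₁ α₂) {T : List (ℕ × ℤ)} (hT : T = vals Al L k α₁ α₂)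
    {n : ℕ} (hn : (prs Al L R r₁ r₂ pq T α₁ α₂).length < n) (g : Fin n → W)
    (hg : ∀ j, g j * g j = 1 ∧ g j * cs.wordProd L ^ k = cs.wordProd L ^ k * g j ∧ g j ≠ 1) :
    ∃ i j, i < j ∧ g i = g j := by
  subst hr₁ hr₂ hpq hT
  set w := cs.wordProd L ^ k with hw
  -- the action on the lattice
  have hcomm : ∀ (v : W), v * w = w * v → ∀ x, rep cs h v (rep cs h w x) = rep cs h w (rep cs h v x) := by
    intro v hv x
    rw [← rep_mul_apply, hv, rep_mul_apply]
  have hpw : ∀ (i : ℕ) (x : List ℤ), x.length = l → toFn l (acn Al L (k * i) x) = rep cs h (w ^ i) (toFn l x) := by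
    intro i x hx
    rw [toFn_acn cs h hA L _ _ hx, hw, ← pow_mul, map_pow]
  have hpw' : ∀ (i : ℕ) (x : List ℤ), x.length = l →
      toFn l (acn Al L.reverse (k * i) x) = rep cs h (w ^ i)⁻¹ (toFn l x) := by
    intro i x hx
    rw [toFn_acn cs h hA L.reverse _ _ hx, wordProd_reverse, hw, ← pow_mul, ← map_pow, inv_pow]
  have hsame : ∀ v v' : W, v * w = w * v → v' * w = w * v' → rep cs h v (toFn l α₁) = rep cs h v' (toFn l α₁) →
      rep cs h v (toFn l α₂) = rep cs h v' (toFn l α₂) → v = v' := by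
    intro v v' hv hv' e1 e2
    have h3 : ∀ j : Fin l, rep cs h v (sr j) = rep cs h v' (sr j) := by
      intro j
      have h4 : (sr j : Fin l → ℤ) = toFn l (bas l j) := (toFn_bas j).symm
      rw [h4, hcd j, toFn_addV _ _ (length_horner L k α₁ h1l _) (length_horner L k α₂ h2l _),
        toFn_horner cs h hA L k α₁ h1l, toFn_horner cs h hA L k α₂ h2l, map_add, map_add,
        commute_aeval (hcomm v hv), commute_aeval (hcomm v hv), commute_aeval (hcomm v' hv'),
        commute_aeval (hcomm v' hv'), e1, e2]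
    have h5 : v'⁻¹ * v = 1 := by
      refine ChevalleyStructure.CoxeterGeom.eq_one_of_fix cs h _ fun i => ?_
      show rep cs h (v'⁻¹ * v) (sr i) = sr i
      rw [rep_mul_apply, h3, rep_inv_apply]
    rw [inv_mul_eq_one] at h5
    exact h5.symm
  -- the images
  have himg : ∀ j, ∃ b ∈ prs Al L R (rows1 Al L k α₁) (rows1 Al L k α₂) (rows2 Al L k α₁ α₂) (vals Al L k α₁ α₂) α₁ α₂,
      toFn l b.1 = rep cs h (g j) (toFn l α₁) ∧ toFn l b.2 = rep cs h (g j) (toFn l α₂) := by
    intro j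
    obtain ⟨hg1, hg2, hg3⟩ := hg j
    set v := g j with hv
    obtain ⟨β₁, hβ₁, e1⟩ := hR _ (hr1.act v)
    obtain ⟨β₂, hβ₂, e2⟩ := hR _ (hr2.act v)
    have l1 := hRl _ hβ₁
    have l2 := hRl _ hβ₂
    have hinvo : ∀ x, rep cs h v (rep cs h v x) = x := by
      intro x
      rw [← rep_mul_apply, hg1, map_one]
      rfl
    have hvw : ∀ i x, rep cs h (w ^ i) (rep cs h v x) = rep cs h v (rep cs h (w ^ i) x) := by
      intro i x
      have hc : Commute v w := hg2
      rw [← rep_mul_apply, ← rep_mul_apply, (hc.pow_right i).eq]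
    have hinvf := bf_rep cs h hs h2
    -- `B(w^i α, v β) = B(w^{-i} β, v α)`
    have key0 : ∀ (i : ℕ) (x y : Fin l → ℤ), bf A (rep cs h (w ^ i) x) (rep cs h v y) =
        bf A (rep cs h (w ^ i)⁻¹ y) (rep cs h v x) := by
      intro i x y
      rw [← hinvf v (rep cs h (w ^ i) x), hinvo, ← hvw, ← hinvf (w ^ i)⁻¹, rep_inv_apply, bf_comm hs]
    have key1 : ∀ (α β : List ℤ), α.length = l → β.length = l → toFn l β = rep cs h v (toFn l α) →
        ((rows1 Al L k α).all fun s => dot s β == 0) = true := by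
      intro α β hα hβ e
      rw [List.all_eq_true]
      intro s hs'
      obtain ⟨i, -, rfl⟩ := List.mem_map.1 hs'
      have hl1 : (acn Al L (k * i) α).length = l := by rw [length_acn, hα]
      have hl2 : ((acn Al L.reverse (k * i) α).map fun a => -1 * a).length = l := by
        rw [List.length_map, length_acn, hα]
      rw [beq_iff_eq, dot_rowOf hA hl hs (by rw [length_addV _ _ (by rw [hl1, hl2]), hl2]) hβ,
        toFn_addV _ _ hl1 hl2, toFn_smul, hpw i α hα, hpw' i α hα, e, map_add, LinearMap.add_apply, key0, map_smul,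
        LinearMap.smul_apply]
      simp only [_root_.Int.reduceNeg, _root_.Int.zsmul_eq_mul, _root_.neg_mul, _root_.one_mul, _root_.add_neg_cancel]
    have key2 : ((rows2 Al L k α₁ α₂).all fun s => dot s.1 β₁ == dot s.2 β₂) = true := by
      rw [List.all_eq_true]
      intro s hs'
      obtain ⟨i, -, rfl⟩ := List.mem_map.1 hs'
      rw [beq_iff_eq, dot_rowOf hA hl hs (by rw [length_acn, h2l]) l1, dot_rowOf hA hl hs (by rw [length_acn, h1l]) l2,
        hpw' i α₂ h2l, hpw i α₁ h1l, e1, e2, key0]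
    have key3 : ((vals Al L k α₁ α₂).all fun m => bl Al (acn Al L m.1 β₁) β₂ == m.2) = true := by
      rw [List.all_eq_true]
      intro s hs'
      obtain ⟨i, -, rfl⟩ := List.mem_map.1 hs'
      rw [beq_iff_eq, bl_eq hA hl (by rw [length_acn, l1]) l2, bl_eq hA hl (by rw [length_acn, h1l]) h2l,
        hpw i β₁ l1, hpw i α₁ h1l, e1, e2, hvw, hinvf]
    refine ⟨(β₁, β₂), ?_, e1, e2⟩
    unfold prs
    rw [List.mem_filter, List.mem_filter, List.mem_filter]
    refine ⟨⟨⟨?_, key2⟩, key3⟩, ?_⟩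
    · show (β₁, β₂) ∈ List.product _ _
      rw [List.pair_mem_product]
      exact ⟨List.mem_filter.2 ⟨hβ₁, key1 _ _ h1l l1 e1⟩, List.mem_filter.2 ⟨hβ₂, key1 _ _ h2l l2 e2⟩⟩
    · rw [Bool.not_eq_true', decide_eq_false_iff_not]
      intro h3
      have h4 : β₁ = α₁ := congrArg Prod.fst h3
      have h5 : β₂ = α₂ := congrArg Prod.snd h3
      apply hg3
      refine hsame v 1 hg2 (by rw [one_mul, mul_one]) ?_ ?_
      · rw [map_one, ← e1, h4]; rfl
      · rw [map_one, ← e2, h5]; rfl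
  choose b hb h3 h4 using himg
  have hcard : (prs Al L R (rows1 Al L k α₁) (rows1 Al L k α₂) (rows2 Al L k α₁ α₂) (vals Al L k α₁ α₂)
      α₁ α₂).toFinset.card < (Finset.univ : Finset (Fin n)).card := by
    rw [Finset.card_univ, Fintype.card_fin]
    exact lt_of_le_of_lt (List.toFinset_card_le _) hn
  obtain ⟨i, -, j, -, hij, e⟩ := Finset.exists_ne_map_eq_of_card_lt_of_maps_to hcard (f := b)
    (fun j _ => by rw [Finset.mem_coe, List.mem_toFinset]; exact hb j)
  have hgij : g i = g j := by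
    refine hsame _ _ (hg i).2.1 (hg j).2.1 ?_ ?_
    · rw [← h3, ← h3, e]
    · rw [← h4, ← h4, e]
  rcases lt_or_gt_of_ne hij with h5 | h5
  · exact ⟨i, j, h5, hgij⟩
  · exact ⟨j, i, h5, hgij.symm⟩

end Inv

end Cfsg.Agent.H790.EP.Lat8
end

-- part: H790/EP/Data8
section
/-!
# Certificates for two elements of the Weyl group of type `E₈` (helper790, for S4929)

`w = (∏ w10)^3` (`Φ₁₀(w) = 0`) and `w = (∏ w12)^2` (`Φ₁₂(w) = 0`): at most seven involutions of the Weyl group commute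
with `w`.
-/

set_option autoImplicit false
set_option maxRecDepth 100000

namespace Cfsg.Agent.H790.EP.Data8

open Cfsg Cfsg.Lie Cfsg.Lie.ChevalleyDatum
open Cfsg.Agent.ChevalleyStructure.CoxeterGeomTypes Cfsg.Agent.Nodes.RGDChev Cfsg.Agent.H130.WeylCk
  Cfsg.Agent.H130.WeylTab Cfsg.Agent.H130.PolyL Cfsg.Agent.H790.EP.Lat8

/-- the roots of `E₈`, as lists -/
def RL : List (List ℤ) := (List.range 240).map fun r => List.ofFn (vec chevE8 8 r)

/-- the words -/
def w10 : List (Fin 8) := [0, 1, 2, 3, 4, 5, 6, 7]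

def w12 : List (Fin 8) := [5, 7, 4, 0, 2, 3, 6, 1, 2, 7, 4, 2, 6, 3]

theorem length_RL : ∀ x ∈ RL, x.length = 8 := by
  intro x hx
  obtain ⟨r, -, rfl⟩ := List.mem_map.1 hx
  exact List.length_ofFn

/-- the linear conditions -/
def ra10 : List (List ℤ) := [[0, -1, 1, 1, -3, 2, 0, 0], [-2, 1, 1, -1, 1, 0, -1, 0], [-2, 1, 1, -1, 1, 0, -1, 0]]

def rb10 : List (List ℤ) := [[1, 2, 0, -3, 2, 0, 0, 0], [1, -2, 0, 1, 0, -1, 0, 1], [1, -2, 0, 1, 0, -1, 0, 1]]

def pq10 : List (List ℤ × List ℤ) := [([0, 0, 0, 0, 0, -1, 2, -1], [0, 0, 0, 0, 0, 0, -1, 2]),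
  ([0, -1, -1, 2, -1, 0, 0, 0], [0, -1, 1, 0, -1, 1, 0, 0]),
  ([0, 1, -1, 0, 0, 1, -1, 0], [-1, 0, 1, -1, 1, 0, 0, -1]), ([-1, 1, 1, -1, 0, 0, 1, -1], [-1, 1, 0, 0, 0, 0, -1, 1])]

def T10 : List (ℕ × ℤ) := [(0, -1), (3, 0), (6, 0), (9, -1)]

def ra12 : List (List ℤ) := [[-1, 0, 1, 0, -1, 0, 1, 0], [-2, 0, 2, -2, 2, 0, -1, 0], [-2, 0, 2, 0, -2, 0, 2, 0]]

def rb12 : List (List ℤ) := [[1, 1, -1, 0, 0, 0, 0, -1], [2, -2, -2, 2, 0, -1, 0, 1], [2, 2, -2, 0, 0, 0, 0, -2]]

def pq12 : List (List ℤ × List ℤ) := [([0, 0, 0, 0, 0, -1, 2, -1], [0, 0, 0, 0, 0, 0, -1, 2]),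
  ([-1, -1, 1, 0, 1, -1, 0, 0], [-1, 1, 0, 0, -1, 1, 0, 0]),
  ([-1, 1, 1, -1, 0, 0, 1, -1], [-1, 0, 1, -1, 1, 0, -1, 1]), ([-1, -1, 1, 0, 0, 0, 0, 1], [-1, 0, 1, 0, -1, 0, 1, 0])]

def T12 : List (ℕ × ℤ) := [(0, -1), (2, 0), (4, -1), (6, 1)]

theorem ra10_eq : ra10 = rows1 alE8 w10 3 (bas 8 7) := by decide +kernel
theorem rb10_eq : rb10 = rows1 alE8 w10 3 (bas 8 6) := by decide +kernel
theorem pq10_eq : pq10 = rows2 alE8 w10 3 (bas 8 7) (bas 8 6) := by decide +kernel
theorem T10_eq : T10 = vals alE8 w10 3 (bas 8 7) (bas 8 6) := by decide +kernel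
private noncomputable def _root_.Cfsg.Agent.LsF.fab0bdd_0 : {f // @Cfsg.Agent.H130.WeylCk.dot = f} := ⟨_, by first | (delta Cfsg.Agent.H130.WeylCk.dot List.brecOn List.brecOn.go Cfsg.Agent.H130.WeylCk.dot._f; rewrite [Cfsg.Agent.LsF.iadd_pat, Cfsg.Agent.LsF.imul_pat]; (try delta Cfsg.Agent.H130.WeylCk.dot.match_3); (try delta Cfsg.Agent.H130.WeylCk.dot.match_1); (try delta List.casesOn); first | dsimp -zeta only | exact rfl) | exact rfl⟩
private noncomputable def _root_.Cfsg.Agent.LsF.fab0bdd_1 : {f // @Cfsg.Agent.H790.EP.Lat8.rowOf = f} := ⟨_, by first | (delta Cfsg.Agent.H790.EP.Lat8.rowOf; rewrite [Cfsg.Agent.LsF.fab0bdd_0.2, Cfsg.Agent.LsF.map_eq]; exact rfl) | exact rfl⟩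
private noncomputable def _root_.Cfsg.Agent.LsF.fab0bdd_2 : {f // @Cfsg.Agent.H130.WeylCk.addV = f} := ⟨_, by first | (delta Cfsg.Agent.H130.WeylCk.addV List.brecOn List.brecOn.go Cfsg.Agent.H130.WeylCk.addV._f; rewrite [Cfsg.Agent.LsF.iadd_pat]; (try delta Cfsg.Agent.H130.WeylCk.dot.match_3); (try delta Cfsg.Agent.H130.WeylCk.dot.match_1); (try delta List.casesOn); first | dsimp -zeta only | exact rfl) | exact rfl⟩
private noncomputable def _root_.Cfsg.Agent.LsF.fab0bdd_3 : {f // @Cfsg.Agent.H130.WeylCk.rf = f} := ⟨_, by first | (delta Cfsg.Agent.H130.WeylCk.rf; rewrite [Cfsg.Agent.LsF.fab0bdd_0.2, Cfsg.Agent.LsF.isub_pat, Cfsg.Agent.LsF.getD_eq, Cfsg.Agent.LsF.set_eq]; exact rfl) | exact rfl⟩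
private noncomputable def _root_.Cfsg.Agent.LsF.fab0bdd_4 : {f // @Cfsg.Agent.H130.WeylCk.ac = f} := ⟨_, by first | (delta Cfsg.Agent.H130.WeylCk.ac; rewrite [Cfsg.Agent.LsF.fab0bdd_3.2, Cfsg.Agent.LsF.foldr_eq]; exact rfl) | exact rfl⟩
private noncomputable def _root_.Cfsg.Agent.LsF.fab0bdd_5 : {f // @Cfsg.Agent.H130.WeylCk.acn = f} := ⟨_, by first | (delta Cfsg.Agent.H130.WeylCk.acn Cfsg.Agent.H130.WeylCk.acn._f Nat.brecOn.go Nat.brecOn; rewrite [Cfsg.Agent.LsF.fab0bdd_4.2]; (try delta Cfsg.Agent.H130.WeylCk.acn.match_1); (try delta Nat.casesOn); first | dsimp -zeta only | exact rfl) | exact rfl⟩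
private noncomputable def _root_.Cfsg.Agent.LsF.fab0bdd_6 : {f // @Cfsg.Agent.H790.EP.Lat8.rows1 = f} := ⟨_, by first | (delta Cfsg.Agent.H790.EP.Lat8.rows1; rewrite [Cfsg.Agent.LsF.fab0bdd_1.2, Cfsg.Agent.LsF.fab0bdd_2.2, Cfsg.Agent.LsF.fab0bdd_5.2, Cfsg.Agent.LsF.nmul_pat, Cfsg.Agent.LsF.imul_pat, Cfsg.Agent.LsF.ineg_pat, Cfsg.Agent.LsF.map_eq, Cfsg.Agent.LsF.reverse_eq]; exact rfl) | exact rfl⟩
private noncomputable def _root_.Cfsg.Agent.LsF.fab0bdd_7 : {f // @Cfsg.Agent.H130.WeylCk.bas = f} := ⟨_, by first | (delta Cfsg.Agent.H130.WeylCk.bas; rewrite [Cfsg.Agent.LsF.replicate_eq, Cfsg.Agent.LsF.set_eq]; exact rfl) | exact rfl⟩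
theorem ra12_eq : ra12 = rows1 alE8 w12 2 (bas 8 7) := by (refine of_decide_eq_true ?_; (try (rewrite [Cfsg.Agent.LsF.fab0bdd_6.2, Cfsg.Agent.LsF.fab0bdd_7.2, Cfsg.Agent.LsF.instIDecEq_eq, Cfsg.Agent.LsF.dListEq_eq, Cfsg.Agent.LsF.decide_eq])); decide +kernel)
theorem rb12_eq : rb12 = rows1 alE8 w12 2 (bas 8 6) := by (refine of_decide_eq_true ?_; (try (rewrite [Cfsg.Agent.LsF.fab0bdd_6.2, Cfsg.Agent.LsF.fab0bdd_7.2, Cfsg.Agent.LsF.instIDecEq_eq, Cfsg.Agent.LsF.dListEq_eq, Cfsg.Agent.LsF.decide_eq])); decide +kernel)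
private noncomputable def _root_.Cfsg.Agent.LsF.fab0bdd_8 : {f // @Cfsg.Agent.H790.EP.Lat8.rows2 = f} := ⟨_, by first | (delta Cfsg.Agent.H790.EP.Lat8.rows2; rewrite [Cfsg.Agent.LsF.fab0bdd_1.2, Cfsg.Agent.LsF.fab0bdd_5.2, Cfsg.Agent.LsF.nmul_pat, Cfsg.Agent.LsF.map_eq, Cfsg.Agent.LsF.reverse_eq]; exact rfl) | exact rfl⟩
theorem pq12_eq : pq12 = rows2 alE8 w12 2 (bas 8 7) (bas 8 6) := by (refine of_decide_eq_true ?_; (try (rewrite [Cfsg.Agent.LsF.fab0bdd_8.2, Cfsg.Agent.LsF.fab0bdd_7.2, Cfsg.Agent.LsF.dProdEq_eq, Cfsg.Agent.LsF.instIDecEq_eq, Cfsg.Agent.LsF.dListEq_eq, Cfsg.Agent.LsF.decide_eq])); decide +kernel)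
theorem T12_eq : T12 = vals alE8 w12 2 (bas 8 7) (bas 8 6) := by decide +kernel

private noncomputable def _root_.Cfsg.Agent.LsF.fab0bdd_9 : {f // @Cfsg.Agent.H790.EP.Lat8.bl = f} := ⟨_, by first | (delta Cfsg.Agent.H790.EP.Lat8.bl; rewrite [Cfsg.Agent.LsF.fab0bdd_0.2, Cfsg.Agent.LsF.map_eq]; exact rfl) | exact rfl⟩
private noncomputable def _root_.Cfsg.Agent.LsF.fab0bdd_10 : {f // @Cfsg.Agent.H790.EP.Lat8.prs = f} := ⟨_, by first | (delta Cfsg.Agent.H790.EP.Lat8.prs; rewrite [Cfsg.Agent.LsF.fab0bdd_9.2, Cfsg.Agent.LsF.fab0bdd_5.2, Cfsg.Agent.LsF.fab0bdd_0.2, Cfsg.Agent.LsF.ibeq_pat, Cfsg.Agent.LsF.dProdEq_eq, Cfsg.Agent.LsF.not_eq, Cfsg.Agent.LsF.all_eq, Cfsg.Agent.LsF.filter_eq, Cfsg.Agent.LsF.instIDecEq_eq, Cfsg.Agent.LsF.dListEq_eq, Cfsg.Agent.LsF.decide_eq]; exact rfl) | exact rfl⟩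
private noncomputable def _root_.Cfsg.Agent.LsF.fab0bdd_11 : {f // @Cfsg.Agent.ChevalleyStructure.RootVecTab.dig = f} := ⟨_, by first | (delta Cfsg.Agent.ChevalleyStructure.RootVecTab.dig; rewrite [Cfsg.Agent.LsF.nmul_pat]; exact rfl) | exact rfl⟩
private noncomputable def _root_.Cfsg.Agent.LsF.fab0bdd_12 : {f // @Cfsg.Agent.ChevalleyStructure.RootVecTab.packTab = f} := ⟨_, by first | (delta Cfsg.Agent.ChevalleyStructure.RootVecTab.packTab; rewrite [Cfsg.Agent.LsF.instDecEq_eq, Cfsg.Agent.LsF.ite_eq]; exact rfl) | exact rfl⟩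
private noncomputable def _root_.Cfsg.Agent.LsF.fab0bdd_13 : {f // @Cfsg.Agent.ChevalleyStructure.RootVecTab.code = f} := ⟨_, by first | (delta Cfsg.Agent.ChevalleyStructure.RootVecTab.code; rewrite [Cfsg.Agent.LsF.fab0bdd_12.2, Cfsg.Agent.LsF.nmul_pat, Cfsg.Agent.LsF.npow_pat]; exact rfl) | exact rfl⟩
private noncomputable def _root_.Cfsg.Agent.LsF.fab0bdd_14 : {f // @Cfsg.Agent.ChevalleyStructure.RootVec.rt = f} := ⟨_, by first | (delta Cfsg.Agent.ChevalleyStructure.RootVec.rt; rewrite [Cfsg.Agent.LsF.fab0bdd_11.2, Cfsg.Agent.LsF.fab0bdd_13.2, Cfsg.Agent.LsF.nsub_pat, Cfsg.Agent.LsF.isub_pat, Cfsg.Agent.LsF.icast_pat, Cfsg.Agent.LsF.decLt_eq, Cfsg.Agent.LsF.dAnd_eq, Cfsg.Agent.LsF.ite_eq]; exact rfl) | exact rfl⟩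
private noncomputable def _root_.Cfsg.Agent.LsF.fab0bdd_15 : {f // @Cfsg.Agent.Nodes.RGDChev.vec = f} := ⟨_, by first | (delta Cfsg.Agent.Nodes.RGDChev.vec; rewrite [Cfsg.Agent.LsF.fab0bdd_14.2]; exact rfl) | exact rfl⟩
private noncomputable def _root_.Cfsg.Agent.LsF.fab0bdd_16 : {f // @Cfsg.Agent.H790.EP.Data8.RL = f} := ⟨_, by first | (delta Cfsg.Agent.H790.EP.Data8.RL; rewrite [Cfsg.Agent.LsF.fab0bdd_15.2, Cfsg.Agent.LsF.map_eq, Cfsg.Agent.LsF.range_eq, Cfsg.Agent.LsF.ofFn_eq]; exact rfl) | exact rfl⟩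
theorem p10 : (prs alE8 w10 RL ra10 rb10 pq10 T10 (bas 8 7) (bas 8 6)).length < 8 := by (refine of_decide_eq_true ?_; (try (rewrite [Cfsg.Agent.LsF.fab0bdd_10.2, Cfsg.Agent.LsF.fab0bdd_16.2, Cfsg.Agent.LsF.fab0bdd_7.2, Cfsg.Agent.LsF.decLt_eq, Cfsg.Agent.LsF.length_eq, Cfsg.Agent.LsF.decide_eq])); decide +kernel)

theorem p12 : (prs alE8 w12 RL ra12 rb12 pq12 T12 (bas 8 7) (bas 8 6)).length < 8 := by (refine of_decide_eq_true ?_; (try (rewrite [Cfsg.Agent.LsF.fab0bdd_10.2, Cfsg.Agent.LsF.fab0bdd_16.2, Cfsg.Agent.LsF.fab0bdd_7.2, Cfsg.Agent.LsF.decLt_eq, Cfsg.Agent.LsF.length_eq, Cfsg.Agent.LsF.decide_eq])); decide +kernel)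

/-- coordinates of the fundamental roots -/
def c10 : List (List ℤ) := [[-1, 0, -1, 0], [-1, 0, -1, 1], [0, 0, 0, 0], [0, 0, 0, 0], [1, -1, 1, -1], [0, 1, 0, 0],
  [0, 0, 0, 0], [1, 0, 0, 0]]

def d10 : List (List ℤ) := [[-1, 1, 0, 1], [-1, 1, -1, 1], [-1, 0, -1, 1], [1, -1, 1, -1], [0, 0, 0, 0],
  [0, 0, 0, -1], [1, 0, 0, 0], [0, 0, 0, 0]]

def c12 : List (List ℤ) := [[0, -1, 0, 0], [1, 0, 0, 0], [0, -1, 0, 1], [0, 1, -1, 0], [0, 0, 1, -1], [-1, 0, 0, 0],
  [0, 0, 0, 0], [1, 0, 0, 0]]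

def d12 : List (List ℤ) := [[0, -1, 0, 1], [1, 0, -1, 1], [0, 0, -1, 0], [-1, 1, 1, -1], [1, 0, 0, 0],
  [-1, -1, 0, 0], [1, 0, 0, 0], [0, 0, 0, 0]]

private noncomputable def _root_.Cfsg.Agent.LsF.fab0bdd_17 : {f // @Cfsg.Agent.H130.WeylCk.horner = f} := ⟨_, by first | (delta Cfsg.Agent.H130.WeylCk.horner List.brecOn List.brecOn.go Cfsg.Agent.H130.WeylCk.horner._f; rewrite [Cfsg.Agent.LsF.fab0bdd_2.2, Cfsg.Agent.LsF.fab0bdd_5.2, Cfsg.Agent.LsF.imul_pat, Cfsg.Agent.LsF.map_eq, Cfsg.Agent.LsF.replicate_eq]; (try delta Cfsg.Agent.H130.WeylCk.dot.match_1); (try delta List.casesOn); first | dsimp -zeta only | exact rfl) | exact rfl⟩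
theorem cd10 : ∀ j : Fin 8, bas 8 j = addV (horner alE8 w10 3 (bas 8 7) (c10.getD j []))
    (horner alE8 w10 3 (bas 8 6) (d10.getD j [])) := by (refine of_decide_eq_true ?_; (try (rewrite [Cfsg.Agent.LsF.fab0bdd_7.2, Cfsg.Agent.LsF.fab0bdd_2.2, Cfsg.Agent.LsF.fab0bdd_17.2, Cfsg.Agent.LsF.getD_eq, Cfsg.Agent.LsF.instIDecEq_eq, Cfsg.Agent.LsF.dListEq_eq, Cfsg.Agent.LsF.dForallFin_eq, Cfsg.Agent.LsF.decide_eq])); decide +kernel)

theorem cd12 : ∀ j : Fin 8, bas 8 j = addV (horner alE8 w12 2 (bas 8 7) (c12.getD j []))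
    (horner alE8 w12 2 (bas 8 6) (d12.getD j [])) := by (refine of_decide_eq_true ?_; (try (rewrite [Cfsg.Agent.LsF.fab0bdd_7.2, Cfsg.Agent.LsF.fab0bdd_2.2, Cfsg.Agent.LsF.fab0bdd_17.2, Cfsg.Agent.LsF.getD_eq, Cfsg.Agent.LsF.instIDecEq_eq, Cfsg.Agent.LsF.dListEq_eq, Cfsg.Agent.LsF.dForallFin_eq, Cfsg.Agent.LsF.decide_eq])); decide +kernel)

theorem phi10 : ∀ j : Fin 8, horner alE8 w10 3 (bas 8 j) [1, -1, 1, -1, 1] = List.replicate 8 0 := by
  (refine of_decide_eq_true ?_; (try (rewrite [Cfsg.Agent.LsF.fab0bdd_17.2, Cfsg.Agent.LsF.fab0bdd_7.2, Cfsg.Agent.LsF.ineg_pat, Cfsg.Agent.LsF.replicate_eq, Cfsg.Agent.LsF.instIDecEq_eq, Cfsg.Agent.LsF.dListEq_eq, Cfsg.Agent.LsF.dForallFin_eq, Cfsg.Agent.LsF.decide_eq])); decide +kernel)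

theorem phi12 : ∀ j : Fin 8, horner alE8 w12 2 (bas 8 j) [1, 0, -1, 0, 1] = List.replicate 8 0 := by
  (refine of_decide_eq_true ?_; (try (rewrite [Cfsg.Agent.LsF.fab0bdd_17.2, Cfsg.Agent.LsF.fab0bdd_7.2, Cfsg.Agent.LsF.ineg_pat, Cfsg.Agent.LsF.replicate_eq, Cfsg.Agent.LsF.instIDecEq_eq, Cfsg.Agent.LsF.dListEq_eq, Cfsg.Agent.LsF.dForallFin_eq, Cfsg.Agent.LsF.decide_eq])); decide +kernel)

/-- the dual functionals -/
theorem dual10 : ∀ m : Fin 4,
    dot [0, 1, 0, 0, -1, 0, 0, 0] (acn alE8 w10 (3 * m) (bas 8 7)) = (if m = 3 then 1 else 0) ∧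
    dot [1, 1, 1, -1, 0, -1, 0, 0] (acn alE8 w10 (3 * m) (bas 8 7)) = 0 ∧
    dot [1, 1, 1, -1, 0, -1, 0, 0] (acn alE8 w10 (3 * m) (bas 8 6)) = (if m = 3 then 1 else 0) := by
  decide +kernel

theorem dual12 : ∀ m : Fin 4,
    dot [0, 0, 1, 0, -1, 0, 0, 0] (acn alE8 w12 (2 * m) (bas 8 7)) = (if m = 3 then 1 else 0) ∧
    dot [1, 1, 0, -1, 0, 0, 0, 0] (acn alE8 w12 (2 * m) (bas 8 7)) = 0 ∧
    dot [1, 1, 0, -1, 0, 0, 0, 0] (acn alE8 w12 (2 * m) (bas 8 6)) = (if m = 3 then 1 else 0) := by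
  decide +kernel

private noncomputable def _root_.Cfsg.Agent.LsF.fab0bdd_18 : {f // @Cfsg.Lie.ChevalleyDatum.cartan = f} := ⟨_, by first | (delta Cfsg.Lie.ChevalleyDatum.cartan; rewrite [Cfsg.Agent.LsF.agetD_eq]; exact rfl) | exact rfl⟩
private noncomputable def _root_.Cfsg.Agent.LsF.fab0bdd_19 : {f // @Cfsg.Lie.ChevalleyDatum.simple = f} := ⟨_, by first | (delta Cfsg.Lie.ChevalleyDatum.simple; rewrite [Cfsg.Agent.LsF.agetD_eq]; exact rfl) | exact rfl⟩
private noncomputable def _root_.Cfsg.Agent.LsF.fab0bdd_20 : {f // @Cfsg.Agent.ChevalleyStructure.CoxeterGeomTypes.cartanOf = f} := ⟨_, by first | (delta Cfsg.Agent.ChevalleyStructure.CoxeterGeomTypes.cartanOf; rewrite [Cfsg.Agent.LsF.fab0bdd_18.2, Cfsg.Agent.LsF.fab0bdd_19.2]; exact rfl) | exact rfl⟩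
/-- the Cartan matrix is symmetric -/
theorem symm8 : ∀ i j : Fin 8, cartanOf chevE8 8 i j = cartanOf chevE8 8 j i := by (refine of_decide_eq_true ?_; (try (rewrite [Cfsg.Agent.LsF.fab0bdd_20.2, Cfsg.Agent.LsF.instIDecEq_eq, Cfsg.Agent.LsF.dForallFin_eq, Cfsg.Agent.LsF.decide_eq])); decide +kernel)

theorem diag8 : ∀ i : Fin 8, cartanOf chevE8 8 i i = 2 := by (refine of_decide_eq_true ?_; (try (rewrite [Cfsg.Agent.LsF.fab0bdd_20.2, Cfsg.Agent.LsF.instIDecEq_eq, Cfsg.Agent.LsF.dForallFin_eq, Cfsg.Agent.LsF.decide_eq])); decide +kernel)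

theorem tab8 : (chevE8.cartanSR.toList.all fun row => row.toList.all fun c =>
    decide (-2 ≤ c) && decide (c ≤ 2)) = true := by
  decide +kernel

theorem getD_mem {α : Type*} (a : Array α) (i : ℕ) (d : α) : a.getD i d ∈ a.toList ∨ a.getD i d = d := by
  by_cases h : i < a.size
  · left
    rw [Array.getD_eq_getD_getElem?, Array.getElem?_eq_getElem h]
    exact Array.mem_toList_iff.2 (Array.getElem_mem h)
  · right
    rw [Array.getD_eq_getD_getElem?, Array.getElem?_eq_none (by omega)]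
    rfl

/-- the Cartan integers are bounded -/
theorem bound8 (i r : ℕ) : |chevE8.cartan i r| ≤ 2 := by
  unfold ChevalleyDatum.cartan
  rcases getD_mem chevE8.cartanSR i #[] with h | h
  · rcases getD_mem (chevE8.cartanSR.getD i #[]) r 0 with h' | h'
    · have h1 := List.all_eq_true.1 (List.all_eq_true.1 tab8 _ h) _ h'
      rw [Bool.and_eq_true, decide_eq_true_eq, decide_eq_true_eq] at h1
      exact abs_le.2 h1
    · rw [h']; norm_num
  · rw [h]
    rcases getD_mem (#[] : Array ℤ) r 0 with h' | h'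
    · simp at h'
    · rw [h']; norm_num

/-- `-1` -/
theorem neg8 : ∀ i : Fin 8, acn alE8 w10 15 (bas 8 i) = (bas 8 i).map (fun a => -1 * a) := by
  (refine of_decide_eq_true ?_; (try (rewrite [Cfsg.Agent.LsF.fab0bdd_5.2, Cfsg.Agent.LsF.fab0bdd_7.2, Cfsg.Agent.LsF.imul_pat, Cfsg.Agent.LsF.ineg_pat, Cfsg.Agent.LsF.map_eq, Cfsg.Agent.LsF.instIDecEq_eq, Cfsg.Agent.LsF.dListEq_eq, Cfsg.Agent.LsF.dForallFin_eq, Cfsg.Agent.LsF.decide_eq])); decide +kernel)

end Cfsg.Agent.H790.EP.Data8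
end

-- part: H790/EP/RestE8
section
/-!
# S4929: the groups `E₈(q)`, primes `p` with `ord_p(q) ≥ 9` (helper790)
-/

set_option autoImplicit false

namespace Cfsg.Agent.H790.EP

open CoxeterSystem Cfsg Cfsg.Lie Cfsg.Lie.ChevalleyDatum
open Cfsg.Agent.ChevalleyStructure Cfsg.Agent.ChevalleyStructure.CoxeterGeom
  Cfsg.Agent.ChevalleyStructure.CoxeterGeomTypes Cfsg.Agent.Tits.Roots Cfsg.Agent.Tits.Core
  Cfsg.Agent.Nodes.RGDChev Cfsg.Agent.H129.TorusChar
  Cfsg.Agent.H130.WeylCk Cfsg.Agent.H130.WeylTab Cfsg.Agent.H130.PolyL Cfsg.Agent.H130.Homo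
open Cfsg.Agent.H790.EP.Lat8 Cfsg.Agent.H790.EP.Data8 Cfsg.Agent.H790.EP.Rank2
open Cfsg.Agent.H892.EP (EvAt)

universe u

theorem hp8 : IsType chevE8 8 CoxeterMatrix.E₈ := by simp [IsType, typeList]

theorem isRoot_RL {a : Fin 8 → ℤ} (ha : IsRoot CoxeterMatrix.E₈.toCoxeterSystem hp8.isCartan a) :
    ∃ x ∈ RL, toFn 8 x = a := by
  obtain ⟨r, hr, rfl⟩ := (isRoot_iff hp8 CoxeterMatrix.E₈.toCoxeterSystem a).1 ha
  refine ⟨List.ofFn (vec chevE8 8 r), List.mem_map.2 ⟨r, List.mem_range.2 hr, rfl⟩, ?_⟩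
  funext j
  show (List.ofFn (vec chevE8 8 r)).getD j.1 0 = _
  rw [List.getD_eq_getElem _ _ (by rw [List.length_ofFn]; exact j.2), List.getElem_ofFn]

theorem isRoot_bas (i : Fin 8) : IsRoot CoxeterMatrix.E₈.toCoxeterSystem hp8.isCartan (toFn 8 (bas 8 i)) := by
  rw [toFn_bas]
  exact isRoot_sr _ _ i

/-- the operator `(Φ(X) - Φ(q)) / (X - q)` at `ω` -/
def opE (ω : Module.End ℤ (Fin 8 → ℤ)) (c₁ c₂ c₃ q : ℤ) : Module.End ℤ (Fin 8 → ℤ) :=
  (c₁ + c₂ * q + c₃ * q ^ 2 + q ^ 3) • (1 : Module.End ℤ (Fin 8 → ℤ)) + (c₂ + c₃ * q + q ^ 2) • ω +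
    (c₃ + q) • (ω ^ 2) + ω ^ 3

theorem opE_apply (ω : Module.End ℤ (Fin 8 → ℤ)) (c₁ c₂ c₃ q : ℤ) (x : Fin 8 → ℤ) :
    opE ω c₁ c₂ c₃ q x = (c₁ + c₂ * q + c₃ * q ^ 2 + q ^ 3) • (ω ^ 0) x + (c₂ + c₃ * q + q ^ 2) • (ω ^ 1) x +
      (c₃ + q) • (ω ^ 2) x + (ω ^ 3) x := by
  rw [pow_zero, pow_one]
  rfl

theorem opE_comp {ω : Module.End ℤ (Fin 8 → ℤ)} {c₀ c₁ c₂ c₃ q N : ℤ}
    (hΦ : ∀ x, Polynomial.aeval ω (ofL [c₀, c₁, c₂, c₃, 1]) x = 0)
    (hN : N ∣ c₀ + c₁ * q + c₂ * q ^ 2 + c₃ * q ^ 3 + q ^ 4) (x : Fin 8 → ℤ) :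
    ∃ x', opE ω c₁ c₂ c₃ q (ω x) = q • opE ω c₁ c₂ c₃ q x + N • x' := by
  obtain ⟨m, hm⟩ := hN
  refine ⟨(-m) • x, ?_⟩
  have h1 := hΦ x
  simp only [ofL, map_add, map_mul, Polynomial.aeval_X, Polynomial.aeval_C, mul_zero, add_zero,
    LinearMap.add_apply, Module.End.mul_apply, Module.algebraMap_end_apply] at h1
  have e1 : ∀ n, (ω ^ n) (ω x) = (ω ^ (n + 1)) x := by
    intro n
    rw [pow_succ]
    rfl
  have h2 : (ω ^ 4) x = -(c₀ • x + c₁ • (ω ^ 1) x + c₂ • (ω ^ 2) x + c₃ • (ω ^ 3) x) := by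
    have e2 : ∀ n, (ω ^ (n + 1)) x = ω ((ω ^ n) x) := by
      intro n
      rw [pow_succ']
      rfl
    rw [e2 3, e2 2, e2 1, pow_one]
    rw [eq_neg_iff_add_eq_zero, ← h1]
    simp only [map_smul, one_smul]
    abel
  rw [opE_apply, opE_apply, e1, e1, e1, e1]
  show _ + (ω ^ 4) x = _
  rw [h2]
  show (c₁ + c₂ * q + c₃ * q ^ 2 + q ^ 3) • (ω ^ 1) x + (c₂ + c₃ * q + q ^ 2) • (ω ^ 2) x +
      (c₃ + q) • (ω ^ 3) x + _ = _
  rw [pow_zero]
  funext j
  simp only [Pi.add_apply, Pi.smul_apply, Pi.neg_apply, smul_eq_mul, Module.End.one_apply]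
  linear_combination (-(x j)) * hm

/-- **The rank two case.** -/
theorem rank2_e8 (F : Type u) [Field F] [Fintype F] {p : ℕ} [hpp : Fact p.Prime] (hp2 : p ≠ 2) (hp8' : 11 ≤ p)
    (hpq : ¬ p ∣ Fintype.card F) (hpW : ¬ p ∣ Nat.card CoxeterMatrix.E₈.Group) {a : ℕ} (ha : 0 < a)
    (hcard : (Nat.card ↥(chevE8.group F)).factorization p ≤ 2 * a)
    (L : List (Fin 8)) (k : ℕ) (c d : List (List ℤ)) {c₀ c₁ c₂ c₃ : ℤ}
    (hdvd : ((p ^ a : ℕ) : ℤ) ∣ c₀ + c₁ * (Fintype.card F : ℤ) + c₂ * (Fintype.card F : ℤ) ^ 2 +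
      c₃ * (Fintype.card F : ℤ) ^ 3 + (Fintype.card F : ℤ) ^ 4)
    (hΦ : ∀ j : Fin 8, horner alE8 L k (bas 8 j) [c₀, c₁, c₂, c₃, 1] = List.replicate 8 0)
    {r₁ r₂ : List (List ℤ)} (hr₁ : r₁ = rows1 alE8 L k (bas 8 7)) (hr₂ : r₂ = rows1 alE8 L k (bas 8 6))
    {pq : List (List ℤ × List ℤ)} (hpq' : pq = rows2 alE8 L k (bas 8 7) (bas 8 6)) {T : List (ℕ × ℤ)}
    (hT : T = vals alE8 L k (bas 8 7) (bas 8 6))
    (hprs : (prs alE8 L RL r₁ r₂ pq T (bas 8 7) (bas 8 6)).length < 8)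
    (hcd : ∀ j : Fin 8, bas 8 j = addV (horner alE8 L k (bas 8 7) (c.getD j []))
      (horner alE8 L k (bas 8 6) (d.getD j [])))
    (y₀ y₁ : List ℤ) (hy0 : y₀.length = 8) (hy1 : y₁.length = 8)
    (hdual : ∀ m : Fin 4, dot y₀ (acn alE8 L (k * m) (bas 8 7)) = (if m = 3 then 1 else 0) ∧
      dot y₁ (acn alE8 L (k * m) (bas 8 7)) = 0 ∧
      dot y₁ (acn alE8 L (k * m) (bas 8 6)) = (if m = 3 then 1 else 0))
    (hts : ∀ a b c : ℤ, |a| ≤ 2 → |b| ≤ 2 → c₀ * a + c₁ * 2 + c₂ * a + c₃ * b + c = 0 →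
      c₀ * b + c₁ * a + c₂ * 2 + c₃ * a + b = 0 →
      ¬ (p : ℤ) ∣ (c₁ + c₂ * (Fintype.card F : ℤ) + c₃ * (Fintype.card F : ℤ) ^ 2 +
      (Fintype.card F : ℤ) ^ 3) * 2 + (c₂ + c₃ * (Fintype.card F : ℤ) + (Fintype.card F : ℤ) ^ 2) * a +
      (c₃ + (Fintype.card F : ℤ)) * b + c) :
    EvAt p ↥(chevE8.group F) := by
  have hfinW : Finite CoxeterMatrix.E₈.Group := finite_W hp8 CoxeterMatrix.E₈.toCoxeterSystem
  set cs := CoxeterMatrix.E₈.toCoxeterSystem with hcs
  obtain ⟨w₀, hw₀⟩ := Cfsg.Agent.H720.RowsNeg.exists_neg lists_E8 cs hp8.isCartan w10 15 neg8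
  set w := cs.wordProd L ^ k with hw
  set ω := rep cs hp8.isCartan w with hω
  set q : ℤ := (Fintype.card F : ℤ) with hq
  have hpw : ∀ (i : ℕ) (x : List ℤ), x.length = 8 → toFn 8 (acn alE8 L (k * i) x) = (ω ^ i) (toFn 8 x) := by
    intro i x hx
    rw [toFn_acn cs hp8.isCartan lists_E8 L _ _ hx, hω, hw, map_pow, ← pow_mul]
  have hΦ' : ∀ x, Polynomial.aeval ω (ofL [c₀, c₁, c₂, c₃, 1]) x = 0 := by
    intro x
    have h1 := Cfsg.Agent.H720.RowsNeg.eq_of_sr (f := Polynomial.aeval ω (ofL [c₀, c₁, c₂, c₃, 1])) (g := 0)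
      (fun i => ?_) x
    · exact h1
    · have h2 : (sr i : Fin 8 → ℤ) = toFn 8 (bas 8 i) := (toFn_bas i).symm
      rw [h2, hω, hw, ← toFn_horner cs hp8.isCartan lists_E8 L k _ (length_bas i.1), hΦ i, toFn_replicate]
      rfl
  have hdot : ∀ (y : List ℤ), y.length = 8 → ∀ (i : ℕ) (x : List ℤ), x.length = 8 →
      fn 8 y ((ω ^ i) (toFn 8 x)) = dot y (acn alE8 L (k * i) x) := by
    intro y hy i x hx
    rw [dot_eq _ _ hy (by rw [length_acn, hx]), hpw i x hx]
    rfl
  have hval : ∀ (y x : List ℤ), y.length = 8 → x.length = 8 →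
      fn 8 y (opE ω c₁ c₂ c₃ q (toFn 8 x)) = (c₁ + c₂ * q + c₃ * q ^ 2 + q ^ 3) * dot y (acn alE8 L (k * 0) x) +
        (c₂ + c₃ * q + q ^ 2) * dot y (acn alE8 L (k * 1) x) + (c₃ + q) * dot y (acn alE8 L (k * 2) x) +
        dot y (acn alE8 L (k * 3) x) := by
    intro y x hy hx
    rw [opE_apply, map_add, map_add, map_add, map_smul, map_smul, map_smul, hdot y hy 0 x hx, hdot y hy 1 x hx,
      hdot y hy 2 x hx, hdot y hy 3 x hx]
    rfl
  have hd0 := hdual 0
  have hd1 := hdual 1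
  have hd2 := hdual 2
  have hd3 := hdual 3
  refine evAt_rank2 hp8 cs (w := w) (w₀ := w₀) rfl hp2 (by omega) hpq hpW invC_E8 ha hcard hw₀
    (opE ω c₁ c₂ c₃ q) (fun x => opE_comp hΦ' hdvd x) (toFn 8 (bas 8 7)) (toFn 8 (bas 8 6)) (fn 8 y₀) (fn 8 y₁)
    ?_ ?_ ?_ ?_ ?_
  · rw [hval y₀ _ hy0 (length_bas 7), show dot y₀ (acn alE8 L (k * 0) (bas 8 7)) = 0 from hd0.1,
      show dot y₀ (acn alE8 L (k * 1) (bas 8 7)) = 0 from hd1.1,
      show dot y₀ (acn alE8 L (k * 2) (bas 8 7)) = 0 from hd2.1,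
      show dot y₀ (acn alE8 L (k * 3) (bas 8 7)) = 1 from hd3.1]
    simp
  · rw [hval y₁ _ hy1 (length_bas 7), show dot y₁ (acn alE8 L (k * 0) (bas 8 7)) = 0 from hd0.2.1,
      show dot y₁ (acn alE8 L (k * 1) (bas 8 7)) = 0 from hd1.2.1,
      show dot y₁ (acn alE8 L (k * 2) (bas 8 7)) = 0 from hd2.2.1,
      show dot y₁ (acn alE8 L (k * 3) (bas 8 7)) = 0 from hd3.2.1]
    simp
  · rw [hval y₁ _ hy1 (length_bas 6), show dot y₁ (acn alE8 L (k * 0) (bas 8 6)) = 0 from hd0.2.2,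
      show dot y₁ (acn alE8 L (k * 1) (bas 8 6)) = 0 from hd1.2.2,
      show dot y₁ (acn alE8 L (k * 2) (bas 8 6)) = 0 from hd2.2.2,
      show dot y₁ (acn alE8 L (k * 3) (bas 8 6)) = 1 from hd3.2.2]
    simp
  · -- no root vanishes
    intro α hα
    refine ⟨bf (cartanOf chevE8 8) α, ?_⟩
    have h2 := bf_self cs hp8.isCartan symm8 diag8 hα
    obtain ⟨h3, h4⟩ := gram cs hp8.isCartan symm8 diag8 w h2 (hΦ' α)
    have hb : ∀ i, |bf (cartanOf chevE8 8) α ((ω ^ i) α)| ≤ 2 := by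
      intro i
      refine bf_bound cs hp8.isCartan symm8 diag8 (fun i a ha => ?_) hα ?_
      · obtain ⟨r, hr, rfl⟩ := (isRoot_iff hp8 cs a).1 ha
        rw [pairing_vec hp8 i hr]
        exact bound8 _ _
      · rw [hω, ← map_pow]
        exact hα.act _
    rw [opE_apply, map_add, map_add, map_add, map_smul, map_smul, map_smul, pow_zero, Module.End.one_apply, h2]
    exact hts _ _ _ (hb 1) (hb 2) h3 h4
  · -- involutions
    intro g hg
    exact exists_eq cs hp8.isCartan lists_E8 rfl symm8 diag8 L k RL length_RL (fun a ha => isRoot_RL ha)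
      (length_bas 7) (length_bas 6) (isRoot_bas 7) (isRoot_bas 6) (fun j => c.getD j []) (fun j => d.getD j []) hcd
      hr₁ hr₂ hpq' hT hprs g hg

/-! ### arithmetic -/

/-- the degrees of the Weyl group -/
def degs8 : List ℕ := [2, 8, 12, 14, 18, 20, 24, 30]

theorem le_seven {p : ℕ} (hp : p.Prime) (h : p ∣ 696729600) : p ≤ 7 := by
  have h1 : (696729600 : ℕ) = 2 ^ 14 * 3 ^ 5 * 5 ^ 2 * 7 := by norm_num
  rw [h1] at h
  rcases (Nat.Prime.dvd_mul hp).1 h with h | h
  · rcases (Nat.Prime.dvd_mul hp).1 h with h | h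
    · rcases (Nat.Prime.dvd_mul hp).1 h with h | h
      · exact (Nat.le_of_dvd (by norm_num) (hp.dvd_of_dvd_pow h)).trans (by norm_num)
      · exact (Nat.le_of_dvd (by norm_num) (hp.dvd_of_dvd_pow h)).trans (by norm_num)
    · exact (Nat.le_of_dvd (by norm_num) (hp.dvd_of_dvd_pow h)).trans (by norm_num)
  · exact Nat.le_of_dvd (by norm_num) h

theorem mem_of_dvd : ∀ i ∈ degs8, ∀ e < 31, 9 ≤ e → e ∣ i → e ∈ [9, 10, 12, 14, 15, 18, 20, 24, 30] := by
  decide +kernel

theorem cyc_of {G : Type*} [Group G] {n m : ℕ} (hn : n = 1) (f : G ≃* (Fin n → Multiplicative (ZMod m))) :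
    IsCyclic G := by
  subst hn
  exact isCyclic_of_surjective (f.trans (MulEquiv.funUnique (Fin 1) _)).symm.toMonoidHom
    (f.trans (MulEquiv.funUnique (Fin 1) _)).symm.surjective

theorem not_dvd_of_bezout {p : ℕ} {g φ A C n : ℤ} {m : ℕ} (hn : n = m) (hm : 0 < m) (hmp : m < p)
    (hφ : (p : ℤ) ∣ φ) (h : A * g + C * φ = n) : ¬ (p : ℤ) ∣ g := by
  intro hg
  have h1 : (p : ℤ) ∣ n := by
    rw [← h]
    exact dvd_add (hg.mul_left _) (hφ.mul_left _)
  rw [hn, Int.natCast_dvd_natCast] at h1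
  exact absurd (Nat.le_of_dvd hm h1) (by omega)

theorem hts10 {p : ℕ} (hp11 : 11 ≤ p) {q : ℤ}
    (hφ : (p : ℤ) ∣ 1 + (-1) * q + 1 * q ^ 2 + (-1) * q ^ 3 + q ^ 4) (a b c : ℤ) (ha : |a| ≤ 2) (hb : |b| ≤ 2)
    (h1 : 1 * a + (-1) * 2 + 1 * a + (-1) * b + c = 0) (h2 : 1 * b + (-1) * a + 1 * 2 + (-1) * a + b = 0) :
    ¬ (p : ℤ) ∣ ((-1) + 1 * q + (-1) * q ^ 2 + q ^ 3) * 2 + (1 + (-1) * q + q ^ 2) * a + ((-1) + q) * b + c := by
  rw [abs_le] at ha hb
  obtain ⟨ha1, ha2⟩ := ha
  obtain ⟨hb1, hb2⟩ := hb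
  obtain rfl : b = a - 1 := by omega
  obtain rfl : c = 1 - a := by omega
  have ha3 : -1 ≤ a := by omega
  interval_cases a
  · exact not_dvd_of_bezout (A := 3 + 4 * q + 4 * q ^ 2 + 3 * q ^ 3) (C := 2 - 5 * q - 6 * q ^ 2) (n := 5) (m := 5)
      rfl (by norm_num) (by omega) hφ (by ring)
  · exact not_dvd_of_bezout (A := -1 - 3 * q - 3 * q ^ 2 - q ^ 3) (C := 5 + 6 * q + 2 * q ^ 2) (n := 5) (m := 5)
      rfl (by norm_num) (by omega) hφ (by ring)
  · exact not_dvd_of_bezout (A := 1 - 2 * q - 2 * q ^ 2 + q ^ 3) (C := 6 + 3 * q - 2 * q ^ 2) (n := 5) (m := 5)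
      rfl (by norm_num) (by omega) hφ (by ring)
  · exact not_dvd_of_bezout (A := -3 + q + q ^ 2 - 3 * q ^ 3) (C := -1 + 4 * q + 6 * q ^ 2) (n := 5) (m := 5)
      rfl (by norm_num) (by omega) hφ (by ring)

theorem hts12 {p : ℕ} (hp11 : 11 ≤ p) {q : ℤ}
    (hφ : (p : ℤ) ∣ 1 + 0 * q + (-1) * q ^ 2 + 0 * q ^ 3 + q ^ 4) (a b c : ℤ) (ha : |a| ≤ 2) (_ : |b| ≤ 2)
    (h1 : 1 * a + 0 * 2 + (-1) * a + 0 * b + c = 0) (h2 : 1 * b + 0 * a + (-1) * 2 + 0 * a + b = 0) :
    ¬ (p : ℤ) ∣ (0 + (-1) * q + 0 * q ^ 2 + q ^ 3) * 2 + ((-1) + 0 * q + q ^ 2) * a + (0 + q) * b + c := by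
  rw [abs_le] at ha
  obtain ⟨ha1, ha2⟩ := ha
  obtain rfl : b = 1 := by omega
  obtain rfl : c = 0 := by omega
  interval_cases a
  · exact not_dvd_of_bezout (A := q + 2 * q ^ 2 + q ^ 3) (C := 1 - 2 * q - 2 * q ^ 2) (n := 1) (m := 1)
      rfl (by norm_num) (by omega) hφ (by ring)
  · exact not_dvd_of_bezout (A := -q - q ^ 2 - q ^ 3) (C := 2 + q + 2 * q ^ 2) (n := 2) (m := 2)
      rfl (by norm_num) (by omega) hφ (by ring)
  · exact not_dvd_of_bezout (A := -q - q ^ 3) (C := 3 + 2 * q ^ 2) (n := 3) (m := 3)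
      rfl (by norm_num) (by omega) hφ (by ring)
  · exact not_dvd_of_bezout (A := -q + q ^ 2 - q ^ 3) (C := 2 - q + 2 * q ^ 2) (n := 2) (m := 2)
      rfl (by norm_num) (by omega) hφ (by ring)
  · exact not_dvd_of_bezout (A := q - 2 * q ^ 2 + q ^ 3) (C := 1 + 2 * q - 2 * q ^ 2) (n := 1) (m := 1)
      rfl (by norm_num) (by omega) hφ (by ring)

/-- the value of the cyclotomic polynomial is divisible by `p ^ val` -/
theorem pow_val_dvd {p q : ℕ} [Fact p.Prime] {L : List ℤ} (h : Polynomial.cyclotomic (orderOf (q : ZMod p)) ℤ = ofL L) :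
    ((p ^ val p q : ℕ) : ℤ) ∣ (ofL L).eval (q : ℤ) := by
  rw [← h, Int.natCast_dvd]
  exact pow_padicValNat_dvd

/-- d = 9, 10, 12, 14, 15, 18, 20, 24, 30 -/
theorem rest_e8 (F : Type) [Field F] [Fintype F] (ho : Odd (Fintype.card F)) (p : ℕ) [Fact p.Prime] (hp : p ≠ 2)
    (h0 : ¬ p ∣ Fintype.card F) (h : ∀ d ∈ [1, 2, 3, 4, 5, 6, 7, 8], ¬ p ∣ Fintype.card F ^ d - 1)
    (hd : p ∣ Nat.card ↥(Lie.chevE8.group F)) : EvAt p ↥(Lie.chevE8.group F) := by
  have hpp : p.Prime := Fact.out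
  have hq1 : 1 < Fintype.card F := Fintype.one_lt_card
  have he9 : 9 ≤ orderOf ((Fintype.card F : ℕ) : ZMod p) := by
    by_contra hlt
    push Not at hlt
    have hpos := orderOf_pos_zmod (r := p) h0
    refine h (orderOf ((Fintype.card F : ℕ) : ZMod p)) ?_ ((dvd_pow_sub_one_iff h0 _).2 dvd_rfl)
    simp only [List.mem_cons, List.not_mem_nil, or_false]
    omega
  have hp11 : 11 ≤ p := by
    have h1 := Nat.le_of_dvd (by have := hpp.two_le; omega) (orderOf_dvd_sub_one (r := p) h0)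
    have h2 : 10 ≤ p := by omega
    rcases Nat.lt_or_ge 10 p with h3 | h3
    · omega
    · have : p = 10 := by omega
      subst this
      norm_num at hpp
  have hdegs : ¬ p ∣ degs8.prod := fun h1 => by
    have h2 : degs8.prod = 696729600 := by decide
    rw [h2] at h1
    have := le_seven hpp h1
    omega
  have hcardW : ¬ p ∣ Nat.card CoxeterMatrix.E₈.Group := fun h1 => by
    have h2 : Nat.card CoxeterMatrix.E₈.Group = 696729600 :=
      Cfsg.Agent.S1093.result (⟨8, CoxeterMatrix.E₈⟩, 696729600) (by simp)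
    rw [h2] at h1
    have := le_seven hpp h1
    omega
  have hX : 1 * Nat.card ↥(chevE8.group F) = Fintype.card F ^ 120 *
      (degs8.map (fun i => Fintype.card F ^ i - 1)).prod := by
    rw [Cfsg.Agent.S1065.result (F := F) rfl]
    simp only [degs8, List.map_cons, List.map_nil, List.prod_cons, List.prod_nil]
    ring
  have hval := Cfsg.Agent.H130.ChevSyl.val_card h0 hq1 hdegs hX (fun h1 => hpp.one_lt.ne' (Nat.dvd_one.1 h1))
  have hcard0 : Nat.card ↥(chevE8.group F) ≠ 0 := Nat.card_pos.ne'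
  have hfpos : 0 < (Nat.card ↥(chevE8.group F)).factorization p := hpp.factorization_pos_of_dvd hcard0 hd
  have hvpos : 0 < val p (Fintype.card F) := by
    rcases Nat.eq_zero_or_pos (val p (Fintype.card F)) with h1 | h1
    · rw [hval, h1, mul_zero] at hfpos
      exact absurd hfpos (lt_irrefl 0)
    · exact h1
  have hmem : orderOf ((Fintype.card F : ℕ) : ZMod p) ∈ [9, 10, 12, 14, 15, 18, 20, 24, 30] := by
    have h1 : (degs8.filter (fun i => orderOf ((Fintype.card F : ℕ) : ZMod p) ∣ i)) ≠ [] := by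
      intro h2
      rw [hval, h2, List.length_nil, zero_mul] at hfpos
      exact absurd hfpos (lt_irrefl 0)
    obtain ⟨i, hi⟩ := List.exists_mem_of_ne_nil _ h1
    rw [List.mem_filter, decide_eq_true_eq] at hi
    have hi30 : ∀ i ∈ degs8, i ≤ 30 ∧ 0 < i := by decide
    have h3 := hi30 i hi.1
    exact mem_of_dvd i hi.1 _ (lt_of_le_of_lt ((Nat.le_of_dvd h3.2 hi.2).trans h3.1) (by norm_num)) he9 hi.2
  -- the cyclic case
  have hcyc : (degs8.filter (fun i => orderOf ((Fintype.card F : ℕ) : ZMod p) ∣ i)).length = 1 →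
      EvAt p ↥(Lie.chevE8.group F) := by
    intro hl
    have hcycP : ∀ P : Sylow p ↥(Lie.chevE8.group F), IsCyclic (P : Subgroup ↥(Lie.chevE8.group F)) := by
      intro P
      obtain ⟨f⟩ := Cfsg.Agent.S2378.result (F := F) rfl (Cfsg.Lie.chevE8, degs8)
        (by simp [degs8]) p h0 hdegs hd P
      exact cyc_of hl f
    obtain ⟨z, hz, hr⟩ := (Cfsg.Agent.H720.RowsNeg.E8 (F := F) rfl hpp h0 hd).isConj
    intro M hM
    exact Cfsg.Agent.H809.Evn.exists_even_of_real_cyclic hM hp hcycP z ⟨1, by rw [hz, pow_one]⟩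
      (fun h => hpp.one_lt.ne' (by rw [← hz, h, orderOf_one])) hr
  by_cases h10 : orderOf ((Fintype.card F : ℕ) : ZMod p) = 10
  · have hφ : ((p ^ val p (Fintype.card F) : ℕ) : ℤ) ∣ 1 + (-1) * (Fintype.card F : ℤ) +
        1 * (Fintype.card F : ℤ) ^ 2 + (-1) * (Fintype.card F : ℤ) ^ 3 + (Fintype.card F : ℤ) ^ 4 := by
      have h1 := pow_val_dvd (p := p) (q := Fintype.card F) (L := [1, -1, 1, -1, 1]) (by
        rw [h10]; exact cyclotomic_eq 10 (by decide))
      refine h1.trans (dvd_of_eq ?_)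
      simp only [ofL, Polynomial.eval_add, Polynomial.eval_mul, Polynomial.eval_X, Polynomial.eval_C,
        Polynomial.eval_zero]
      ring
    refine rank2_e8 F hp hp11 h0 hcardW hvpos ?_ w10 3 c10 d10 hφ phi10 ra10_eq rb10_eq pq10_eq T10_eq p10 cd10
      [0, 1, 0, 0, -1, 0, 0, 0] [1, 1, 1, -1, 0, -1, 0, 0] rfl rfl dual10 (hts10 hp11 ?_)
    · rw [hval, h10]
      exact le_of_eq rfl
    · refine dvd_trans ?_ hφ
      exact_mod_cast dvd_pow_self p hvpos.ne'
  by_cases h12 : orderOf ((Fintype.card F : ℕ) : ZMod p) = 12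
  · have hφ : ((p ^ val p (Fintype.card F) : ℕ) : ℤ) ∣ 1 + 0 * (Fintype.card F : ℤ) +
        (-1) * (Fintype.card F : ℤ) ^ 2 + 0 * (Fintype.card F : ℤ) ^ 3 + (Fintype.card F : ℤ) ^ 4 := by
      have h1 := pow_val_dvd (p := p) (q := Fintype.card F) (L := [1, 0, -1, 0, 1]) (by
        rw [h12]; exact cyclotomic_eq 12 (by decide))
      refine h1.trans (dvd_of_eq ?_)
      simp only [ofL, Polynomial.eval_add, Polynomial.eval_mul, Polynomial.eval_X, Polynomial.eval_C,
        Polynomial.eval_zero]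
      ring
    refine rank2_e8 F hp hp11 h0 hcardW hvpos ?_ w12 2 c12 d12 hφ phi12 ra12_eq rb12_eq pq12_eq T12_eq p12 cd12
      [0, 0, 1, 0, -1, 0, 0, 0] [1, 1, 0, -1, 0, 0, 0, 0] rfl rfl dual12 (hts12 hp11 ?_)
    · rw [hval, h12]
      exact le_of_eq rfl
    · refine dvd_trans ?_ hφ
      exact_mod_cast dvd_pow_self p hvpos.ne'
  apply hcyc
  have hall : ∀ e ∈ [9, 10, 12, 14, 15, 18, 20, 24, 30], e ≠ 10 → e ≠ 12 →
      (degs8.filter (fun i => e ∣ i)).length = 1 := by decide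
  exact hall _ hmem h10 h12

end Cfsg.Agent.H790.EP
end

private theorem dce_48c637beda16 : _root_.True := by
  try have : _root_.True := by simp only [_root_.Cfsg.Agent.H790.EP.Lat8.rowOf.eq_1]
  try have : _root_.True := by simp only [_root_.Cfsg.Agent.H697.EP.Mid.JJ.eq_1]
  try have : _root_.True := by simp only [_root_.Cfsg.Agent.TitsThree.KSideU.HU.congr_simp]
  try have : _root_.True := by simp only [_root_.Cfsg.Agent.H697.EP.iG.congr_simp]
  try have : _root_.True := by simp only [_root_.Cfsg.Agent.H697.EP.hL.eq_1]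
  try have : _root_.True := by simp only [_root_.Cfsg.Agent.H129.TorusChar.cX.congr_simp]
  try have : _root_.True := by simp only [_root_.Cfsg.Agent.H790.EP.degs8.eq_1]
  try have : _root_.True := by simp only [_root_.Cfsg.Agent.H697.EP.sg.congr_simp]
  try have : _root_.True := by simp only [_root_.Cfsg.Agent.H697.EP.BW.congr_simp]
  try have : _root_.True := by simp only [_root_.Cfsg.Agent.H790.EP.Lat8.bl.eq_1]
  try have : _root_.True := by simp only [_root_.Cfsg.Agent.H697.EP.Fx.eq_1]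
  try have : _root_.True := by simp only [_root_.Cfsg.Agent.H697.EP.thl.eq_1]
  exact _root_.True.intro
end

-- part: H892/EP/PcSp
section
prune_inst 0x4010000
set_option linter.all false
open scoped Cfsg.Agent.FastGrp

-- part: H783/EP/Spor
section
/-!
# S4929: the Mathieu groups of degrees 11, 12, 22 (helper783)
-/

set_option autoImplicit false

open scoped ComplexConjugate
open Cfsg Cfsg.Agent.Characters.Core Subgroup
open Cfsg.Agent.H892.EP

namespace Cfsg.Agent.H783.EP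

universe u

section general

variable {G : Type u} [Group G] [Finite G] {p : ℕ} [hp : Fact p.Prime]

/-- If some `p`-subgroup has a centralizer which is a `p`-group, all irreducible characters of degree prime to `p`
lie in the principal block. -/
theorem evAt_of_sub {U : Subgroup G} (hU : IsPGroup p U) (hC : IsPGroup p (centralizer (U : Set G)))
    (χ : IrrCharacter G) (h2 : 2 ∣ charDegree (χ : G → ℂ)) (hd : ¬ p ∣ charDegree (χ : G → ℂ)) : EvAt p G := by
  intro M hM
  refine ⟨χ, ?_, h2⟩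
  obtain ⟨P⟩ : Nonempty (Sylow p G) := inferInstance
  have hC' := Cfsg.Agent.H968.Rat.cent_sylow hU hC P
  have : M.IsPrime := hM.2.1.isPrime
  have hB : IsPBlock M (blockOf M (χ : G → ℂ)) := ⟨χ, rfl⟩
  have hmem : χ ∈ blockOf M (χ : G → ℂ) := Blocks.Basic.mem_blockOf_self (M := M) χ
  have h1 : IsDefectGroup p M (blockOf M (χ : G → ℂ)) (P : Subgroup G) :=
    (H646.DefectBasic.isDefectGroup_iff_sylow hM hB hmem hd _).2 ⟨P, rfl⟩
  rw [← H729.CharTwoBlock.eq_principal_of_centralizer hM hB h1 hC']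
  exact hmem

/-- a self-centralizing element of prime order -/
theorem evAt_of_elt {x : G} (hx : orderOf x = p) (hC : Nat.card (centralizer ({x} : Set G)) = p)
    (χ : IrrCharacter G) (h2 : 2 ∣ charDegree (χ : G → ℂ)) (hd : ¬ p ∣ charDegree (χ : G → ℂ)) : EvAt p G := by
  refine evAt_of_sub (U := zpowers x) ?_ ?_ χ h2 hd
  · exact IsPGroup.of_card (n := 1) (by rw [Nat.card_zpowers, hx, pow_one])
  · have h1 : IsPGroup p (centralizer ({x} : Set G)) := IsPGroup.of_card (n := 1) (by rw [hC, pow_one])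
    refine h1.to_le fun y hy => ?_
    rw [mem_centralizer_singleton_iff]
    exact (mem_centralizer_iff.1 hy x (mem_zpowers x)).symm

/-- a self-centralizing Sylow subgroup -/
theorem evAt_of_syl (P : Sylow p G) (hC : centralizer ((P : Subgroup G) : Set G) = (P : Subgroup G))
    (χ : IrrCharacter G) (h2 : 2 ∣ charDegree (χ : G → ℂ)) (hd : ¬ p ∣ charDegree (χ : G → ℂ)) : EvAt p G :=
  evAt_of_sub P.2 (by rw [hC]; exact P.2) χ h2 hd

omit [Finite G] in
theorem exists_order [Finite G] (h : p ∣ Nat.card G) : ∃ x : G, orderOf x = p := by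
  exact exists_prime_orderOf_dvd_card' p h

end general

theorem prime_cases {p n : ℕ} (hp : p.Prime) (h : p ∣ n) (L : List ℕ) (hL : ∀ q ∈ L, q.Prime) (hn : n ∣ L.prod ^ 20) :
    p ∈ L := by
  have h1 : p ∣ L.prod := hp.dvd_of_dvd_pow (h.trans hn)
  obtain ⟨q, hq, h2⟩ := (Prime.dvd_prod_iff hp.prime).1 h1
  rwa [(Nat.prime_dvd_prime_iff_eq hp (hL q hq)).1 h2]

/-- **`M₁₁`** -/
theorem row_m11 : SpRow fun K => Spor.IsoM11 K := by
  intro K _ _ _ h p hp hp2 hd
  have hG : Cfsg.IsM11 K := Cfsg.Agent.Cit.Eleven.isM11 h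
  have hc : Nat.card K = 7920 := hG.2
  obtain ⟨e, he⟩ := H590.MElevenDeg.exists_equiv hG
  have hdeg : ∀ i, charDegree (e i : K → ℂ) = H590.MElevenDeg.deg10 i := fun i =>
    Cfsg.Agent.Blocks.Basic.charDegree_of_eq (he i)
  have d1 : charDegree (e 1 : K → ℂ) = 10 := hdeg 1
  have d5 : charDegree (e 5 : K → ℂ) = 16 := hdeg 5
  have hmem := prime_cases hp hd [2, 3, 5, 11] (by norm_num) (by rw [hc]; norm_num)
  have : Fact p.Prime := ⟨hp⟩
  simp only [List.mem_cons, List.not_mem_nil, or_false] at hmem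
  rcases hmem with rfl | rfl | rfl | rfl
  · exact absurd rfl hp2
  · obtain ⟨P⟩ : Nonempty (Sylow 3 K) := inferInstance
    exact evAt_of_syl P (Cfsg.Agent.SporadicA.M11Facts2.centralizer_sylow_three hG P) (e 1) (by rw [d1]; norm_num)
      (by rw [d1]; norm_num)
  · obtain ⟨x, hx⟩ := exists_order (G := K) hd
    exact evAt_of_elt hx (Cfsg.Agent.SporadicA.M11Facts.card_centralizer_five hG hx) (e 5) (by rw [d5]; norm_num)
      (by rw [d5]; norm_num)
  · obtain ⟨x, hx⟩ := exists_order (G := K) hd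
    exact evAt_of_elt hx (Cfsg.Agent.SporadicA.M11Sylow.card_centralizer_eleven hG hx) (e 1) (by rw [d1]; norm_num)
      (by rw [d1]; norm_num)

/-! ### `M₁₂` -/

/-- the centralizer of a Sylow 3-subgroup of `M₁₂` is a 3-group -/
theorem cent_m12 [Fact (Nat.Prime 3)] (P : Sylow 3 Spor.M12) :
    IsPGroup 3 (centralizer ((P : Subgroup Spor.M12) : Set Spor.M12)) := by
  have hc : Nat.card Spor.M12 = 95040 := CpAutTThree.MTwelve.card
  have hP : 27 ∣ Nat.card (P : Subgroup Spor.M12) := P.pow_dvd_card_of_pow_dvd_card (n := 3) (by rw [hc]; norm_num)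
  rw [IsPGroup.iff_card]
  have key : ∀ r : ℕ, r.Prime → r ∣ Nat.card (centralizer ((P : Subgroup Spor.M12) : Set Spor.M12)) → r = 3 := by
    intro r hr hd
    have : Fact r.Prime := ⟨hr⟩
    obtain ⟨⟨y, hyC⟩, hy⟩ := exists_prime_orderOf_dvd_card' r hd
    rw [Subgroup.orderOf_mk] at hy
    have hle : (P : Subgroup Spor.M12) ≤ centralizer ({y} : Set Spor.M12) := fun u hu => by
      rw [mem_centralizer_singleton_iff]
      exact mem_centralizer_iff.1 hyC u hu
    have hmem := prime_cases hr (hd.trans (card_subgroup_dvd_card _)) [2, 3, 5, 11] (by norm_num)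
      (by rw [hc]; norm_num)
    simp only [List.mem_cons, List.not_mem_nil, or_false] at hmem
    have h5 : r = 5 ∨ r = 11 → False := by
      intro h
      obtain ⟨x, hx⟩ := exists_prime_orderOf_dvd_card' (G := (P : Subgroup Spor.M12)) 3
        ((by norm_num : 3 ∣ 27).trans hP)
      refine CpAutTThree.MTwelve.no_comm' (x := (x : Spor.M12)) (y := y) ((Subgroup.orderOf_coe x).trans hx) h hy ?_
      exact mem_centralizer_iff.1 hyC x x.2
    rcases hmem with rfl | rfl | rfl | rfl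
    · exfalso
      have h27 : 27 ∣ Nat.card (centralizer ({y} : Set Spor.M12)) := hP.trans (card_dvd_of_le hle)
      have hy1 : y ≠ 1 := by
        rintro rfl
        rw [orderOf_one] at hy
        omega
      have hyy : y * y = 1 := by rw [← pow_two, ← hy]; exact pow_orderOf_eq_one y
      have hconj : ∀ {a m : Spor.M12}, m⁻¹ * a * m = y →
          Nat.card (centralizer ({y} : Set Spor.M12)) = Nat.card (centralizer ({a} : Set Spor.M12)) := by
        intro a m h
        rw [← h]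
        refine Nat.card_congr ⟨fun z => ⟨m * z * m⁻¹, ?_⟩, fun z => ⟨m⁻¹ * z * m, ?_⟩, fun z => ?_, fun z => ?_⟩
        · have h1 := mem_centralizer_singleton_iff.1 z.2
          rw [mem_centralizer_singleton_iff]
          calc m * z * m⁻¹ * a = m * (z * (m⁻¹ * a * m)) * m⁻¹ := by group
            _ = m * (m⁻¹ * a * m * z) * m⁻¹ := by rw [h1]
            _ = a * (m * z * m⁻¹) := by group
        · have h1 := mem_centralizer_singleton_iff.1 z.2
          rw [mem_centralizer_singleton_iff]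
          calc m⁻¹ * z * m * (m⁻¹ * a * m) = m⁻¹ * (z * a) * m := by group
            _ = m⁻¹ * (a * z) * m := by rw [h1]
            _ = m⁻¹ * a * m * (m⁻¹ * z * m) := by group
        · apply Subtype.ext
          show m⁻¹ * (m * z * m⁻¹) * m = z
          group
        · apply Subtype.ext
          show m * (m⁻¹ * z * m) * m⁻¹ = z
          group
      rcases CoThreeStd.MTwelve.inv_class y hy1 hyy with ⟨m, hm⟩ | ⟨m, hm⟩
      · rw [hconj hm] at h27
        have h1 : Nat.card (centralizer ({CoThreeStd.MTwelve.y} : Set Spor.M12)) = 240 :=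
          CoThreeStd.MTwelve.card_cent_y
        rw [h1] at h27
        omega
      · rw [hconj hm] at h27
        have h1 := CoThreeStd.MTwelve.card_cent_v
        rw [h1] at h27
        omega
    · rfl
    · exact (h5 (Or.inl rfl)).elim
    · exact (h5 (Or.inr rfl)).elim
  have hpos : Nat.card (centralizer ((P : Subgroup Spor.M12) : Set Spor.M12)) ≠ 0 := Nat.card_pos.ne'
  exact ⟨_, Nat.eq_prime_pow_of_unique_prime_dvd hpos fun {d} hd h => key d hd h⟩

/-- a character of degree 16 and one of degree 54 -/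
theorem deg_m12 {K : Type u} [Group K] [Finite K] [IsSimpleGroup K] (hc : Nat.card K = 95040) :
    (∃ χ : IrrCharacter K, charDegree (χ : K → ℂ) = 16) ∧ ∃ χ : IrrCharacter K, charDegree (χ : K → ℂ) = 54 := by
  classical
  have := Fintype.ofFinite K
  have := finite_irr (G := K)
  have := Fintype.ofFinite (IrrCharacter K)
  obtain ⟨C, t, hdeg, ho, ht2, ht1, hst⟩ := Cfsg.Agent.H417.DegMTwelve.exists_ctx hc
    (fun P => Cfsg.Agent.MTwelve.SylowEleven.centralizer_sylow11 hc P)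
    (fun P => Cfsg.Agent.MTwelve.SylowEleven.card_normalizer_sylow11 hc P)
  have hcd : ∀ ψ : IrrCharacter K, charDegree (ψ : K → ℂ) = C.deg ψ := fun ψ => by
    rw [hdeg]
    exact Cfsg.Agent.MTwelve.ElevenMain.charDegree_eq_deg ψ
  exact ⟨⟨C.th, by rw [hcd, C.dth]⟩, ⟨C.c54, by rw [hcd, C.d54]⟩⟩

/-- **`M₁₂`** -/
theorem row_m12 : SpRow fun K => Spor.IsoM12 K := by
  intro K _ _ _ h p hp hp2 hd
  have hc : Nat.card K = 95040 := Cfsg.Agent.NotCT.Orders.m12 h
  obtain ⟨e⟩ := h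
  have hcM : Nat.card Spor.M12 = 95040 := CpAutTThree.MTwelve.card
  obtain ⟨⟨χ, hχ⟩, ⟨ψ, hψ⟩⟩ := deg_m12 hc
  have hmem := prime_cases hp hd [2, 3, 5, 11] (by norm_num) (by rw [hc]; norm_num)
  have : Fact p.Prime := ⟨hp⟩
  simp only [List.mem_cons, List.not_mem_nil, or_false] at hmem
  rcases hmem with rfl | rfl | rfl | rfl
  · exact absurd rfl hp2
  · obtain ⟨P⟩ : Nonempty (Sylow 3 K) := inferInstance
    obtain ⟨Q⟩ : Nonempty (Sylow 3 Spor.M12) := inferInstance
    exact evAt_of_sub P.2 (Cfsg.Agent.H968.Rat.cent_of_hom e.toMonoidHom e.injective Q.2 (cent_m12 Q) (n := 3)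
      (by rw [hc]; norm_num) (by rw [hcM]; norm_num) P) χ (by rw [hχ]; norm_num) (by rw [hχ]; norm_num)
  · refine EvAt.tr e.symm ?_
    obtain ⟨z, hz, hr⟩ := Cfsg.Agent.H447.RealMathieu.real12 Cfsg.Agent.H447.RealMathieu.real11_5
    refine evAt_of_real_cyclic (by norm_num) (fun P => ?_) hz hr
    obtain ⟨n, hn⟩ := IsPGroup.iff_card.1 P.2
    have h1 : Nat.card (P : Subgroup Spor.M12) = 5 := by
      have h2 : 5 ^ n ∣ 95040 := by rw [← hn, ← hcM]; exact card_subgroup_dvd_card _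
      have h3 : 5 ∣ Nat.card (P : Subgroup Spor.M12) := P.dvd_card_of_dvd_card (by rw [hcM]; norm_num)
      have h4 : n < 2 := by
        by_contra hcon
        have h5 : 5 ^ 2 ∣ 95040 := (pow_dvd_pow 5 (by omega)).trans h2
        norm_num at h5
      rcases (by omega : n = 0 ∨ n = 1) with rfl | rfl
      · rw [hn] at h3; norm_num at h3
      · rw [hn]; norm_num
    exact isCyclic_of_prime_card (p := 5) h1
  · obtain ⟨P⟩ : Nonempty (Sylow 11 K) := inferInstance
    exact evAt_of_syl P (Cfsg.Agent.MTwelve.SylowEleven.centralizer_sylow11 hc P) ψ (by rw [hψ]; norm_num)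
      (by rw [hψ]; norm_num)

/-! ### `M₂₂` -/

/-- **`M₂₂`** without the prime 7 -/
theorem row_m22 : ∀ (K : Type) [Group K] [Finite K] [IsSimpleGroup K], Spor.IsoM22 K → ∀ p : ℕ, p.Prime → p ≠ 2 →
    p ≠ 7 → p ∣ Nat.card K → EvAt p K := by
  intro K _ _ hs h p hp hp2 hp7 hd
  have hG := Cfsg.Agent.H417.RecogMathieu.isM22 h
  have hc : Nat.card K = 443520 := hG.2
  obtain ⟨f, hf⟩ := Cfsg.Agent.H417.DegMTwentyTwo.exists_enum hG
  have d6 : charDegree (f 6 : K → ℂ) = 154 := hf 6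
  have d7 : charDegree (f 7 : K → ℂ) = 210 := hf 7
  obtain ⟨e⟩ := h
  have hmem := prime_cases hp hd [2, 3, 5, 7, 11] (by norm_num) (by rw [hc]; norm_num)
  have : Fact p.Prime := ⟨hp⟩
  simp only [List.mem_cons, List.not_mem_nil, or_false] at hmem
  rcases hmem with rfl | rfl | rfl | rfl | rfl
  · exact absurd rfl hp2
  · obtain ⟨P⟩ : Nonempty (Sylow 3 K) := inferInstance
    have hcM : Nat.card Spor.M23 = 10200960 := Cfsg.Agent.H968.Rat.cardM23
    have : Finite Spor.M23 := Nat.finite_of_card_ne_zero (by rw [hcM]; norm_num)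
    obtain ⟨U, hU, hC⟩ := Cfsg.Agent.H968.Rat.cent_m23
    have hle : Spor.M22 ≤ Spor.M23 := inf_le_left
    exact evAt_of_sub P.2 (Cfsg.Agent.H968.Rat.cent_of_hom
      ((Subgroup.inclusion hle).comp e.toMonoidHom)
      ((Subgroup.inclusion_injective hle).comp e.injective) hU hC (n := 2)
      (by rw [hc]; norm_num) (by rw [hcM]; norm_num) P) (f 6) (by rw [d6]; norm_num) (by rw [d6]; norm_num)
  · have f11 : Fact (Nat.Prime 11) := ⟨by norm_num⟩
    have f7 : Fact (Nat.Prime 7) := ⟨by norm_num⟩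
    have h11 : ∀ Q : Sylow 11 K, Subgroup.centralizer (Q : Set K) = (Q : Subgroup K) :=
      fun Q => (Cfsg.Agent.M22.Sylow11.sylow_eleven hc Q).1
    have h7 : ∀ P : Sylow 7 K, Subgroup.centralizer (P : Set K) = (P : Subgroup K) ∧
        (Subgroup.centralizer (P : Set K)).relIndex (Subgroup.normalizer (P : Set K)) = 3 :=
      fun P => Cfsg.Agent.M22.Sylow7Core.sylow_seven_core hc h11 P
        (fun _ hK h8 => Cfsg.Agent.M22.SevenThreeEight.false_three_eight hc h11 P hK h8)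
        (fun _ hK h4 => Cfsg.Agent.M22.SevenSixFour.false_six_four hc h11 P hK h4)
    obtain ⟨P11⟩ : Nonempty (Sylow 11 K) := inferInstance
    obtain ⟨P7⟩ : Nonempty (Sylow 7 K) := inferInstance
    obtain ⟨P5⟩ : Nonempty (Sylow 5 K) := inferInstance
    have h5 := Cfsg.Agent.M22.SylowFive.sylow_five hc P11 P7 (h11 P11) (h7 P7).1
      (Cfsg.Agent.M22.Sylow11.sylow_eleven hc P11).2 (h7 P7).2 P5
    exact evAt_of_syl P5 h5.1 (f 6) (by rw [d6]; norm_num) (by rw [d6]; norm_num)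
  · exact absurd rfl hp7
  · obtain ⟨P⟩ : Nonempty (Sylow 11 K) := inferInstance
    exact evAt_of_syl P (Cfsg.Agent.M22.Sylow11.sylow_eleven hc P).1 (f 7) (by rw [d7]; norm_num)
      (by rw [d7]; norm_num)

end Cfsg.Agent.H783.EP
end

-- part: H733/EP/Mathieu
section
/-!
# S4929: the rows of `M23` and `M24` (helper733)

* `M23`: degrees 22.. : `2024` for `p = 3` and `p = 7` (value 8 at the involutions), `230` for `p = 11`, `896` for
  `p = 23`, a real element of order 5 for `p = 5`;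
* `M24`: degrees `2024`, `5544`, `990`, `5796`, `990` for `p = 3, 5, 7, 11, 23`.
-/

set_option autoImplicit false
set_option maxRecDepth 100000

namespace Cfsg.Agent.H733.EP

open Cfsg Subgroup
open Cfsg.Agent.Characters.Core Cfsg.Agent.H892.EP Cfsg.Agent.H317.PQ
open Cfsg.Agent.SporadicA.GolayBase Cfsg.Agent.SporadicA.GolayPerm
open Cfsg.Agent.SporadicStructure.M24El Cfsg.Agent.H729.Trans Cfsg.Agent.H729.MData Cfsg.Agent.H729.Count

theorem evAt_of_B0 {p : ℕ} {G : Type*} [Group G] {χ : IrrCharacter G} (h : χ ∈ B0 p G)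
    (h2 : 2 ∣ charDegree (χ : G → ℂ)) : EvAt p G := fun M hM => ⟨χ, h M hM, h2⟩

theorem evAt_full {p : ℕ} {G : Type*} [Group G] [Finite G] (hp : p.Prime)
    (hU : ∃ U : Subgroup G, IsPGroup p U ∧ IsPGroup p (centralizer (U : Set G))) {d : ℕ}
    {χ : IrrCharacter G} (hd : charDegree (χ : G → ℂ) = d) (h1 : ¬ p ∣ d) (h2 : 2 ∣ d) : EvAt p G := by
  obtain ⟨U, hU, hC⟩ := hU
  exact evAt_of_B0 (H642.PQ.mem_full hp hU hC χ (by rw [hd]; exact h1)) (by rw [hd]; exact h2)

theorem prime_list {p n : ℕ} (hp : p.Prime) (l : List ℕ) (hl : ∀ q ∈ l, q.Prime) (h : p ∣ n) (hn : n ∣ l.prod) :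
    p ∈ l := by
  have h1 : p ∣ l.prod := h.trans hn
  obtain ⟨q, hq, hpq⟩ := (Nat.Prime.prime hp).dvd_prod_iff.1 h1
  rwa [(Nat.prime_dvd_prime_iff_eq hp (hl q hq)).1 hpq]

/-! ### `M23` -/

theorem row_m23 (K : Type) [Group K] [Finite K] [IsSimpleGroup K] (h : Spor.IsoM23 K) : Ev K := by
  obtain ⟨e⟩ := h
  have hcard : Nat.card K = 10200960 := by rw [Nat.card_congr e.toEquiv, H334.Ore.M23.card_M23]
  have hK : IsM23 K := ⟨inferInstance, hcard⟩
  let φ : K →* M24 := H334.Ore.M23.inc23.comp e.toMonoidHom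
  have hφ : Function.Injective φ := H334.Ore.M23.inc23_injective.comp e.injective
  have h23 : ∀ g : K, im (φ g) 23 = 23 := fun g => H334.Ore.M23.im_none23 (e g)
  have hex : ∀ c : ℕ, ok c = true → papp c 23 = 23 → ∃ x : K, φ x = el c := by
    intro c hc h1
    obtain ⟨x, hx⟩ := H334.Ore.M23.hmem c hc fun b hb => by
      simp only [H334.Ore.M23Data.F, List.mem_cons, List.not_mem_nil, or_false] at hb
      rw [hb, h1]
    exact ⟨e.symm x, by rw [← hx]; exact congrArg H334.Ore.M23.inc23 (e.apply_symm_apply x)⟩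
  obtain ⟨hs, H, z, v, a, b, c, d, g, h', b₁, c₁, E⟩ := H417.DegMTwentyThree.exists_elev' hK
  intro p hp hp2 hd
  have hfact : Fact p.Prime := ⟨hp⟩
  rw [hcard] at hd
  have hm := prime_list hp [2, 2, 2, 2, 2, 2, 2, 3, 3, 5, 7, 11, 23] (by norm_num) hd (by norm_num)
  have hm' : p = 3 ∨ p = 5 ∨ p = 7 ∨ p = 11 ∨ p = 23 := by
    simp only [List.mem_cons, List.not_mem_nil, or_false] at hm
    omega
  rcases hm' with rfl | rfl | rfl | rfl | rfl
  · obtain ⟨x, hx⟩ := hex A3 okA (by decide +kernel)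
    obtain ⟨y, hy⟩ := hex B3 okB (by decide +kernel)
    exact evAt_full hp (three φ hφ hx hy) E.dgh (by norm_num) (by norm_num)
  · obtain ⟨x, hx⟩ := hex cR5 okc5 (by decide +kernel)
    obtain ⟨y, hy⟩ := hex gR5 okg5 (by decide +kernel)
    obtain ⟨h1, h2⟩ := real5 φ hφ hx hy
    intro M hM
    refine Cfsg.Agent.H809.Evn.exists_even_of_real_cyclic hM hp2 (fun P => ?_) x ⟨1, by rw [h1, pow_one]⟩
      (fun h3 => by rw [h3, orderOf_one] at h1; exact absurd h1 (by norm_num)) h2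
    obtain ⟨k, hk⟩ := P.isPGroup'.exists_card_eq
    have h3 : 5 ^ k ∣ 10200960 := by
      rw [← hk, ← hcard]
      exact Subgroup.card_subgroup_dvd_card _
    have h4 : k < 2 := by
      by_contra hk2
      exact absurd ((pow_dvd_pow 5 (not_lt.1 hk2)).trans h3) (by norm_num)
    interval_cases k
    · have := (Nat.card_eq_one_iff_unique.1 hk).1
      exact isCyclic_of_subsingleton
    · exact isCyclic_of_prime_card (by rw [hk, pow_one])
  · obtain ⟨x, hx⟩ := hex cM7 (ok_of_pre pre7) (by decide +kernel)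
    obtain ⟨U, hU, hC⟩ := seven φ hφ h23 hx
    have hdg : charDegree (h' : K → ℂ) = 2024 := E.dgh
    refine evAt_of_B0 (χ := h') (H642.PQ.mem_of_val hp hU h' (by rw [hdg]; norm_num) fun y hy h7 h1 => ?_)
      (by rw [hdg]; norm_num)
    have hy2 : orderOf y = 2 := hC y hy h7 h1
    have hz2 : orderOf z = 2 := orderOf_eq_prime E.col.hz E.col.hz1
    have hyz : IsConj z y := by
      have h3 : IsConj (e z) (e y) := invol23 (by rw [MulEquiv.orderOf_eq, hz2]) (by rw [MulEquiv.orderOf_eq, hy2])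
      obtain ⟨t, ht⟩ := isConj_iff.1 h3
      refine isConj_iff.2 ⟨e.symm t, e.injective ?_⟩
      rw [map_mul, map_mul, map_inv, e.apply_symm_apply, ht]
    have h5 : (h' : K → ℂ) y = (h' : K → ℂ) z := by
      obtain ⟨t, ht⟩ := isConj_iff.1 hyz
      rw [← ht, isIrr_isClassFunction h'.2]
    refine ⟨8, ?_, by rw [hdg]; norm_num⟩
    rw [h5, E.col.val, E.vh]
  · obtain ⟨x, hx⟩ := hex c11 (ok_of_pre pre11) (by decide +kernel)
    exact evAt_full hp (cyc11 φ hφ hx) E.dga (by norm_num) (by norm_num)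
  · obtain ⟨x, hx⟩ := hex c23 (ok_of_pre pre23) (by decide +kernel)
    exact evAt_full hp (cyc23 φ hφ hx) E.dgb₁ (by norm_num) (by norm_num)

/-! ### `M24` -/

theorem row_m24 (K : Type) [Group K] [Finite K] [IsSimpleGroup K] (h : Spor.IsoM24 K) : Ev K := by
  obtain ⟨e⟩ := h
  have hcard : Nat.card K = 244823040 := by rw [Nat.card_congr e.toEquiv, S0364.result]
  let φ : K →* M24 := e.toMonoidHom
  have hφ : Function.Injective φ := e.injective
  have hex : ∀ c : ℕ, ∃ x : K, φ x = el c := fun c => ⟨e.symm (el c), e.apply_symm_apply _⟩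
  obtain ⟨H⟩ := M24Order.Final.exists_hyp hcard
  have : Fact (Nat.Prime 5) := ⟨by norm_num⟩
  have : Fact (Nat.Prime 7) := ⟨by norm_num⟩
  obtain ⟨R⟩ : Nonempty (Sylow 5 K) := inferInstance
  obtain ⟨T⟩ : Nonempty (Sylow 7 K) := inferInstance
  obtain ⟨L, M, B, ε, a, b, c, d, h5, ⟨K', M', D, a', h7⟩ | ⟨K', M', B', ε', l', h7⟩⟩ :=
    SporadicA.M24.Convert.exists_blocks H R T
  swap
  · exact (S0422.six_false (SporadicA.M24.Convert.conv H) h5 h7).elim
  obtain ⟨t, v, Θ, Θ', L⟩ := M24Order.ToLast.exists_last H h5 h7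
  intro p hp hp2 hd
  rw [hcard] at hd
  have hm := prime_list hp [2, 2, 2, 2, 2, 2, 2, 2, 2, 2, 3, 3, 3, 5, 7, 11, 23] (by norm_num) hd (by norm_num)
  have hm' : p = 3 ∨ p = 5 ∨ p = 7 ∨ p = 11 ∨ p = 23 := by
    simp only [List.mem_cons, List.not_mem_nil, or_false] at hm
    omega
  rcases hm' with rfl | rfl | rfl | rfl | rfl
  · obtain ⟨x, hx⟩ := hex A3
    obtain ⟨y, hy⟩ := hex B3
    exact evAt_full hp (three φ hφ hx hy) L.d2024 (by norm_num) (by norm_num)
  · have hdg : charDegree (a : K → ℂ) = 5544 := L.d5544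
    refine evAt_of_B0 (χ := a) ?_ (by rw [hdg]; norm_num)
    rw [B0_eq hp h5.loc.modular, h5.loc.mem_iff, h5.mem]
    simp
  · obtain ⟨θ, hθ⟩ : D.X.Nonempty := by
      rw [← Finset.card_ne_zero, D.card_X]
      norm_num
    have hdg : charDegree (θ : K → ℂ) = 990 := by rw [D.deg_X θ hθ, h7.f_eq]
    refine evAt_of_B0 (χ := θ) ?_ (by rw [hdg]; norm_num)
    rw [B0_eq hp h7.modular, D.mem_block]
    exact Or.inr hθ
  · obtain ⟨x, hx⟩ := hex c11
    exact evAt_full hp (cyc11 φ hφ hx) L.d5796 (by norm_num) (by norm_num)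
  · obtain ⟨x, hx⟩ := hex c23
    exact evAt_full hp (cyc23 φ hφ hx) L.d990 (by norm_num) (by norm_num)

end Cfsg.Agent.H733.EP
end

-- part: H217/EP/Co3
section
/-!
# S4929 (TEAM EVP), the row of `Co3` (helper217)

* `p = 3, 5` : there is only the principal block of positive height zero defect; the character of degree 2024;
* `p = 7` : real elements;
* `p = 11, 23` : the degree relation has no odd solution.
-/

set_option autoImplicit false

namespace Cfsg.Agent.H217.EP.Co3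

open Cfsg Cfsg.Agent.H892.EP Subgroup Cfsg.Agent.H345.RecCo Cfsg.Agent.Characters.Core
open Cfsg.Agent.SmallSimple.ThetaSetup Cfsg.Agent.SmallSimple.TheoremC

/-- the 7-column without the values `3`, `-3` -/
def w7 : List (ℕ × ℤ) := [(0, 0), (1, 1), (6, -1), (2, 2), (5, -2)]

def w7' : List (ℕ × ℤ) := [(0, 0), (1, 1), (6, -1), (2, 2), (5, -2), (3, 3), (4, -3)]

theorem mem_w7 {r : ℕ} {w : ℤ} (h : (r, w) ∈ w7') (h3 : w ≠ 3 ∧ w ≠ -3) : (r, w) ∈ w7 := by
  simp only [w7', List.mem_cons, Prod.mk.injEq, List.not_mem_nil, or_false] at h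
  simp only [w7, List.mem_cons, Prod.mk.injEq, List.not_mem_nil, or_false]
  rcases h with h | h | h | h | h | h | h
  · exact Or.inl h
  · exact Or.inr (Or.inl h)
  · exact Or.inr (Or.inr (Or.inl h))
  · exact Or.inr (Or.inr (Or.inr (Or.inl h)))
  · exact Or.inr (Or.inr (Or.inr (Or.inr h)))
  · exact absurd h.2 h3.1
  · exact absurd h.2 h3.2

def w11 : List (ℕ × ℤ) := [(0, 0), (1, 2), (10, -2), (5, -1), (6, 1)]

def w23 : List (ℕ × ℤ) := [(0, 0), (1, 2), (22, -2), (11, -1), (12, 1)]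

def fac : List (ℕ × ℕ) := [(2, 10), (3, 7), (5, 3), (7, 1), (11, 1), (23, 1)]

theorem exists_elt {p : ℕ} (hp : p.Prime) (hd : p ∣ 495766656000) : ∃ x : Spor.Co3, orderOf x = p := by
  have := Fact.mk hp
  exact exists_prime_orderOf_dvd_card' p (by rw [card_co3]; exact hd)

section

variable [IsSimpleGroup Spor.Co3] [Fintype (IrrCharacter Spor.Co3)]

theorem nonab : ¬ IsMulCommutative Spor.Co3 := by
  intro h
  let _ : CommGroup Spor.Co3 := { (inferInstance : Group Spor.Co3) with mul_comm := fun a b => h.is_comm.comm a b }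
  have h1 : (Nat.card Spor.Co3).Prime := IsSimpleGroup.prime_card
  rw [card_co3] at h1
  revert h1
  norm_num

theorem col7 : ∃ (Q : Sylow 7 Spor.Co3) (W : IrrCharacter Spor.Co3 → ℤ), Nat.card Q = 7 ∧
    H653.Sieve.IsCol (Q : Subgroup Spor.Co3) 6 W ∧
    (∀ χ : IrrCharacter Spor.Co3, (charDegree (χ : Spor.Co3 → ℂ) % 7, W χ) ∈ w7) ∧
    ∀ χ : IrrCharacter Spor.Co3, (χ : Spor.Co3 → ℂ) = 1 → W χ = 1 := by
  have : Fact (Nat.Prime 7) := ⟨by norm_num⟩
  obtain ⟨x, hx⟩ := exists_elt (p := 7) (by norm_num) (by norm_num)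
  obtain ⟨P, K, W, hP, -, he, -, hK, hk, -, hrel, hcol, hm, h1⟩ := exists_col' nonab card_co3 hx (k := 6)
    (by rw [co3_cent_seven hx]) 6 1 (by decide +kernel) w7' (by decide +kernel)
  refine ⟨P, W, hP, hcol, fun χ => mem_w7 (hm χ) ?_, fun χ hχ => by rw [h1 χ hχ]; rfl⟩
  exact ne_three hK hP hrel he (by rw [hk]; norm_num) (fun θ hθ => orb_six hK hk hθ) χ (hcol χ)

theorem ev_eleven : EvAt 11 Spor.Co3 := by
  have : Fact (Nat.Prime 7) := ⟨by norm_num⟩
  have : Fact (Nat.Prime 11) := ⟨by norm_num⟩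
  have : Fact (Nat.Prime 23) := ⟨by norm_num⟩
  obtain ⟨Q, W, hQ, hW, hm, h1⟩ := col7
  obtain ⟨x, hx⟩ := exists_elt (p := 11) (by norm_num) (by norm_num)
  obtain ⟨y, hy⟩ := exists_elt (p := 23) (by norm_num) (by norm_num)
  obtain ⟨_, _, _, _, _, _, _, _, _, _, _, _, hm', _⟩ := exists_col' nonab card_co3 hy (k := 1)
    (by rw [co3_cent_23 hy]) 11 2 (by decide +kernel) w23 (by decide +kernel)
  refine evAt_of_cols nonab card_co3 hx (k := 2) (by rw [co3_cent_11 hx]) 5 2 (by decide +kernel) (by norm_num) hQ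
    (by norm_num) hW 1 h1 w7 hm [(23, [0, 1, 22, 11, 12])] ?_ fac (by decide +kernel) (by decide +kernel)
    [(251505, 2), (-181125, 0), (-117369, 0), (91125, -1), (-21735, 0), (8625, 1), (-4025, 0), (2025, 2), (1035, -1),
      (-483, 0), (23, 2)]
    [(621, -2), (-875, 0), (-2415, 0), (5175, 2), (-13041, 0), (-20125, 0), (27945, 1), (-108675, 0), (232875, -1),
      (-586845, 0)]
    (by decide +kernel) (by decide +kernel)
  intro g hg χ
  rw [List.mem_singleton] at hg
  subst hg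
  have := List.mem_map_of_mem (f := Prod.fst) (hm' χ)
  exact this

theorem ev_23 : EvAt 23 Spor.Co3 := by
  have : Fact (Nat.Prime 7) := ⟨by norm_num⟩
  have : Fact (Nat.Prime 11) := ⟨by norm_num⟩
  have : Fact (Nat.Prime 23) := ⟨by norm_num⟩
  obtain ⟨Q, W, hQ, hW, hm, h1⟩ := col7
  obtain ⟨x, hx⟩ := exists_elt (p := 11) (by norm_num) (by norm_num)
  obtain ⟨y, hy⟩ := exists_elt (p := 23) (by norm_num) (by norm_num)
  obtain ⟨_, _, _, _, _, _, _, _, _, _, _, _, hm', _⟩ := exists_col' nonab card_co3 hx (k := 2)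
    (by rw [co3_cent_11 hx]) 5 2 (by decide +kernel) w11 (by decide +kernel)
  refine evAt_of_cols nonab card_co3 hy (k := 1) (by rw [co3_cent_23 hy]) 11 2 (by decide +kernel) (by norm_num) hQ
    (by norm_num) hW 1 h1 w7 hm [(11, [0, 1, 10, 5, 6])] ?_ fac (by decide +kernel) (by decide +kernel)
    [(467775, 0), (-91125, 1), (-24057, 2), (12375, -1), (-10395, 0), (2025, 2), (875, 0), (-275, -2), (231, 0)]
    [(-495, 2), (9625, 0), (-18711, 0), (22275, 1)]
    (by decide +kernel) (by decide +kernel)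
  intro g hg χ
  rw [List.mem_singleton] at hg
  subst hg
  have := List.mem_map_of_mem (f := Prod.fst) (hm' χ)
  exact this

theorem ev_co3 : Ev Spor.Co3 := by
  intro p hp hp2 hd
  have : Fact p.Prime := ⟨hp⟩
  rcases H635.PQ.Co3.primes hp hd with rfl | rfl | rfl | rfl | rfl | rfl
  · exact absurd rfl hp2
  · exact H434.EP.evAt_of_nb H635.PQ.Co3.nb_three H417.Two.Co3.deg_2024 (by norm_num) (by norm_num)
  · exact H434.EP.evAt_of_nb H635.PQ.Co3.nb_five H417.Two.Co3.deg_2024 (by norm_num) (by norm_num)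
  · obtain ⟨x, t, hx, -, ht⟩ := H661.Spor.hasReal_co3
    exact H528.EP.evAt_of_real (by norm_num) (by rw [card_co3]; norm_num) ⟨x, hx, isConj_iff.2 ⟨t, ht⟩⟩
  · exact ev_eleven
  · exact ev_23

end

/-- **The row of `Co3`.** -/
theorem row_co3 : SpRow fun K => Spor.IsoCo3 K := by
  intro K _ _ _ h
  obtain ⟨e⟩ := h
  have : IsSimpleGroup Spor.Co3 := e.symm.isSimpleGroup
  have := finite_irr (G := Spor.Co3)
  have := Fintype.ofFinite (IrrCharacter Spor.Co3)
  exact Ev.tr e.symm ev_co3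

end Cfsg.Agent.H217.EP.Co3
end

-- part: H646/EP/Ly
section
/-!
# S4929, the Lyons group (helper646)
-/

set_option autoImplicit false

namespace Cfsg.Agent.H646.EP.LyRow

open Cfsg Cfsg.Agent.Characters.Core Cfsg.Agent.H892.EP Cfsg.Agent.H145.BR
open Cfsg.Agent.Ly.Setup Cfsg.Agent.H314.LyOrb

/-- cyclic Sylow subgroups and a real element -/
theorem evAt_of_real {p : ℕ} [hp : Fact p.Prime] (hp2 : p ≠ 2) (h : H722.RealP.HasReal p Spor.Ly)
    (hc : ¬ p ^ 2 ∣ Nat.card Spor.Ly) : EvAt p Spor.Ly := by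
  have : Finite Spor.Ly := finite_ly
  obtain ⟨x, t, hx, -, ht⟩ := h
  refine evAt_of_real_cyclic hp2 (fun P => ?_) hx (isConj_iff.2 ⟨t, ht⟩)
  obtain ⟨k, hk⟩ := IsPGroup.iff_card.1 P.isPGroup'
  have h1 : p ^ k ∣ Nat.card Spor.Ly := hk ▸ Subgroup.card_subgroup_dvd_card _
  have h2 : k < 2 := by
    by_contra h3
    exact hc ((pow_dvd_pow p (not_lt.1 h3)).trans h1)
  refine isCyclic_of_card_dvd_prime (p := p) ?_
  rw [hk]
  calc p ^ k ∣ p ^ 1 := pow_dvd_pow p (by omega)
    _ = p := pow_one p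

theorem evAt_of_nb {p : ℕ} (h : H709.PB.NB p 1 Spor.Ly) (i : Fin 5) (h2 : 2 ∣ deg i)
    (hd : ¬ p ∣ deg i) : EvAt p Spor.Ly := by
  have : Finite Spor.Ly := finite_ly
  obtain ⟨χ, -, hχ⟩ := exists_deg_ly
  intro M hM
  refine ⟨χ i, ?_, by rw [hχ]; exact h2⟩
  by_contra hcon
  have h3 := h M hM (χ i) hcon
  rw [hχ, pow_one] at h3
  exact hd h3

/-- a prime not dividing `|G₂(5)|` -/
theorem evAt_of_vanish {p : ℕ} [hp : Fact p.Prime] (hH : ¬ p ∣ Nat.card psi.range) (hd : p ∣ Nat.card Spor.Ly)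
    (h4 : ¬ p ∣ Nat.card Spor.Ly / 4226695) : EvAt p Spor.Ly := by
  classical
  have : Finite Spor.Ly := finite_ly
  have := Fintype.ofFinite Spor.Ly
  obtain ⟨χ, hinj, hs, hdeg, -⟩ := H788.RatB.LyRow.exists_chi
  have hF : permC Spor.Ly (Spor.Ly ⧸ psi.range) = ∑ i, (χ i : Spor.Ly → ℂ) := by
    funext g
    rw [hs g, Finset.sum_apply]
  have key : ∀ ψ : IrrCharacter Spor.Ly, classInner (permC Spor.Ly (Spor.Ly ⧸ psi.range)) (ψ : Spor.Ly → ℂ) ≠ 0 →
      ∃ i, ψ = χ i := by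
    intro ψ h
    by_contra hcon
    push Not at hcon
    apply h
    rw [hF, classInner_sum_left]
    exact Finset.sum_eq_zero fun i _ => by
      rw [classInner_irr (χ i).2 ψ.2, if_neg (fun h5 => hcon i (Subtype.ext h5.symm))]
  intro M hM
  obtain ⟨x, hx⟩ := exists_prime_orderOf_dvd_card' p hd
  have h1 : classInner (permC Spor.Ly (Spor.Ly ⧸ psi.range)) (oneChar Spor.Ly : Spor.Ly → ℂ) ≠ 0 := by
    have h2 := classInner_permC_one (G := Spor.Ly) (Spor.Ly ⧸ psi.range)
    have h3 : (oneChar Spor.Ly : Spor.Ly → ℂ) = fun _ => 1 := rfl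
    rw [h3, h2]
    have : Nonempty (MulAction.orbitRel.Quotient Spor.Ly (Spor.Ly ⧸ psi.range)) :=
      ⟨Quotient.mk'' (QuotientGroup.mk 1)⟩
    exact_mod_cast Nat.card_pos.ne'
  have hv : ∀ u z : Spor.Ly, IsPPart p u z → IsConj x z → permC Spor.Ly (Spor.Ly ⧸ psi.range) u = 0 := by
    intro u z huz hxz
    have h3 : IsEmpty (MulAction.fixedBy (Spor.Ly ⧸ psi.range) u) := by
      refine ⟨fun y => ?_⟩
      obtain ⟨y, hy⟩ := y
      obtain ⟨g, rfl⟩ := QuotientGroup.mk_surjective y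
      have h4 : g⁻¹ * u * g ∈ psi.range := by
        have h5 : (QuotientGroup.mk (u * g) : Spor.Ly ⧸ psi.range) = QuotientGroup.mk g := hy
        have h6 := QuotientGroup.eq.1 h5.symm
        rwa [← mul_assoc] at h6
      have h5 : orderOf (g⁻¹ * u * g) ∣ Nat.card psi.range := by
        have h6 := orderOf_dvd_natCard (⟨_, h4⟩ : psi.range)
        rwa [Subgroup.orderOf_mk] at h6
      have h6 : orderOf (g⁻¹ * u * g) = orderOf u := by
        have := (MulAut.conj g⁻¹).orderOf_eq u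
        rwa [MulAut.conj_apply, inv_inv] at this
      apply hH
      refine Dvd.dvd.trans ?_ h5
      rw [h6]
      obtain ⟨y', hy', hc, -, hn⟩ := huz
      obtain ⟨c, hc'⟩ := isConj_iff.1 hxz
      have h7 : orderOf z = p := by
        rw [← hc', ← hx]
        have := (MulAut.conj c).orderOf_eq x
        rwa [MulAut.conj_apply] at this
      have h8 : (orderOf z).Coprime (orderOf y') := by
        rw [h7]
        exact (hp.out.coprime_iff_not_dvd).2 hn
      rw [← hy', hc.orderOf_mul_eq_mul_orderOf_of_coprime h8, h7]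
      exact dvd_mul_right _ _
    unfold permC
    rw [Nat.card_eq_zero.2 (Or.inl h3), Nat.cast_zero]
  obtain ⟨ψ, hψ, hψ1, hψ2⟩ := exists_ne_one_of_vanish hM (permC Spor.Ly (Spor.Ly ⧸ psi.range)) x ⟨1, by rw [hx, pow_one]⟩
    hv h1
  · obtain ⟨i, rfl⟩ := key ψ hψ2
    obtain ⟨j, hj⟩ := key _ h1
    have hj0 : j = 0 := by
      have h3 : charDegree (oneChar Spor.Ly : Spor.Ly → ℂ) = deg j := by rw [hj, hdeg]
      have h5 : charDegree (oneChar Spor.Ly : Spor.Ly → ℂ) = 1 := by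
        unfold charDegree
        simp
      rw [h5] at h3
      revert h3
      fin_cases j <;> decide
    have hi0 : i ≠ 0 := by
      rintro rfl
      rw [← hj0, ← hj] at hψ1
      exact hψ1 rfl
    have hi4 : i ≠ 4 := by
      rintro rfl
      refine Cfsg.Agent.H894.DefZero.notMem_principalBlock hM (χ 4) ?_ ?_ hψ
      · rw [hdeg]; decide
      · rw [hdeg]; exact h4
    refine ⟨χ i, hψ, ?_⟩
    rw [hdeg]
    revert hi0 hi4
    fin_cases i <;> decide

theorem card_range : Nat.card psi.range = 5859000000 := by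
  have h1 := psi.range.card_mul_index
  rw [index_range, card_ly] at h1
  have h2 : (0 : ℕ) < 8835156 := by norm_num
  refine Nat.eq_of_mul_eq_mul_right h2 (h1.trans ?_)
  norm_num

theorem ly_self {p : ℕ} [hp : Fact p.Prime] (hp2 : p ≠ 2) (hd : p ∣ Nat.card Spor.Ly) : EvAt p Spor.Ly := by
  have hm := H809.RealB0.prime_mem hp.out [(2, 8), (3, 7), (5, 6), (7, 1), (11, 1), (31, 1), (37, 1), (67, 1)] (by norm_num)
    (by rw [card_ly]; norm_num) hd
  simp only [List.map_cons, List.map_nil, List.mem_cons, List.not_mem_nil, or_false] at hm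
  rcases hm with rfl | rfl | rfl | rfl | rfl | rfl | rfl | rfl
  · exact absurd rfl hp2
  · exact evAt_of_nb Cfsg.Agent.H799.PB.Ly3.nb 1 (by decide) (by decide)
  · exact evAt_of_nb Cfsg.Agent.H799.PB.nb_five_ly 1 (by decide) (by decide)
  · exact evAt_of_real hp2 (H809.RealB0.Ly.real_of_alt hp2 (H661.Spor.Alt.hasReal_alt (by norm_num))) (by rw [card_ly]; norm_num)
  · exact evAt_of_vanish (by rw [card_range]; norm_num) hd (by rw [card_ly]; norm_num)
  · exact evAt_of_real hp2 H809.RealB0.Ly.real31 (by rw [card_ly]; norm_num)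
  · exact evAt_of_vanish (by rw [card_range]; norm_num) hd (by rw [card_ly]; norm_num)
  · exact evAt_of_vanish (by rw [card_range]; norm_num) hd (by rw [card_ly]; norm_num)

/-- **the row `Ly` of S4929** -/
theorem row_ly : SpRow fun K => Spor.IsoLy K := by
  intro K _ _ _ h p hp hp2 hd
  have : Finite Spor.Ly := finite_ly
  have : Fact p.Prime := ⟨hp⟩
  obtain ⟨e⟩ := h
  exact (ly_self hp2 (by rw [← Nat.card_congr e.toEquiv]; exact hd)).tr e.symm

end Cfsg.Agent.H646.EP.LyRow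
end

-- part: H87/EP/HN
section
/-!
# S4929, TEAM EVP: the row `HN` (helper87)

`|HN| = 2^14 * 3^6 * 5^6 * 7 * 11 * 19`.

* `p = 3`: the 9-cycles of `A12` are real and commute with no involution;
* `p = 5`: a product of two involutions of order 25, which commutes with no involution;
* `p = 7, 11`: cyclic Sylow subgroups and real elements of order `p`;
* `p = 19`: `|C(x)| = 19`, and the character of degree 8910.
-/

set_option autoImplicit false

namespace Cfsg.Agent.H87.EP.HN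

open Subgroup Cfsg Cfsg.Agent.H892.EP Cfsg.Agent.H453.OddM Cfsg.Agent.H217.Odm
open Cfsg.Agent.CpAutHN.Alt (A12 Φ Φ_inj cy)
open Equiv.Perm (mem_alternatingGroup)

/-- a real `p`-element which commutes with no involution -/
theorem evAt_of_no_two {G : Type} [Group G] [Finite G] {p : ℕ} [Fact p.Prime] (z : G)
    (hz : ∃ k : ℕ, orderOf z = p ^ k) (hz1 : z ≠ 1) (hr : IsConj z z⁻¹)
    (h2 : ∀ t : G, orderOf t = 2 → z * t = t * z → False) : EvAt p G := by
  intro M hM
  refine Cfsg.Agent.H809.Evn.exists_even_of_real_odd hM z hz hz1 hr rfl ?_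
  have h3 : Odd (Nat.card (centralizer ({z} : Set G))) := by
    rw [← Nat.not_even_iff_odd, even_iff_two_dvd]
    intro h
    have : Fact (Nat.Prime 2) := ⟨Nat.prime_two⟩
    obtain ⟨t, ht⟩ := exists_prime_orderOf_dvd_card' 2 h
    exact h2 t (by rw [orderOf_coe, ht]) (mem_centralizer_singleton_iff.1 t.2).symm
  exact h3.of_dvd_nat (index_dvd_card _)

/-- the 9-cycle -/
def nc : Equiv.Perm (Fin 12) := cy [0, 1, 2, 3, 4, 5, 6, 7, 8]
/-- a reflection -/
def rf : Equiv.Perm (Fin 12) := cy [0, 8] * cy [1, 7] * cy [2, 6] * cy [3, 5]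

theorem nc_mem : nc ∈ alternatingGroup (Fin 12) := by rw [mem_alternatingGroup]; decide +kernel
theorem rf_mem : rf ∈ alternatingGroup (Fin 12) := by rw [mem_alternatingGroup]; decide +kernel
theorem nc_nine : nc ^ 9 = 1 := by decide +kernel
theorem nc_three : nc ^ 3 ≠ 1 := by decide +kernel
theorem rf_nc : rf * nc * rf⁻¹ = nc⁻¹ := by decide +kernel

/-- the 9-cycle -/
def nA : A12 := ⟨nc, nc_mem⟩

/-- the reflection -/
def rA : A12 := ⟨rf, rf_mem⟩

theorem rA_nA : rA * nA * rA⁻¹ = nA⁻¹ := Subtype.ext rf_nc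

theorem three : EvAt 3 Spor.HN := by
  have hs : IsSimpleGroup Spor.HN := Cfsg.Agent.H755.CC.HNB.simple_G
  have hf : Finite Spor.HN := Cfsg.Agent.H755.CC.HNB.finite_G
  have : Fact (Nat.Prime 3) := ⟨Nat.prime_three⟩
  have h9 : nA ^ 9 = 1 := Subtype.ext (by rw [SubmonoidClass.coe_pow]; exact nc_nine)
  have h3 : nA ^ 3 ≠ 1 := fun h => nc_three (by
    have := congrArg Subtype.val h
    rwa [SubmonoidClass.coe_pow] at this)
  have hz9 : (Φ nA) ^ 9 = 1 := by rw [← map_pow, h9, map_one]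
  have hz3 : (Φ nA) ^ 3 ≠ 1 := fun h => h3 (Φ_inj (by rw [map_pow, h, map_one]))
  refine evAt_of_no_two (Φ nA) ?_ ?_ ?_ ?_
  · exact ⟨2, orderOf_eq_prime_pow hz3 hz9⟩
  · intro h
    exact hz3 (by rw [h, one_pow])
  · rw [isConj_iff]
    refine ⟨Φ rA, ?_⟩
    rw [← map_inv, ← map_inv, ← map_mul, ← map_mul, rA_nA]
  · intro t ht hc
    exact hz3 (Cfsg.Agent.H569.HNThree.exp_three ⟨2, hz9⟩ ht hc)

theorem five : EvAt 5 Spor.HN := by
  have hs : IsSimpleGroup Spor.HN := Cfsg.Agent.H755.CC.HNB.simple_G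
  have hf : Finite Spor.HN := Cfsg.Agent.H755.CC.HNB.finite_G
  have : Fact (Nat.Prime 5) := ⟨Nat.prime_five⟩
  obtain ⟨b, g, hb, ho⟩ := Cfsg.Agent.H525.RO.HnElt.exists_order
  refine evAt_of_no_two (b * (g⁻¹ * b * g)) ⟨2, by rw [ho]; norm_num⟩ ?_ ?_ ?_
  · intro h
    rw [h, orderOf_one] at ho
    omega
  · rw [isConj_iff]
    refine ⟨b, ?_⟩
    have hb' : b⁻¹ = b := (eq_inv_of_mul_eq_one_left hb).symm
    rw [mul_inv_rev, mul_inv_rev, mul_inv_rev, inv_inv, hb']
    calc b * (b * (g⁻¹ * b * g)) * b = (b * b) * (g⁻¹ * b * g) * b := by group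
      _ = g⁻¹ * (b * g) * b := by rw [hb]; group
  · intro t ht hc
    refine Cfsg.Agent.H755.CC.HNFive.no_sq (s := t) ?_ ?_ hc (by rw [ho]; norm_num)
    · rintro rfl
      rw [orderOf_one] at ht
      omega
    · rw [← pow_two, ← ht, pow_orderOf_eq_one]

theorem cz {G : Type*} [Group G] (x : G) : centralizer ((zpowers x : Subgroup G) : Set G) = centralizer ({x} : Set G) := by
  rw [zpowers_eq_closure, centralizer_closure]

theorem cyc {r : ℕ} [Fact r.Prime] {G : Type} [Group G] [Finite G] {n : ℕ} (hn : Nat.card G = r * n) (hr : n % r ≠ 0)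
    (P : Sylow r G) : IsCyclic (P : Subgroup G) := by
  have hrp : r.Prime := Fact.out
  refine isCyclic_of_prime_card (p := r) ?_
  rw [Sylow.card_eq_multiplicity, hn, Nat.factorization_mul hrp.ne_zero (fun h => by simp [h] at hr),
    Finsupp.add_apply, hrp.factorization_self, Nat.factorization_eq_zero_of_not_dvd (fun h => hr (Nat.mod_eq_zero_of_dvd h))]
  norm_num

theorem seven : EvAt 7 Spor.HN := by
  have hs : IsSimpleGroup Spor.HN := Cfsg.Agent.H755.CC.HNB.simple_G
  have hf : Finite Spor.HN := Cfsg.Agent.H755.CC.HNB.finite_G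
  have hc : Nat.card Spor.HN = 273030912000000 := Cfsg.Agent.H755.CC.HNB.card_G
  have : Fact (Nat.Prime 7) := ⟨by norm_num⟩
  have c7 : ∀ x : Spor.HN, orderOf x = 7 → Nat.card (centralizer ({x} : Set Spor.HN)) = 7 * 60 := by
    intro x hx
    have h1 : Nat.card (zpowers x) = 7 := by rw [Nat.card_zpowers, hx]
    rw [← cz]
    exact (H438.Fpr.HN.cn7 h1).1
  obtain ⟨x, hx, g, hg⟩ : RealP Spor.HN 7 := realP_of_cent (r := 7) (n := 273030912000000 / 7) (c := 60) (e := 6)
    (by norm_num) (by rw [hc]) (by norm_num) c7 (by norm_num) (by norm_num) (by decide)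
  exact evAt_of_real_cyclic (by norm_num) (cyc (n := 273030912000000 / 7) (by rw [hc]) (by norm_num)) hx
    (isConj_iff.2 ⟨g, hg⟩)

theorem eleven : EvAt 11 Spor.HN := by
  have hs : IsSimpleGroup Spor.HN := Cfsg.Agent.H755.CC.HNB.simple_G
  have hf : Finite Spor.HN := Cfsg.Agent.H755.CC.HNB.finite_G
  have hc : Nat.card Spor.HN = 273030912000000 := Cfsg.Agent.H755.CC.HNB.card_G
  have : Fact (Nat.Prime 11) := ⟨by norm_num⟩
  have c11 : ∀ x : Spor.HN, orderOf x = 11 → Nat.card (centralizer ({x} : Set Spor.HN)) = 11 * 2 := by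
    intro x hx
    have h1 : Nat.card (zpowers x) = 11 := by rw [Nat.card_zpowers, hx]
    rw [← cz]
    exact (H438.Fpr.HN.cn11 h1).1
  obtain ⟨x, hx, g, hg⟩ : RealP Spor.HN 11 := realP_of_cent (r := 11) (n := 273030912000000 / 11) (c := 2) (e := 10)
    (by norm_num) (by rw [hc]) (by norm_num) c11 (by norm_num) (by norm_num) (by decide)
  exact evAt_of_real_cyclic (by norm_num) (cyc (n := 273030912000000 / 11) (by rw [hc]) (by norm_num)) hx
    (isConj_iff.2 ⟨g, hg⟩)

theorem nineteen : EvAt 19 Spor.HN := by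
  have hs : IsSimpleGroup Spor.HN := Cfsg.Agent.H755.CC.HNB.simple_G
  have hf : Finite Spor.HN := Cfsg.Agent.H755.CC.HNB.finite_G
  have : Fact (Nat.Prime 19) := ⟨by norm_num⟩
  intro M hM
  obtain ⟨x, hx, hcx⟩ := Cfsg.Agent.H845.HNNineteen.hn_nineteen
  obtain ⟨χ, hχ⟩ := Cfsg.Agent.H399.Two.HN.deg_of Cfsg.Agent.H492.IMHN.exists_8910
  refine ⟨χ, Cfsg.Agent.H684.Principal.mem_of_not_dvd hM (U := zpowers x) ?_ ?_ χ ?_, ?_⟩
  · exact IsPGroup.of_card (n := 1) (by rw [Nat.card_zpowers, hx, pow_one])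
  · exact IsPGroup.of_card (n := 1) (by rw [cz, hcx, pow_one])
  · rw [hχ]; norm_num
  · rw [hχ]; norm_num

theorem ev : Ev Spor.HN := by
  intro p hp hp2 hd
  rw [Cfsg.Agent.H755.CC.HNB.card_G] at hd
  have h0 := Cfsg.Agent.H651.Two.prime_mem hp (L := [(2, 14), (3, 6), (5, 6), (7, 1), (11, 1), (19, 1)])
    (by norm_num) (N := 273030912000000) (by decide +kernel) hd
  simp only [List.map_cons, List.map_nil, List.mem_cons, List.not_mem_nil, or_false] at h0
  rcases h0 with rfl | rfl | rfl | rfl | rfl | rfl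
  · exact absurd rfl hp2
  · exact three
  · exact five
  · exact seven
  · exact eleven
  · exact nineteen

end Cfsg.Agent.H87.EP.HN

namespace Cfsg.Agent.H87.EP

open Cfsg.Agent.H892.EP

/-- **The row `HN`.** -/
theorem row_hn : SpRow fun K => Cfsg.Spor.IsoHN K := by
  intro K _ _ _ h
  obtain ⟨e⟩ := h
  have : Finite Cfsg.Spor.HN := Cfsg.Agent.H755.CC.HNB.finite_G
  exact Ev.tr e.symm HN.ev

end Cfsg.Agent.H87.EP
end

-- part: H892/EP/PcSp
section
/-!
# S4929: the sporadic rows, first part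
-/

set_option autoImplicit false

open Cfsg Cfsg.Agent.Characters.Core

namespace Cfsg.Agent.H892.EP

/-- the sporadic rows from the rows of `Fi₂₄'`, `B`, `M` -/
theorem spRows_of (fi24 : SpRow fun K => Spor.IsoFi24' K)
    (b : SpRow fun K => Spor.IsoB K) (m : SpRow fun K => Spor.IsoM K) : SpRows where
  m11 := Cfsg.Agent.H783.EP.row_m11
  m12 := Cfsg.Agent.H783.EP.row_m12
  m22 := Cfsg.Agent.H783.EP.row_m22
  m23 := fun K _ _ _ h => Cfsg.Agent.H733.EP.row_m23 K h
  m24 := fun K _ _ _ h => Cfsg.Agent.H733.EP.row_m24 K h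
  j1 := Cfsg.Agent.H528.EP.row_j1
  j2 := Cfsg.Agent.H528.EP.row_j2
  j3 := Cfsg.Agent.H273.EP.row_j3
  j4 := fun K _ _ _ h => Cfsg.Agent.H472.EP.row_j4 K h
  co1 := fun K _ _ _ h => Cfsg.Agent.H472.EP.row_co1 K h
  co2 := Cfsg.Agent.H217.EP.Co2.row_co2
  co3 := Cfsg.Agent.H217.EP.Co3.row_co3
  mcl := Cfsg.Agent.H592.EP.row_mcl
  hs := Cfsg.Agent.H877.EP.row_hs
  suz := Cfsg.Agent.H710.EP.row_suz
  he := Cfsg.Agent.H541.EP.row_he
  ru := Cfsg.Agent.H541.EP.row_ru
  on := Cfsg.Agent.H434.EP.row_on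
  ly := Cfsg.Agent.H646.EP.LyRow.row_ly
  fi22 := Cfsg.Agent.H481.EP.row_fi22
  fi23 := Cfsg.Agent.H592.EP.row_fi23
  fi24 := fi24
  hn := Cfsg.Agent.H87.EP.row_hn
  th := Cfsg.Agent.H877.EP.row_th
  b := b
  m := m

end Cfsg.Agent.H892.EP
end

private theorem dce_ce8f81e0814a : _root_.True := by
  try have : _root_.True := by simp only [_root_.Cfsg.Agent.H217.EP.Co3.w7.eq_1]
  try have : _root_.True := by simp only [_root_.Cfsg.Agent.H217.EP.Co3.w7'.eq_1]
  exact _root_.True.intro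
end
end
end
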