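import Cfsg.Agent.H892.EP.TM_m3
import Cfsg.Agent.ClassicalGeometry.AutPSL.SylowU
import Cfsg.Agent.KFacts.RgdSyl
import Cfsg.Agent.Nodes.WittU
import Cfsg.Agent.FixBN.WittNodeD_m3
import Cfsg.Agent.H510.OA.Chev
import Cfsg.Agent.H951.Sub
import Cfsg.Agent.H862.T5.OBase
import Cfsg.Agent.AutOrth.Main
import Cfsg.Agent.H892.EP.Good_m3
import Cfsg.Agent.Nodes.NormalForm
import Cfsg.Agent.Nodes.RGDLib
import Cfsg.Agent.H162.GaussExc
import Cfsg.Agent.Nodes.RGDTwNode
import Cfsg.Agent.Nodes.RGDTwActE6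
import Cfsg.Agent.ChevalleyStructure.HMatDiagAll
import Cfsg.Agent.H537.EP.TACl_mg_m3
import Cfsg.Agent.H743.EP.TwF
import Cfsg.Agent.Nodes.StabComb
import Cfsg.Agent.Nodes.WittInst
import Cfsg.Agent.H716.RGDAbMinus
import Cfsg.Agent.H396.CommTab4
import Cfsg.Agent.H519.Dl.WittTor
import Cfsg.Agent.H314.RatB.OPlus
import Cfsg.Agent.H592.EP.Norm_m3
import Cfsg.Agent.H892.EP.Chain_m3
import Cfsg.Agent.H892.EP.PcSp_m3
import Cfsg.Agent.H410.RealTw
import Cfsg.Agent.H315.RatB0.SzRee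
import Cfsg.Agent.FastGrp
import Cfsg.Agent.Prune
set_option linter.all false

section
prune_inst 0x7ffcfdf8abb83ddfdfff7fffa6decffcf9e12fffe6dff943bfe0a18f0bdf5b02c9e5fb8d8fe010fe0ec3621414f87b53f9fffeffe26bdc7ffffd5ff41ffbffcfedf7b50851f68c340fbc0fff03f0778e7f3fffffffffffffffffffffffffffbeffbfffffffff

-- part: H892/EP/PcPU
section
prune_inst 0x100031040000000000000000000010018100000000088000000600000000000000000000002000000000000000000040000000000000000000000000000000000000000000000000000000000000000000000000000000000000000000000000000000000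
set_option linter.all false
open scoped Cfsg.Agent.FastGrp

-- part: H724/EP/PslPar
section
/-!
# Parity of degrees for `PSL_n(q)`, `n ≥ 3`, `q` odd (S4929, piece [PU-PSL], helper724)
-/

set_option autoImplicit false
set_option linter.unusedSectionVars false

namespace Cfsg.Agent.H724.EP

open Matrix Cfsg.Agent.H892.EP
open Cfsg.Agent.ClassicalGeometry.AutPSL.Root Cfsg.Agent.ClassicalGeometry.AutPSL.SylowU

variable {F : Type} [Field F] {n : ℕ}

/-- the diagonal matrices with entries `± 1` -/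
def sgnG (n : ℕ) (F : Type) [Field F] : Subgroup (Matrix.SpecialLinearGroup (Fin n) F) where
  carrier := {g | ∃ s : Fin n → F, (∀ i, s i * s i = 1) ∧ (g : Matrix (Fin n) (Fin n) F) = diagonal s}
  one_mem' := ⟨fun _ => 1, fun _ => one_mul 1, by rw [Matrix.SpecialLinearGroup.coe_one]; rfl⟩
  mul_mem' := by
    rintro g g' ⟨s, hs, h⟩ ⟨s', hs', h'⟩
    refine ⟨fun i => s i * s' i, fun i => ?_, by rw [Matrix.SpecialLinearGroup.coe_mul, h, h', diagonal_mul_diagonal]⟩
    linear_combination s' i * s' i * hs i + hs' i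
  inv_mem' := by
    rintro g ⟨s, hs, h⟩
    have h1 : g * g = 1 := by
      apply Subtype.ext
      rw [Matrix.SpecialLinearGroup.coe_mul, h, diagonal_mul_diagonal, Matrix.SpecialLinearGroup.coe_one]
      simp only [hs]
      rfl
    rw [inv_eq_of_mul_eq_one_left h1]
    exact ⟨s, hs, h⟩

theorem sgnG_mul_self {g : Matrix.SpecialLinearGroup (Fin n) F} (hg : g ∈ sgnG n F) : g * g = 1 := by
  obtain ⟨s, hs, h⟩ := hg
  apply Subtype.ext
  rw [Matrix.SpecialLinearGroup.coe_mul, h, diagonal_mul_diagonal, Matrix.SpecialLinearGroup.coe_one]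
  simp only [hs]
  rfl

theorem sgnG_conj {g u : Matrix.SpecialLinearGroup (Fin n) F} {s : Fin n → F} (hs : ∀ i, s i * s i = 1)
    (h : (g : Matrix (Fin n) (Fin n) F) = diagonal s) (i j : Fin n) :
    ((g * u * g⁻¹ : Matrix.SpecialLinearGroup (Fin n) F) : Matrix (Fin n) (Fin n) F) i j = s i * u.1 i j * s j := by
  have h1 : g⁻¹ = g := inv_eq_of_mul_eq_one_left (sgnG_mul_self ⟨s, hs, h⟩)
  rw [h1, Matrix.SpecialLinearGroup.coe_mul, Matrix.SpecialLinearGroup.coe_mul, h, Matrix.mul_diagonal,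
    Matrix.diagonal_mul]

theorem conj_mem_upper [Finite F] {g u : Matrix.SpecialLinearGroup (Fin n) F} (hg : g ∈ sgnG n F)
    (hu : u ∈ upper n F) : g * u * g⁻¹ ∈ upper n F := by
  obtain ⟨s, hs, h⟩ := hg
  intro i j hij
  rw [sgnG_conj hs h, hu i j hij]
  split_ifs with h1
  · subst h1
    rw [mul_one, hs]
  · rw [mul_zero, zero_mul]

variable [Fintype F] {r : ℕ} [Fact r.Prime] [CharP F r]

/-- **[PU-PSL]** -/
theorem pu_psl (hr : r ≠ 2) {n : ℕ} (hn : 3 ≤ n) : ParU r (ProjectiveSpecialLinearGroup (Fin n) F) := by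
  have hfin : Finite (ProjectiveSpecialLinearGroup (Fin n) F) := Quotient.finite _
  have h2 : (2 : F) ≠ 0 := by
    intro h
    have h1 : r ∣ 2 := by
      rw [← CharP.cast_eq_zero_iff F r 2]
      exact_mod_cast h
    exact hr ((Nat.prime_dvd_prime_iff_eq (Fact.out : r.Prime) Nat.prime_two).1 h1)
  obtain ⟨S, hS⟩ := exists_sylow (F := F) n r
  refine parU_of_inv2 hr ⟨S, (sgnG n F).map pr, ?_, ?_, ?_⟩
  · rintro ⟨_, g, hg, rfl⟩
    refine ⟨1, Subtype.ext ?_⟩
    show (pr g) ^ 2 ^ 1 = 1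
    rw [pow_one, ← map_pow, pow_two, sgnG_mul_self hg, map_one]
  · rintro _ ⟨g, hg, rfl⟩
    rw [hS, Subgroup.mem_normalizer_iff]
    have key : ∀ g ∈ sgnG n F, ∀ u ∈ (upper n F).map pr, pr g * u * (pr g)⁻¹ ∈ (upper n F).map pr := by
      rintro g hg _ ⟨u, hu, rfl⟩
      exact ⟨g * u * g⁻¹, conj_mem_upper hg hu, by rw [map_mul, map_mul, map_inv]⟩
    intro u
    refine ⟨fun hu => key g hg u hu, fun hu => ?_⟩
    have h3 := key g⁻¹ (inv_mem hg) _ hu
    rw [map_inv] at h3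
    have h4 : (pr g)⁻¹ * (pr g * u * (pr g)⁻¹) * (pr g)⁻¹⁻¹ = u := by group
    rwa [h4] at h3
  · intro u hu hfix
    rw [hS] at hu
    obtain ⟨u, hu, rfl⟩ := hu
    have key : ∀ g ∈ sgnG n F, g * u * g⁻¹ = u := by
      intro g hg
      refine pr_injOn_upper (conj_mem_upper hg hu) hu ?_
      rw [map_mul, map_mul, map_inv, hfix _ ⟨g, hg, rfl⟩, mul_inv_cancel_right]
    suffices h3 : u = 1 by rw [h3, map_one]
    apply Subtype.ext
    ext i j
    rw [Matrix.SpecialLinearGroup.coe_one]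
    by_cases hij : i = j
    · subst hij
      rw [one_apply_eq, hu i i le_rfl, if_pos rfl]
    · rw [one_apply_ne hij]
      -- a third index
      obtain ⟨k, hki, hkj⟩ : ∃ k : Fin n, k ≠ i ∧ k ≠ j := by
        by_contra hcon
        push Not at hcon
        have h4 : (Finset.univ : Finset (Fin n)) ⊆ {i, j} := by
          intro k _
          rw [Finset.mem_insert, Finset.mem_singleton]
          by_cases h5 : k = i
          · exact Or.inl h5
          · exact Or.inr (hcon k h5)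
        have h5 := Finset.card_le_card h4
        rw [Finset.card_univ, Fintype.card_fin] at h5
        have h6 := Finset.card_le_two (a := i) (b := j)
        omega
      let s : Fin n → F := fun l => if l = i ∨ l = k then -1 else 1
      have hs : ∀ l, s l * s l = 1 := by
        intro l
        simp only [s]
        split_ifs <;> ring
      have hdet : (diagonal s).det = 1 := by
        rw [det_diagonal]
        have h4 : ∏ l, s l = ∏ l ∈ ({i, k} : Finset (Fin n)), s l := by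
          symm
          apply Finset.prod_subset (Finset.subset_univ _)
          intro l _ hl
          rw [Finset.mem_insert, Finset.mem_singleton] at hl
          exact if_neg hl
        rw [h4, Finset.prod_pair (Ne.symm hki)]
        simp only [s, true_or, or_true, if_true]
        ring
      let D : Matrix.SpecialLinearGroup (Fin n) F := ⟨diagonal s, hdet⟩
      have hD : (D : Matrix (Fin n) (Fin n) F) = diagonal s := rfl
      have h4 : ((D * u * D⁻¹ : Matrix.SpecialLinearGroup (Fin n) F) : Matrix (Fin n) (Fin n) F) i j =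
          (u : Matrix (Fin n) (Fin n) F) i j := by rw [key D ⟨s, hs, hD⟩]
      rw [sgnG_conj hs hD] at h4
      have h5 : s i = -1 := if_pos (Or.inl rfl)
      have h6 : s j = 1 := if_neg (by rintro (h7 | h7); exacts [hij h7.symm, hkj h7.symm])
      rw [h5, h6] at h4
      have h7 : 2 * (u : Matrix (Fin n) (Fin n) F) i j = 0 := by linear_combination -h4
      exact (mul_eq_zero.1 h7).resolve_left h2

end Cfsg.Agent.H724.EP
end

-- part: H724/EP/InvRgd
section
/-!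
# Parity of degrees from a root group datum (S4929, helper724)

* `inv2_of_rgd`, `parU_of_rgd` : if the torus is abelian and its elements of order a power of two have no common
  nontrivial fixed element in the SIMPLE root groups, then `Inv2 r Y` and `ParU r Y` hold.
-/

set_option autoImplicit false
set_option linter.unusedSectionVars false

open CoxeterSystem Cfsg.Agent.ChevalleyStructure.CoxeterGeom Cfsg.Agent.Tits.Roots Cfsg.Agent.Tits.Core
  Cfsg.Agent.Tits.Exchange Cfsg.Agent.Nodes.Reps Cfsg.Agent.Nodes.BNOf Cfsg.Agent.Nodes.StabComb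
  Cfsg.Agent.Nodes.Bruhat Cfsg.Agent.Nodes.OppDec Cfsg.Agent.Nodes.LeviDec Cfsg.Agent.H892.EP

namespace Cfsg.Agent.H724.EP

/-- the elements of the abelian group `T` of order a power of two -/
def twoPart {Y : Type*} [Group Y] (T : Subgroup Y) (hT : ∀ a ∈ T, ∀ b ∈ T, a * b = b * a) : Subgroup Y where
  carrier := {a | a ∈ T ∧ ∃ k : ℕ, a ^ 2 ^ k = 1}
  one_mem' := ⟨one_mem T, 0, one_pow _⟩
  mul_mem' := by
    rintro a b ⟨ha, k, hk⟩ ⟨hb, l, hl⟩
    refine ⟨mul_mem ha hb, k + l, ?_⟩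
    rw [Commute.mul_pow (hT a ha b hb), pow_add, pow_mul, hk, one_pow, one_mul, mul_comm, pow_mul, hl, one_pow]
  inv_mem' := by
    rintro a ⟨ha, k, hk⟩
    exact ⟨inv_mem ha, k, by rw [inv_pow, hk, inv_one]⟩

universe u

variable {I W : Type*} {Y : Type u} [Fintype I] [DecidableEq I] [Group W] [Group Y] {M : CoxeterMatrix I}
  {cs : CoxeterSystem M W} {A : I → I → ℤ} {h : IsCartan M A} {r : ℕ} {T : Subgroup Y} {n : I → Y}
  {X : (I → ℤ) → Subgroup Y}

/-- **The criterion**: only the simple root groups have to be checked. -/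
theorem inv2_of_rgd [Finite W] [Finite Y] [Fact r.Prime] (R : RGD cs h r T n X)
    (hG : Cfsg.Agent.Nodes.RGDLib.G1 cs h X = ⊤) (hT : ∀ a ∈ T, ∀ b ∈ T, a * b = b * a)
    (hx : ∀ i, ∀ u ∈ X (sr i), (∀ a ∈ T, (∃ k : ℕ, a ^ 2 ^ k = 1) → a * u = u * a) → u = 1) : Inv2 r Y := by
  have hGG : GG cs h T X = ⊤ := by
    rw [eq_top_iff, ← hG]
    exact le_sup_right
  obtain ⟨U, hU⟩ : ∃ S : Sylow r Y, (S : Subgroup Y) = RGD.Sup X (RGD.Pos cs h) := by
    have h1 := KFacts.RgdSyl.not_dvd_relIndex R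
    rw [hGG, Subgroup.relIndex_top_right] at h1
    exact ⟨R.isPGroup_Upos.toSylow h1, rfl⟩
  refine ⟨U, twoPart T hT, ?_, ?_, ?_⟩
  · rintro ⟨a, ha, k, hk⟩
    exact ⟨k, Subtype.ext hk⟩
  · intro a ha
    rw [hU]
    exact R.T_le_normalizer_U ha.1
  · intro u hu hfix
    rw [hU] at hu
    have h1 : u ∈ RGD.Sup X (RGD.Pos cs h) ⊓ Subgroup.centralizer (twoPart T hT : Set Y) :=
      ⟨hu, Subgroup.mem_centralizer_iff.2 hfix⟩
    rw [Cfsg.Agent.Nodes.NormalForm.centralizer_U R (fun a ha => ha.1)] at h1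
    have h2 : RGD.Sup (fun x => X x ⊓ Subgroup.centralizer (twoPart T hT : Set Y)) (RGD.Pos cs h) ≤ ⊥ := by
      refine RGD.Sup_le ?_
      rintro x ⟨⟨w, i, rfl⟩, -⟩ v ⟨hv, hc⟩
      obtain ⟨g, hg⟩ := exists_rp cs R.nsys w
      have h3 := R.conj_mem' hg ((isRoot_sr cs h i).act w) hv
      rw [rep_inv_apply] at h3
      have h4 := hx i _ h3 fun a ha hk => by
        obtain ⟨k, hk⟩ := hk
        have h5 : g * a * g⁻¹ ∈ twoPart T hT := by
          refine ⟨(Subgroup.mem_normalizer_iff.1 hg.mem_normalizer a).1 ha, k, ?_⟩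
          rw [conj_pow, hk, mul_one, mul_inv_cancel]
        have h6 := Subgroup.mem_centralizer_iff.1 hc _ h5
        calc a * (g⁻¹ * v * g) = g⁻¹ * (g * a * g⁻¹ * v) * g := by group
          _ = g⁻¹ * (v * (g * a * g⁻¹)) * g := by rw [h6]
          _ = g⁻¹ * v * g * a := by group
      rw [Subgroup.mem_bot]
      have h7 : v = g * (g⁻¹ * v * g) * g⁻¹ := by group
      rw [h7, h4, mul_one, mul_inv_cancel]
    exact (Subgroup.mem_bot.1 (h2 h1))

theorem parU_of_rgd [Finite W] [Finite Y] [Fact r.Prime] (hr : r ≠ 2) (R : RGD cs h r T n X)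
    (hG : Cfsg.Agent.Nodes.RGDLib.G1 cs h X = ⊤) (hT : ∀ a ∈ T, ∀ b ∈ T, a * b = b * a)
    (hx : ∀ i, ∀ u ∈ X (sr i), (∀ a ∈ T, (∃ k : ℕ, a ^ 2 ^ k = 1) → a * u = u * a) → u = 1) : ParU r Y :=
  parU_of_inv2 hr (inv2_of_rgd R hG hT hx)

end Cfsg.Agent.H724.EP
end

-- part: H724/EP/WittPar
section
/-!
# Parity for the models of Witt frames (S4929, helper724)

* `conj_eq_of_comm` : a torus element commuting with a root element modulo the kernel commutes with it;
* `hh x y t` : the torus element `nX x y t * nX x y (-1)`; `hh_apply_*`, `hh_pow`, `hh_mem`;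
* `X_of_hh`, `Z_of_hh` : the root elements commuting with `hh x y t`.
-/

set_option autoImplicit false
set_option linter.unusedSectionVars false

namespace Cfsg.Agent.H724.EP

open Cfsg Cfsg.Agent.ChevalleyStructure.CoxeterGeom Cfsg.Agent.Tits.Roots Cfsg.Agent.Nodes.TypeC
open Cfsg.Agent.Nodes.Comb Cfsg.Agent.Nodes.Reps Cfsg.Agent.Nodes.WittRoot Cfsg.Agent.Nodes.BNOf
open Cfsg.Agent.Nodes.WittRGD Cfsg.Agent.Nodes.RGDLib
open Cfsg.Agent.TitsThree Cfsg.Agent.TitsThree.Siegel Cfsg.Agent.TitsThree.WittFrame Cfsg.Agent.TitsThree.WittWeyl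
  Cfsg.Agent.TitsThree.FrameCN

variable {F : Type*} [Field F] {V : Type*} [AddCommGroup V] [Module F V] {H : HForm F V} {n : ℕ}
  {Fr : Frame H (Fin n)} {G0 : Subgroup (V ≃ₗ[F] V)}

/-- A torus element commuting with a root element modulo the kernel commutes with it. -/
theorem conj_eq_of_comm {K : Type*} [Group K] (M : Model Fr K) [Finite V] {p : ℕ} [Fact p.Prime] [CharP F p]
    (hA : Amb Fr M.I) {a b : Fin n × Bool} (hab : Ok a b) {g t : V ≃ₗ[F] V} (hg : g ∈ PG Fr a b) (hgI : g ∈ M.I)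
    (ht : t ∈ Tor Fr M.I) (h : M.φ ⟨t, ht.1⟩ * M.φ ⟨g, hgI⟩ = M.φ ⟨g, hgI⟩ * M.φ ⟨t, ht.1⟩) : t * g * t⁻¹ = g := by
  have hfin : Finite (V ≃ₗ[F] V) := Finite.of_injective (fun g : V ≃ₗ[F] V => (g : V → V)) DFunLike.coe_injective
  have h1 : t * g * t⁻¹ ∈ PG Fr a b := by
    rw [← hA.cj_id ht.1 ht.2 hab]
    exact conj_mem_cj.2 hg
  have h2 : t * g * t⁻¹ * g⁻¹ ∈ PG Fr a b := mul_mem h1 (inv_mem hg)
  set! z := t * g * t⁻¹ * g⁻¹ with hz; rewrite [← hz] at h2
  have hzI : z ∈ M.I := hA.PG_le h2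
  have hk : M.φ ⟨z, hzI⟩ = 1 := by
    have e : (⟨z, hzI⟩ : M.I) = ⟨t, ht.1⟩ * ⟨g, hgI⟩ * ⟨t, ht.1⟩⁻¹ * ⟨g, hgI⟩⁻¹ := rfl
    rw [e, map_mul, map_mul, map_mul, map_inv, map_inv, h]
    group
  have hT : z ∈ Tor Fr M.I := by
    refine ⟨hzI, fun x => ?_⟩
    obtain ⟨l, hl⟩ := M.ker (Fr.b x) ⟨z, hzI⟩ hk
    refine ⟨l, ?_, hl⟩
    rintro rfl
    rw [zero_smul] at hl
    exact b_ne_zero x (z.map_eq_zero_iff.1 hl)
  obtain ⟨k, hk'⟩ := (isPGroup_PG (p := p) (Fr := Fr) a b) ⟨z, h2⟩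
  have h3 : z ^ p ^ k = 1 := congrArg Subtype.val hk'
  have h4 : z ^ Nat.card (Tor Fr M.I) = 1 := by
    have := pow_card_eq_one' (x := (⟨z, hT⟩ : Tor Fr M.I))
    exact congrArg Subtype.val this
  have h5 : orderOf z ∣ 1 := by
    have h6 : (Nat.card (Tor Fr M.I)).Coprime (p ^ k) := (tcop (p := p) hA).pow_right k
    rw [← h6]
    exact Nat.dvd_gcd (orderOf_dvd_of_pow_eq_one h4) (orderOf_dvd_of_pow_eq_one h3)
  have h6 : z = 1 := orderOf_eq_one_iff.1 (Nat.dvd_one.1 h5)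
  rw [hz] at h6
  exact mul_inv_eq_one.1 h6

/-! ### Diagonal elements -/

theorem pow_apply_of {g : V ≃ₗ[F] V} {v : V} {l : F} (h : g v = l • v) (m : ℕ) : (g ^ m) v = l ^ m • v := by
  induction m with
  | zero => rw [pow_zero, pow_zero, one_smul]; rfl
  | succ m ih => rw [pow_succ, mul_apply', h, map_smul, ih, smul_smul, pow_succ, mul_comm]

theorem pow_eq_one_of (hA : Amb Fr G0) {g : V ≃ₗ[F] V} {m : ℕ}
    (hb : ∀ z, ∃ l : F, g (Fr.b z) = l • Fr.b z ∧ l ^ m = 1) (h0 : ∀ w ∈ Fr.V0, ∃ l : F, g w = l • w ∧ l ^ m = 1) :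
    g ^ m = 1 := by
  refine Cfsg.Agent.Nodes.WittRGD.Amb.eq_one_of_fix hA (fun z => ?_) fun w hw => ?_
  · obtain ⟨l, h1, h2⟩ := hb z
    rw [pow_apply_of h1, h2, one_smul]
  · obtain ⟨l, h1, h2⟩ := h0 w hw
    rw [pow_apply_of h1, h2, one_smul]

variable (Fr) in
/-- the torus element of a pair -/
def hh (x y : Fin n × Bool) (t : F) : V ≃ₗ[F] V := nX Fr x y t * nX Fr x y (-1)

section hh

variable {x y : Fin n × Bool} (h : x.1 ≠ y.1) {t : F} (ht : t ≠ 0)

include h ht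

theorem hh_apply : hh Fr x y t (Fr.b x) = t • Fr.b x := by
  rw [hh, mul_apply', nX_apply_self Fr h (neg_ne_zero.2 one_ne_zero), map_neg, map_smul, nX_apply_neg Fr h ht]
  module

theorem hh_apply_neg : hh Fr x y t (Fr.b (neg x)) = (H.σ t)⁻¹ • Fr.b (neg x) := by
  have h1 := Fr.η_ne x
  have h2 := Fr.η_ne y
  have h3 := H.ε_ne
  have h4 : H.σ t ≠ 0 := by simpa using ht
  rw [hh, mul_apply', nX_apply_neg' Fr h (neg_ne_zero.2 one_ne_zero), map_neg, map_smul, nX_apply_self' Fr h ht,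
    map_neg, map_one]
  match_scalars
  field_simp

theorem hh_apply' : hh Fr x y t (Fr.b y) = H.σ t • Fr.b y := by
  have h1 := Fr.η_ne x
  have h2 := Fr.η_ne y
  have h3 := H.ε_ne
  have h4 : H.σ t ≠ 0 := by simpa using ht
  rw [hh, mul_apply', nX_apply_self' Fr h (neg_ne_zero.2 one_ne_zero), map_smul, nX_apply_neg' Fr h ht,
    map_neg, map_one]
  match_scalars
  field_simp

theorem hh_apply_neg' : hh Fr x y t (Fr.b (neg y)) = t⁻¹ • Fr.b (neg y) := by
  rw [hh, mul_apply', nX_apply_neg Fr h (neg_ne_zero.2 one_ne_zero), map_smul, nX_apply_self Fr h ht]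
  module

omit ht in
theorem hh_apply_of_ne {z : Fin n × Bool} (h1 : z.1 ≠ x.1) (h2 : z.1 ≠ y.1) : hh Fr x y t (Fr.b z) = Fr.b z := by
  rw [hh, mul_apply', nX_apply_of_ne Fr h h1 h2, nX_apply_of_ne Fr h h1 h2]

omit ht in
theorem hh_apply_V0 {v : V} (hv : v ∈ Fr.V0) : hh Fr x y t v = v := by
  rw [hh, mul_apply', nX_apply_V0 Fr h hv, nX_apply_V0 Fr h hv]

theorem hh_apply_b {m : ℕ} (hm : t ^ m = 1) (z : Fin n × Bool) :
    ∃ l : F, l ≠ 0 ∧ hh Fr x y t (Fr.b z) = l • Fr.b z ∧ l ^ m = 1 := by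
  have h4 : H.σ t ≠ 0 := by simpa using ht
  have h5 : H.σ t ^ m = 1 := by rw [← map_pow, hm, map_one]
  by_cases h1 : z.1 = x.1
  · rcases eq_or_ng h1 with rfl | rfl
    · exact ⟨t, ht, hh_apply h ht, hm⟩
    · exact ⟨(H.σ t)⁻¹, inv_ne_zero h4, hh_apply_neg h ht, by rw [inv_pow, h5, inv_one]⟩
  by_cases h2 : z.1 = y.1
  · rcases eq_or_ng h2 with rfl | rfl
    · exact ⟨H.σ t, h4, hh_apply' h ht, h5⟩
    · exact ⟨t⁻¹, inv_ne_zero ht, hh_apply_neg' h ht, by rw [inv_pow, hm, inv_one]⟩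
  · exact ⟨1, one_ne_zero, by rw [hh_apply_of_ne h h1 h2, one_smul], one_pow m⟩

theorem hh_mem (hA : Amb Fr G0) : hh Fr x y t ∈ Tor Fr G0 := by
  refine ⟨mul_mem (nX_mem hA _ _ _) (nX_mem hA _ _ _), fun z => ?_⟩
  obtain ⟨l, hl, h1, -⟩ := hh_apply_b h ht (Fr := Fr) (pow_zero t) z
  exact ⟨l, hl, h1⟩

theorem hh_pow (hA : Amb Fr G0) {m : ℕ} (hm : t ^ m = 1) : hh Fr x y t ^ m = 1 := by
  refine pow_eq_one_of hA (fun z => ?_) fun w hw => ⟨1, by rw [hh_apply_V0 h hw, one_smul], one_pow m⟩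
  obtain ⟨l, -, h1, h2⟩ := hh_apply_b h ht (Fr := Fr) hm z
  exact ⟨l, h1, h2⟩

theorem X_eq_iff {s s' : F} : Fr.X x y s = Fr.X x y s' ↔ s = s' := by
  refine ⟨fun h1 => ?_, fun h1 => by rw [h1]⟩
  have h2 := congrArg (fun g : V ≃ₗ[F] V => g (Fr.b (neg y))) h1
  simp only [X_apply_neg Fr h] at h2
  have h3 := add_left_cancel h2
  have h4 : (s - s') • Fr.b x = 0 := by rw [sub_smul, h3, sub_self]
  exact sub_eq_zero.1 ((smul_eq_zero.1 h4).resolve_right (b_ne_zero x))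

/-- the root elements `X x y s` commuting with `hh x y t` are trivial if `t ^ 2 ≠ 1` -/
theorem X_of_hh (ht2 : t ^ 2 ≠ 1) {s : F} (hc : hh Fr x y t * Fr.X x y s * (hh Fr x y t)⁻¹ = Fr.X x y s) :
    Fr.X x y s = 1 := by
  have h1 : hh Fr x y t * Fr.X x y s * (hh Fr x y t)⁻¹ = Fr.X x y (t ^ 2 * s) := by
    rw [hh, mul_inv_rev]
    have e : nX Fr x y t * nX Fr x y (-1) * Fr.X x y s * ((nX Fr x y (-1))⁻¹ * (nX Fr x y t)⁻¹) =
        nX Fr x y t * (nX Fr x y (-1) * Fr.X x y s * (nX Fr x y (-1))⁻¹) * (nX Fr x y t)⁻¹ := by group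
    rw [e, nX_conj_X Fr h (neg_ne_zero.2 one_ne_zero), nX_conj_X_neg Fr h ht]
    congr 1
    field_simp
  rw [h1, X_eq_iff h ht] at hc
  have h2 : (t ^ 2 - 1) * s = 0 := by linear_combination hc
  rw [(mul_eq_zero.1 h2).resolve_left (sub_ne_zero.2 ht2), Fr.X_zero]

omit h ht in
theorem Z_eq_iff {x : Fin n × Bool} {p p' : Fr.Adm} : Fr.Z x p = Fr.Z x p' ↔ p = p' := by
  refine ⟨fun h1 => ?_, fun h1 => by rw [h1]⟩
  have h2 := congrArg (fun g : V ≃ₗ[F] V => g (Fr.b (neg x))) h1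
  simp only [Z_apply_neg Fr] at h2
  -- pair with `b (neg x)`
  have h3 := congrArg (fun v => H.h v (Fr.b (neg x))) h2
  have h4 : H.h (Fr.b x) (Fr.b (neg x)) ≠ 0 := by
    have h5 := Fr.hb_neg_self (neg x)
    rw [WittFrame.neg_neg] at h5
    rw [h5]
    exact Fr.η_ne _
  simp only [H.add_left, H.smul_left, Fr.h0' _ (Fr.ok_mem p.ok), Fr.h0' _ (Fr.ok_mem p'.ok), mul_zero, add_zero] at h3
  have h5 := mul_right_cancel₀ h4 (add_left_cancel h3)
  have hc : p.c = p'.c := mul_right_cancel₀ (Fr.η_ne x) h5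
  rw [hc] at h2
  have h6 := add_left_cancel (add_right_cancel h2)
  have hw : p.w = p'.w := smul_right_injective _ (Fr.η_ne x) h6
  exact Frame.Adm.ext hw hc

/-- the root elements `Z (neg y) p` commuting with `hh x y t` are trivial if `t ≠ 1`, `t σ(t) ≠ 1` -/
theorem Z_of_hh (ht1 : t ≠ 1) (ht2 : t * H.σ t ≠ 1) {p : Fr.Adm}
    (hc : hh Fr x y t * Fr.Z (neg y) p * (hh Fr x y t)⁻¹ = Fr.Z (neg y) p) : Fr.Z (neg y) p = 1 := by
  have h4 : H.σ t ≠ 0 := by simpa using ht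
  have h1 : hh Fr x y t * Fr.Z (neg y) p * (hh Fr x y t)⁻¹ = Fr.Z (neg y) (Frame.Adm.smul (H.σ t)⁻¹ p) := by
    rw [hh, mul_inv_rev]
    have e : nX Fr x y t * nX Fr x y (-1) * Fr.Z (neg y) p * ((nX Fr x y (-1))⁻¹ * (nX Fr x y t)⁻¹) =
        nX Fr x y t * (nX Fr x y (-1) * Fr.Z (neg y) p * (nX Fr x y (-1))⁻¹) * (nX Fr x y t)⁻¹ := by group
    rw [e, nX_conj_Z_neg Fr h (neg_ne_zero.2 one_ne_zero), nX_conj_Z Fr h ht, Frame.Adm.smul_smul]
    congr 2
    rw [map_neg, map_one]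
    ring
  rw [h1, Z_eq_iff] at hc
  have hw : (H.σ t)⁻¹ • p.w = p.w := congrArg Frame.Adm.w hc
  have hcc : (H.σ t)⁻¹ * H.σ (H.σ t)⁻¹ * p.c = p.c := congrArg Frame.Adm.c hc
  rw [map_inv₀, H.σσ] at hcc
  have hw0 : p.w = 0 := by
    have h5 : ((H.σ t)⁻¹ - 1) • p.w = 0 := by rw [sub_smul, hw, one_smul, sub_self]
    refine (smul_eq_zero.1 h5).resolve_left fun h6 => ht1 ?_
    have h7 : H.σ t = 1 := by rw [← inv_inv (H.σ t), sub_eq_zero.1 h6, inv_one]
    have h8 := congrArg H.σ h7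
    rwa [H.σσ, map_one] at h8
  have hc0 : p.c = 0 := by
    have h5 : ((H.σ t)⁻¹ * t⁻¹ - 1) * p.c = 0 := by linear_combination hcc
    refine (mul_eq_zero.1 h5).resolve_left fun h6 => ht2 ?_
    have h7 := sub_eq_zero.1 h6
    field_simp at h7
    rw [mul_comm]
    exact h7.symm
  have h9 : p = 1 := Frame.Adm.ext hw0 hc0
  rw [h9, Fr.Z_one]

end hh

end Cfsg.Agent.H724.EP
end

-- part: H724/EP/PsuPar
section
/-!
# Parity of degrees for `PSU_n(q)`, `n ≥ 3`, `q` odd (S4929, piece [PU-PSU], helper724)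
-/

set_option autoImplicit false
set_option linter.unusedSectionVars false

namespace Cfsg.Agent.H724.EP

open Cfsg Cfsg.Agent.ChevalleyStructure.CoxeterGeom Cfsg.Agent.Tits.Roots Cfsg.Agent.Nodes.TypeC
open Cfsg.Agent.Nodes.Comb Cfsg.Agent.Nodes.Reps Cfsg.Agent.Nodes.WittRoot Cfsg.Agent.Nodes.BNOf
open Cfsg.Agent.Nodes.WittRGD Cfsg.Agent.Nodes.RGDLib Cfsg.Agent.Nodes.WittU Cfsg.Agent.H892.EP
open Cfsg.Agent.TitsThree Cfsg.Agent.TitsThree.Siegel Cfsg.Agent.TitsThree.SiegelGen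
  Cfsg.Agent.TitsThree.WittFrame Cfsg.Agent.TitsThree.WBridge Cfsg.Agent.TitsThree.WittWeyl
  Cfsg.Agent.TitsThree.FrameCN Cfsg.Agent.TitsThree.KSideU Cfsg.Agent.TitsThree.KSideUDesc
  Cfsg.Agent.LieClassical.HermBasic

/-- an element of order a power of two of `F_{q²}` with `t ^ (q + 1) ≠ 1` -/
theorem exists_two {F : Type} [Field F] [Fintype F] {q : ℕ} (hF : Fintype.card F = q ^ 2) (ho : Odd q) :
    ∃ (t : F) (k : ℕ), t ≠ 0 ∧ t ^ 2 ^ k = 1 ∧ t ^ (q + 1) ≠ 1 ∧ t ^ 2 ≠ 1 ∧ t ^ (2 * q - 1) ≠ 1 ∧ t ≠ 1 := by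
  classical
  have hq1 : 1 < q := by
    rcases Nat.lt_or_ge 1 q with h | h
    · exact h
    · exfalso
      have h1 : 1 < Fintype.card F := Fintype.one_lt_card
      rw [hF] at h1
      interval_cases q <;> omega
  have hpos : 0 < q ^ 2 - 1 := by
    have : 1 < q ^ 2 := Nat.one_lt_pow two_ne_zero hq1
    omega
  obtain ⟨g, hg⟩ := IsCyclic.exists_ofOrder_eq_natCard (α := Fˣ)
  rw [Nat.card_eq_fintype_card, Fintype.card_units, hF] at hg
  set! a := (q ^ 2 - 1).factorization 2 with ha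
  obtain ⟨b, hb⟩ : 2 ^ a ∣ q ^ 2 - 1 := Nat.ordProj_dvd _ _
  have hb0 : b ≠ 0 := by
    rintro rfl
    rw [mul_zero] at hb
    omega
  set! t : Fˣ := g ^ b with ht
  have hot : orderOf t = 2 ^ a := by
    rw [ht, orderOf_pow_of_dvd hb0 (by rw [hg, hb]; exact Dvd.intro_left _ rfl), hg, hb]
    exact Nat.mul_div_cancel _ (Nat.pos_of_ne_zero hb0)
  have hne : ¬ 2 ^ a ∣ q + 1 := by
    intro h
    obtain ⟨c, hc⟩ := h
    obtain ⟨e, he⟩ := ho
    have h1 : 2 ^ (a + 1) ∣ q ^ 2 - 1 := by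
      refine ⟨c * e, ?_⟩
      have h2 : q ^ 2 - 1 = (q + 1) * (q - 1) := by
        have := Nat.sq_sub_sq q 1
        rwa [one_pow] at this
      have h3 : q - 1 = 2 * e := by omega
      rw [h2, hc, h3, pow_succ]
      ring
    have h2 := (Nat.Prime.pow_dvd_iff_le_factorization Nat.prime_two hpos.ne').1 h1
    omega
  have h1 : t ^ (q + 1) ≠ 1 := by
    intro h
    apply hne
    rw [← hot]
    exact orderOf_dvd_of_pow_eq_one h
  have h2 : t ^ 2 ≠ 1 := by
    intro h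
    apply h1
    obtain ⟨e, he⟩ := ho
    have h3 : q + 1 = 2 * (e + 1) := by omega
    rw [h3, pow_mul, h, one_pow]
  have h4 : t ≠ 1 := by
    intro h
    apply h2
    rw [h, one_pow]
  have h3 : t ^ (2 * q - 1) ≠ 1 := by
    intro h
    have h5 : orderOf t ∣ 2 * q - 1 := orderOf_dvd_of_pow_eq_one h
    rw [hot] at h5
    have h6 : a ≠ 0 := by
      intro h7
      rw [h7, pow_zero] at hot
      exact h4 (orderOf_eq_one_iff.1 hot)
    have h7 : 2 ∣ 2 * q - 1 := (dvd_pow_self 2 h6).trans h5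
    omega
  have hcoe : ∀ m : ℕ, ((t : F) ^ m = 1 ↔ t ^ m = 1) := by
    intro m
    rw [← Units.val_pow_eq_pow_val]
    exact Units.val_eq_one
  refine ⟨(t : F), a, t.ne_zero, (hcoe _).2 (by rw [← hot]; exact pow_orderOf_eq_one t),
    fun h => h1 ((hcoe _).1 h), fun h => h2 ((hcoe _).1 h), fun h => h3 ((hcoe _).1 h), fun h => h4 ?_⟩
  exact Units.val_eq_one.1 h

section

variable {F : Type} [Field F] [Fintype F] {r : ℕ} [Fact r.Prime] [CharP F r]

theorem odd_q' (hr : r ≠ 2) {q : ℕ} (hF : Fintype.card F = q ^ 2) : Odd q := by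
  have hp2 : Odd r := (Fact.out : r.Prime).odd_of_ne_two hr
  obtain ⟨n, -, hn⟩ := FiniteField.card F r
  have h1 : Odd (q ^ 2) := by rw [← hF, hn]; exact hp2.pow
  by_contra hq
  rw [Nat.not_odd_iff_even] at hq
  rw [sq] at h1
  exact (Nat.not_odd_iff_even.2 (hq.mul_right q)) h1

/-- the torus element for `PSU_3(q)` -/
theorem exists_zz {n q m : ℕ} (hF : Fintype.card F = q ^ 2) (ho : Odd q) (W : WFrame (PU hF n) m) (hm : m = 1)
    (x : Fin m × Bool) {d : Fin n → F} (hd : W.V0 = Submodule.span F {d}) (hd1 : hermForm n F q d d = 1) {t : F} (ht : t ≠ 0) {k : ℕ}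
    (hk : t ^ 2 ^ k = 1) :
    ∃ g ∈ Tor (toFrame W) (IU F q n), g ^ 2 ^ k = 1 ∧ g ((toFrame W).b x) = t • (toFrame W).b x ∧
      ∀ b : F, g (b • d) = (t ^ q * t⁻¹ * b) • d := by
  have hA := amb_U hF W
  have hdV : d ∈ W.V0 := by rw [hd]; exact Submodule.mem_span_singleton_self d
  obtain ⟨p0, hp0, hw0⟩ := exists_adm hF W
  have hc0 : p0.c ^ q = -p0.c := by
    have h1 := p0.ok.2
    rw [ok_iff, hw0, herm_zero_left, neg_zero] at h1
    linear_combination h1
  set c0 := p0.c with hc0def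
  have hneg : (-1 : F) ^ q = -1 := ho.neg_one_pow
  obtain ⟨a, ha⟩ := _root_.Cfsg.Agent.LieClassical.HermBasic.exists_norm_eq hF (c := c0 * (t - t ^ q)) (by
    rw [mul_pow, sub_pow_q hF, pow_q_pow_q hF, hc0]
    ring)
  have hcq : (-(t * c0)) ^ q = t ^ q * c0 := by
    rw [neg_pow, hneg, mul_pow, hc0]
    ring
  have hok : (toFrame W).ok (a • d) (-(t * c0)) := by
    refine ⟨W.V0.smul_mem _ hdV, ?_⟩
    rw [ok_iff, herm_smul_left, herm_smul_right, hd1, hcq]
    linear_combination ha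
  let p : (toFrame W).Adm := ⟨a • d, -(t * c0), hok⟩
  have hpc : p.c ≠ 0 := neg_ne_zero.2 (mul_ne_zero ht hp0)
  have hη := (toFrame W).η_ne x
  have htq : t ^ q ≠ 0 := pow_ne_zero _ ht
  have hσ : ∀ y : F, (HU hF n).σ y = y ^ q := fun y => rfl
  have hε : (HU hF n).ε = 1 := rfl
  have hx : (nZ (toFrame W) x p * nZ (toFrame W) x p0) ((toFrame W).b x) = t • (toFrame W).b x := by
    rw [mul_apply', nZ_apply_self _ x p0 hp0, map_smul, nZ_apply_neg _ x p hpc, smul_smul, hσ, hε]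
    congr 1
    change 1 * ((toFrame W).η x)⁻¹ * (c0 ^ q)⁻¹ * ((toFrame W).η x * -(t * c0)) = t
    rw [hc0]
    field_simp
  have hnx : (nZ (toFrame W) x p * nZ (toFrame W) x p0) ((toFrame W).b (neg x)) =
      (t ^ q)⁻¹ • (toFrame W).b (neg x) := by
    rw [mul_apply', nZ_apply_neg _ x p0 hp0, map_smul, nZ_apply_self _ x p hpc, smul_smul, hσ, hε]
    congr 1
    change (toFrame W).η x * c0 * (1 * ((toFrame W).η x)⁻¹ * ((-(t * c0)) ^ q)⁻¹) = (t ^ q)⁻¹
    rw [hcq]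
    field_simp
  have hdd : ∀ b : F, (nZ (toFrame W) x p * nZ (toFrame W) x p0) (b • d) = (t ^ q * t⁻¹ * b) • d := by
    intro b
    have hbd : b • d ∈ (toFrame W).V0 := W.V0.smul_mem _ hdV
    rw [mul_apply', nZ_apply_V0 _ x p0 hp0 hbd, hw0, smul_zero, add_zero, nZ_apply_V0 _ x p hpc hbd, hε]
    change b • d + (1⁻¹ * (-(t * c0))⁻¹ * hermForm n F q (b • d) (a • d)) • (a • d) = _
    rw [herm_smul_left, herm_smul_right, hd1, smul_smul, ← add_smul]
    congr 1
    field_simp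
    linear_combination (-b) * ha
  have hall : ∀ z, ∃ l : F, l ≠ 0 ∧ (nZ (toFrame W) x p * nZ (toFrame W) x p0) ((toFrame W).b z) =
      l • (toFrame W).b z ∧ l ^ 2 ^ k = 1 := by
    intro z
    have h1 : z.1 = x.1 := by
      subst hm
      exact Subsingleton.elim _ _
    rcases eq_or_ng h1 with rfl | rfl
    · exact ⟨t, ht, hx, hk⟩
    · refine ⟨(t ^ q)⁻¹, inv_ne_zero htq, hnx, ?_⟩
      rw [inv_pow, ← pow_mul, mul_comm, pow_mul, hk, one_pow, inv_one]
  refine ⟨nZ (toFrame W) x p * nZ (toFrame W) x p0, ⟨mul_mem (nZ_mem hA _ _) (nZ_mem hA _ _), fun z => ?_⟩, ?_, hx,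
    hdd⟩
  · obtain ⟨l, hl, h1, -⟩ := hall z
    exact ⟨l, hl, h1⟩
  · refine pow_eq_one_of hA (fun z => ?_) fun w hw => ?_
    · obtain ⟨l, -, h1, h2⟩ := hall z
      exact ⟨l, h1, h2⟩
    · obtain ⟨b, rfl⟩ := Submodule.mem_span_singleton.1 (hd ▸ hw : w ∈ Submodule.span F {d})
      refine ⟨t ^ q * t⁻¹, by rw [hdd, mul_smul], ?_⟩
      rw [mul_pow, ← pow_mul, mul_comm q, pow_mul, hk, one_pow, inv_pow, hk, inv_one, mul_one]

theorem pu_frame (hr : r ≠ 2) {n q m : ℕ} (hF : Fintype.card F = q ^ 2) (hn : 3 ≤ n) (hm : 0 < m)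
    (W : WFrame (PU hF n) m) (d : Fin n → F) (hd : W.V0 = Submodule.span F {d})
    (hd1 : m = 1 → hermForm n F q d d = 1) : ParU r (PSU n F q) := by
  have ho := odd_q' hr hF
  obtain ⟨t, k, ht, hk, h1, h2, h3, h4⟩ := exists_two hF ho
  have hσ : ∀ y : F, (HU hF n).σ y = y ^ q := fun y => rfl
  obtain ⟨p0, hp0, -⟩ := exists_adm hF W
  have hA := amb_U hF W
  have hfin : Finite (CoxeterMatrix.B m).Group := finite_W (CoxeterMatrix.B m).toCoxeterSystem
  have hfin' : Finite (PSU n F q) := Quotient.finite _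
  have R := Nodes.WittModel.rgd (KInstU.model hF hn W) hA ((Fact.out : r.Prime).odd_of_ne_two hr) hp0
    (CoxeterMatrix.B m).toCoxeterSystem
  refine parU_of_rgd hr R (Nodes.WittModel.G1_eq_top _ hm _) ?_ ?_
  · rintro _ ⟨g, hg, rfl⟩ _ ⟨g', hg', rfl⟩
    rw [← map_mul, ← map_mul]
    exact congrArg _ (Subtype.ext (Cfsg.Agent.FixBN.WittNodeC.comm_Tor W hA d hd (Subgroup.mem_subgroupOf.1 hg)
      (Subgroup.mem_subgroupOf.1 hg')))
  · intro i u hu hc
    obtain ⟨g, hg, hgX, rfl⟩ := (Nodes.WittModel.mem_X _).1 hu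
    rw [rg_sr] at hgX
    have hc' : ∀ s ∈ Tor (toFrame W) (IU F q n), (∃ k, s ^ 2 ^ k = 1) → s * g * s⁻¹ = g := by
      rintro s hs ⟨j, hj⟩
      refine conj_eq_of_comm (p := r) (KInstU.model hF hn W) hA (ok_nx i) hgX hg hs (hc _ ⟨⟨s, hs.1⟩, hs, rfl⟩ ⟨j, ?_⟩)
      rw [← map_pow]
      have h5 : (⟨s, hs.1⟩ : (KInstU.model hF hn W).I) ^ 2 ^ j = 1 := Subtype.ext hj
      rw [h5, map_one]
    suffices hg1 : g = 1 by
      subst hg1
      exact map_one _
    by_cases hi : (i : ℕ) + 1 < m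
    · have hne : ((i, true) : Fin m × Bool).1 ≠ (nx i).1 := by
        unfold nx; rw [dif_pos hi]; simp [Fin.ext_iff]
      rw [PG_ne _ hne] at hgX
      obtain ⟨s, rfl⟩ := hgX
      exact X_of_hh hne ht h2 (hc' _ (hh_mem hne ht hA) ⟨k, hh_pow hne ht hA hk⟩)
    · have hnx : nx i = (i, true) := by unfold nx; rw [dif_neg hi]
      rw [hnx, PG_self] at hgX
      obtain ⟨p, rfl⟩ := hgX
      rcases Nat.lt_or_ge 1 m with hm2 | hm1
      · have hne : ((⟨(i : ℕ) - 1, by omega⟩, true) : Fin m × Bool).1 ≠ ((i, false) : Fin m × Bool).1 := by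
          intro h5
          have h6 := congrArg Fin.val h5
          simp only at h6
          have := i.2
          omega
        exact Z_of_hh hne ht h4 (by rw [hσ, ← pow_succ']; exact h1)
          (hc' _ (hh_mem hne ht hA) ⟨k, hh_pow hne ht hA hk⟩)
      · have hm1' : m = 1 := by omega
        obtain ⟨g, hgT, hgk, hgx, hgd⟩ := exists_zz hF ho W hm1' (i, true) hd (hd1 hm1') ht hk
        have h5 := hc' g hgT ⟨k, hgk⟩
        obtain ⟨q', hq1, hq2⟩ := hA.exists_adm hgT.1 hgT.2 (ρ := id) (fun _ => rfl) p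
        rw [conj_Z (toFrame W) (hA.iso g hgT.1) hgx p q' hq1 hq2, Z_eq_iff] at h5
        have hw : (HU hF n).σ t • q'.w = p.w := congrArg Frame.Adm.w h5
        have hcc : (HU hF n).σ t * (HU hF n).σ ((HU hF n).σ t) * q'.c = p.c := congrArg Frame.Adm.c h5
        obtain ⟨b, hb⟩ := Submodule.mem_span_singleton.1 (hd ▸ ((toFrame W).ok_mem p.ok) : p.w ∈ Submodule.span F {d})
        have hw0 : p.w = 0 := by
          rw [← hq1, ← hb, hgd, hσ, smul_smul, ← sub_eq_zero, ← sub_smul] at hw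
          rcases smul_eq_zero.1 hw with h6 | h6
          · have h7 : (t ^ (2 * q - 1) - 1) * b = 0 := by
              have h8 : t ^ (2 * q - 1) = t ^ q * t ^ q * t⁻¹ := by
                have hq0 : 0 < q := ho.pos
                rw [← pow_add, eq_mul_inv_iff_mul_eq₀ ht, ← pow_succ]
                congr 1
                omega
              rw [h8]
              linear_combination h6
            rw [← hb, (mul_eq_zero.1 h7).resolve_left (sub_ne_zero.2 h3), zero_smul]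
          · rw [← hb, h6, smul_zero]
        have hc0 : p.c = 0 := by
          rw [← hq2, HForm.σσ, hσ] at hcc
          have h7 : (t ^ (q + 1) - 1) * p.c = 0 := by
            rw [pow_succ]
            linear_combination hcc
          exact (mul_eq_zero.1 h7).resolve_left (sub_ne_zero.2 h1)
        have h9 : p = 1 := Frame.Adm.ext hw0 hc0
        rw [h9, (toFrame W).Z_one]

/-- **[PU-PSU]** -/
theorem pu_psu (hr : r ≠ 2) {n q : ℕ} (hq : Fintype.card F = q ^ 2) (hn : 3 ≤ n) : ParU r (PSU n F q) := by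
  obtain ⟨m, hm⟩ : ∃ m, n = 2 * m ∨ n = 2 * m + 1 := ⟨n / 2, by omega⟩
  rcases hm with hm | hm
  · obtain ⟨W, hW⟩ := exists_wframe_even hq hm
    refine pu_frame hr hq hn (by omega) W 0 (by rw [hW, Submodule.span_zero_singleton]) fun h => by omega
  · obtain ⟨W, d, hd, hW⟩ := exists_wframe_odd hq hm
    exact pu_frame hr hq hn (by omega) W d hW fun _ => hd

end

end Cfsg.Agent.H724.EP
end

-- part: H510/OA/Chain
section
/-!
# Stable totally singular subspaces (helper510, for S2451)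

* `exists_chain` : a `p`-group `X` of isometries, `U` a stable subspace, `2 k + 1 ≤ dim U`, `S₀ ≤ U` stable totally singular
  of dimension `≤ k`: there is a stable totally singular `S` of dimension `k` between;
* `sub_mem_of_end` : `p` odd, `x` a `p`-element, `S ≤ U` totally singular, `dim U ≤ 2 dim S + 2`, `U` nondegenerate:
  `x v - v ∈ S` for `v ∈ U ∩ S^⊥`.
-/

set_option autoImplicit false
set_option linter.unusedSectionVars false

namespace Cfsg.Agent.H510.OA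

open QuadraticMap Module Cfsg.Agent.LieClassical.OrthCore Cfsg.Agent.LieClassical.OrthTrans
open Cfsg.Agent.H951 (Frm Nd TI Inv exists_rel_compl' nd_compl_ti)
open Cfsg.Agent.H862.T5.OBase (BB frm_polar BB_apply)

variable {F V : Type*} [Field F] [AddCommGroup V] [Module F V] {Q : QuadraticForm F V}

theorem ti_of_ts {S : Submodule F V} (hS : ∀ s ∈ S, Q s = 0) : TI (BB Q) S := fun u hu v hv => by
  rw [BB_apply, QuadraticMap.polar, hS _ (S.add_mem hu hv), hS u hu, hS v hv]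
  ring

theorem Q_add_of_perp {S : Submodule F V} (hS : ∀ s ∈ S, Q s = 0) {v s : V} (hv : ∀ s ∈ S, polar Q v s = 0)
    (hs : s ∈ S) : Q (v + s) = Q v := by
  rw [Q_add, hS s hs, hv s hs]
  ring

theorem polar_isom {x : V ≃ₗ[F] V} (hx : x ∈ O Q) (u v : V) : polar Q (x u) (x v) = polar Q u v := polar_map hx u v

/-- the orthogonal space is stable -/
theorem perp_stable {X : Subgroup (V ≃ₗ[F] V)} (hXO : X ≤ O Q) {S : Submodule F V} (hS : ∀ x ∈ X, ∀ s ∈ S, x s ∈ S) :
    ∀ x ∈ X, ∀ v ∈ (frm_polar Q).perp S, x v ∈ (frm_polar Q).perp S := by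
  intro x hx v hv s hs
  have h1 : (x⁻¹ : V ≃ₗ[F] V) s ∈ S := hS _ (X.inv_mem hx) s hs
  have h2 : x ((x⁻¹ : V ≃ₗ[F] V) s) = s := x.apply_symm_apply s
  have h3 := hv _ h1
  rw [BB_apply] at h3 ⊢
  rw [← h2, polar_isom (hXO hx)]
  exact h3

theorem finrank_sup_span {S : Submodule F V} [FiniteDimensional F V] {v : V} (hv : v ∉ S) :
    finrank F ↥(S ⊔ F ∙ v) = finrank F S + 1 := by
  have h0 : v ≠ 0 := fun h => hv (h ▸ S.zero_mem)
  rw [H951.finrank_sup_of_disj, finrank_span_singleton h0]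
  rw [eq_bot_iff]
  rintro w ⟨hw1, hw2⟩
  obtain ⟨c, rfl⟩ := Submodule.mem_span_singleton.1 hw2
  rw [Submodule.mem_bot]
  by_contra hc
  have hc0 : c ≠ 0 := fun h => hc (by rw [h, zero_smul])
  apply hv
  have := S.smul_mem c⁻¹ hw1
  rwa [smul_smul, inv_mul_cancel₀ hc0, one_smul] at this

section chain

variable [Finite F] [FiniteDimensional F V] {p : ℕ} [Fact p.Prime] [CharP F p]

end chain

section finish

variable [FiniteDimensional F V]

theorem finrank_map_mkQ' {S U : Submodule F V} (hSU : S ≤ U) :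
    finrank F (U.map S.mkQ) + finrank F S = finrank F U := by
  have h1 := LinearMap.finrank_range_add_finrank_ker (S.mkQ.domRestrict U)
  have h2 : LinearMap.range (S.mkQ.domRestrict U) = U.map S.mkQ := by
    rw [LinearMap.range_domRestrict]
  have h3 : LinearMap.ker (S.mkQ.domRestrict U) = S.comap U.subtype := by
    rw [LinearMap.ker_domRestrict, Submodule.ker_mkQ]
  rw [h2, h3, (Submodule.comapSubtypeEquivOfLe hSU).finrank_eq] at h1
  exact h1

/-- A nilpotent operator on a section of dimension at most two has square zero. -/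
theorem sq_mem {N : Module.End F V} (hN : ∃ n, N ^ n = 0) {S W : Submodule F V} (hSW : S ≤ W)
    (hS : ∀ s ∈ S, N s ∈ S) (hW : ∀ w ∈ W, N w ∈ W) (hd : finrank F W ≤ finrank F S + 2) :
    ∀ w ∈ W, N (N w) ∈ S := by
  obtain ⟨n, hn⟩ := hN
  let f₀ : Module.End F (V ⧸ S) := S.mapQ S N (fun s hs => hS s hs)
  have hf₀ : ∀ v, f₀ (S.mkQ v) = S.mkQ (N v) := fun v => rfl
  have hM : ∀ z ∈ W.map S.mkQ, f₀ z ∈ W.map S.mkQ := by
    rintro _ ⟨v, hv, rfl⟩
    exact ⟨N v, hW v hv, rfl⟩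
  let f : Module.End F (W.map S.mkQ) := f₀.restrict hM
  have hf : ∀ z, ((f z : W.map S.mkQ) : V ⧸ S) = f₀ z := fun _ => rfl
  have hpow : ∀ (k : ℕ) (v : V) (hv : v ∈ W), (((f ^ k) ⟨S.mkQ v, v, hv, rfl⟩ : W.map S.mkQ) : V ⧸ S) =
      S.mkQ ((N ^ k) v) := by
    intro k
    induction k with
    | zero => intro v hv; rfl
    | succ k ih =>
      intro v hv
      rw [pow_succ, pow_succ, Module.End.mul_apply, Module.End.mul_apply, ← ih (N v) (hW v hv)]
      rfl
  have h1 : f ^ n = 0 := by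
    apply LinearMap.ext
    rintro ⟨_, v, hv, rfl⟩
    apply Subtype.ext
    rw [hpow n v hv, hn]
    rfl
  have h2 : finrank F (W.map S.mkQ) ≤ 2 := by
    have := finrank_map_mkQ' hSW
    omega
  have h3 : f ^ 2 = 0 := by
    have h4 := Module.End.ker_pow_le_ker_pow_finrank f n
    rw [h1, LinearMap.ker_zero, top_le_iff, LinearMap.ker_eq_top] at h4
    obtain ⟨k, hk⟩ := Nat.exists_eq_add_of_le h2
    rw [hk, add_comm, pow_add, h4, mul_zero]
  intro w hw
  have h4 := congrArg (fun g : Module.End F (W.map S.mkQ) => ((g ⟨S.mkQ w, w, hw, rfl⟩ : W.map S.mkQ) : V ⧸ S)) h3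
  rw [← Submodule.Quotient.mk_eq_zero S]
  exact (hpow 2 w hw).symm.trans h4

variable {p : ℕ} [Fact p.Prime] [CharP F p]

theorem nilp_of_pow {x : V ≃ₗ[F] V} (hx : ∃ j : ℕ, x ^ p ^ j = 1) : ∃ n : ℕ, ((x : Module.End F V) - 1) ^ n = 0 := by
  obtain ⟨j, hj⟩ := hx
  refine ⟨p ^ j, ?_⟩
  rcases subsingleton_or_nontrivial V with hV | hV
  · exact LinearMap.ext fun v => Subsingleton.elim _ _
  · have : CharP (Module.End F V) p := charP_of_injective_algebraMap (algebraMap F (Module.End F V)).injective p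
    rw [sub_pow_char_pow_of_commute _ _ (Commute.one_right _), one_pow, sub_eq_zero]
    apply LinearMap.ext
    intro v
    have h1 : ∀ n : ℕ, (((x : Module.End F V)) ^ n) v = (x ^ n) v := by
      intro n
      induction n generalizing v with
      | zero => rfl
      | succ n ih =>
        rw [pow_succ, pow_succ, Module.End.mul_apply, LinearEquiv.mul_apply, ← ih]
        rfl
    rw [h1, hj]
    rfl

/-- **The end of the chain**: `x` is trivial on `(U ∩ S^⊥) / S`. -/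
theorem sub_mem_of_end (h2 : (2 : F) ≠ 0) {x : V ≃ₗ[F] V} (hx : x ∈ O Q) (hxp : ∃ j : ℕ, x ^ p ^ j = 1)
    {S U : Submodule F V} (hUn : Nd (BB Q) U) (hSU : S ≤ U) (hSQ : ∀ s ∈ S, Q s = 0) (hxS : ∀ s ∈ S, x s ∈ S)
    (hxU : ∀ u ∈ U, x u ∈ U) (hd : finrank F U ≤ 2 * finrank F S + 2) :
    ∀ v ∈ U, (∀ s ∈ S, polar Q v s = 0) → x v - v ∈ S := by
  set! hB := frm_polar Q with hBd
  have hTI := ti_of_ts hSQ
  obtain ⟨C, hCle, hC1, hC2⟩ := exists_rel_compl' (W := S) (U := hB.perp S ⊓ U) (le_inf hTI hSU)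
  obtain ⟨hCn, hC3, hC4, hC5⟩ := nd_compl_ti hB hUn hSU hTI hC1 hC2
  have hWd : finrank F ↥(hB.perp S ⊓ U) = finrank F S + finrank F C := by
    rw [← hC2, H951.finrank_sup_of_disj hC1]
  -- the orthogonal is stable
  have hmap : S.map (x : V →ₗ[F] V) = S := by
    apply Submodule.eq_of_le_of_finrank_eq
    · rintro _ ⟨s, hs, rfl⟩
      exact hxS s hs
    · exact LinearEquiv.finrank_map_eq x S
  have hxP : ∀ v ∈ hB.perp S, x v ∈ hB.perp S := by
    intro v hv s hs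
    rw [← hmap] at hs
    obtain ⟨t, ht, rfl⟩ := hs
    have h3 : polar Q (x v) (x t) = polar Q v t := polar_isom hx v t
    rw [BB_apply]
    exact h3.trans (hv t ht)
  let N : Module.End F V := (x : Module.End F V) - 1
  have hNa : ∀ v, N v = x v - v := fun v => rfl
  have hNW : ∀ w ∈ hB.perp S ⊓ U, N w ∈ hB.perp S ⊓ U := fun w hw =>
    Submodule.sub_mem _ ⟨hxP w hw.1, hxU w hw.2⟩ hw
  have hNS : ∀ s ∈ S, N s ∈ S := fun s hs => S.sub_mem (hxS s hs) hs
  have hsq := sq_mem (N := N) (nilp_of_pow (p := p) hxp) (S := S) (W := hB.perp S ⊓ U) (le_inf hTI hSU) hNS hNW (by omega)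
  -- `N` is isotropic
  have key : ∀ v ∈ hB.perp S ⊓ U, Q (N v) = 0 ∧ polar Q v (N v) = 0 := by
    intro v hv
    have e1 : x v = v + N v := by rw [hNa]; abel
    have e2 : x (x v) = (v + (2 : F) • N v) + N (N v) := by
      rw [hNa (N v), two_smul, hNa, map_sub]
      abel
    have hv2 : v + (2 : F) • N v ∈ hB.perp S := Submodule.add_mem _ hv.1 (Submodule.smul_mem _ _ (hNW v hv).1)
    have q1 : Q (N v) + polar Q v (N v) = 0 := by
      have h3 : Q (x v) = Q v := hx v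
      rw [e1, Q_add] at h3
      linear_combination h3
    have q2 : 4 * Q (N v) + 2 * polar Q v (N v) = 0 := by
      have h3 : Q (x (x v)) = Q v := (hx (x v)).trans (hx v)
      rw [e2, Q_add_of_perp hSQ (fun s hs => hv2 s hs) (hsq v hv), Q_add, QuadraticMap.map_smul, polar_smul_right] at h3
      simp only [smul_eq_mul] at h3
      linear_combination h3
    have q3 : (2 : F) * Q (N v) = 0 := by linear_combination q2 - 2 * q1
    have q4 : Q (N v) = 0 := (mul_eq_zero.1 q3).resolve_left h2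
    exact ⟨q4, by rw [q4, zero_add] at q1; exact q1⟩
  intro v hv hvS
  have hvW : v ∈ hB.perp S ⊓ U := ⟨hvS, hv⟩
  by_contra hu
  rw [← hNa] at hu
  set u := N v with hud
  have huW : u ∈ hB.perp S ⊓ U := hNW v hvW
  -- `v ∉ S + ⟨u⟩`
  have hvS' : v ∉ S ⊔ F ∙ u := by
    intro h
    obtain ⟨s, hs, t, ht, hst⟩ := Submodule.mem_sup.1 h
    obtain ⟨c, rfl⟩ := Submodule.mem_span_singleton.1 ht
    apply hu
    rw [hud, ← hst, map_add, map_smul]
    exact S.add_mem (hNS s hs) (S.smul_mem _ (hsq v hvW))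
  have hWle : S ⊔ F ∙ u ⊔ F ∙ v = hB.perp S ⊓ U := by
    apply Submodule.eq_of_le_of_finrank_le
    · refine sup_le (sup_le (le_inf hTI hSU) ?_) ?_
      · rw [Submodule.span_singleton_le_iff_mem]; exact huW
      · rw [Submodule.span_singleton_le_iff_mem]; exact hvW
    · rw [finrank_sup_span hvS', finrank_sup_span hu]
      omega
  -- `u` is orthogonal to everything
  have hup : ∀ w ∈ hB.perp S ⊓ U, polar Q u w = 0 := by
    intro w hw
    rw [← hWle] at hw
    obtain ⟨w', hw', t, ht, rfl⟩ := Submodule.mem_sup.1 hw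
    obtain ⟨c, rfl⟩ := Submodule.mem_span_singleton.1 ht
    obtain ⟨s, hs, t, ht, rfl⟩ := Submodule.mem_sup.1 hw'
    obtain ⟨d, rfl⟩ := Submodule.mem_span_singleton.1 ht
    have h3 : polar Q u s = 0 := huW.1 s hs
    rw [polar_add_right, polar_add_right, polar_smul_right, polar_smul_right, h3, polar_self_of_sing (key v hvW).1,
      polar_comm, (key v hvW).2]
    simp
  -- so it lies in `S`
  have hu2 : u ∈ S ⊔ C := by rw [hC2]; exact huW
  obtain ⟨s, hs, c, hc, hsc⟩ := Submodule.mem_sup.1 hu2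
  have hc0 : c = 0 := by
    by_contra hc0
    obtain ⟨d, hd', hcd⟩ := hCn c hc hc0
    apply hcd
    have h3 := hup d (by rw [← hC2]; exact Submodule.mem_sup_right hd')
    have h4 : polar Q s d = 0 := by
      rw [polar_comm]
      exact hC3 hd' s hs
    rw [← hsc, polar_add_left, h4, zero_add] at h3
    exact h3
  apply hu
  rw [← hsc, hc0, add_zero]
  exact hs

end finish

end Cfsg.Agent.H510.OA
end

-- part: H485/EP/PuO
section
/-!
# [PU-O] of S4929: `χ(1) ≡ dim χ^U (mod 2)` for the orthogonal groups (helper485)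

`U ∈ Syl_r (E Q)` fixes a flag `⟨x_0⟩ < ⟨x_0, x_1⟩ < ...` of totally singular subspaces of dimensions `1, ..., k`,
`2 k + 1 ≤ dim V ≤ 2 k + 2`, and is its unipotent radical. Let `y_i` be partners of the `x_i`. The 2-group `A` of all
`a ∈ E Q` which are scalars `± 1` on the planes `⟨x_i, y_i⟩` and trivial on the complement normalises `U`; it contains the
`z_ij` (`-1` exactly on the planes `i` and `j`), so `C_U(A) = 1` for `k ≥ 3`.
-/

set_option autoImplicit false
set_option linter.unusedSectionVars false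

namespace Cfsg.Agent.H485.EP

open QuadraticMap Module Cfsg.Agent.LieClassical.OrthCore Cfsg.Agent.LieClassical.OrthTrans
open Cfsg.Agent.H510.OA Cfsg.Agent.H951 Cfsg.Agent.H862.T5.OBase

variable {F V : Type*} [Field F] [AddCommGroup V] [Module F V] {Q : QuadraticForm F V}

/-- hyperbolic systems -/
structure Hs (Q : QuadraticForm F V) (k : ℕ) (x y : Fin k → V) : Prop where
  qx : ∀ i, Q (x i) = 0
  qy : ∀ i, Q (y i) = 0
  xx : ∀ i j, polar Q (x i) (x j) = 0
  yy : ∀ i j, polar Q (y i) (y j) = 0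
  xy : ∀ i j, polar Q (x i) (y j) = if i = j then 1 else 0

variable {k : ℕ} {x y : Fin k → V}

/-- the lower span -/
def Wl (F : Type*) {V : Type*} [Field F] [AddCommGroup V] [Module F V] {k : ℕ} (x : Fin k → V) (i : ℕ) :
    Submodule F V := Submodule.span F (x '' {j | (j : ℕ) < i})

theorem Wl_mono {i j : ℕ} (h : i ≤ j) : Wl F x i ≤ Wl F x j :=
  Submodule.span_mono (Set.image_mono fun _ hl => lt_of_lt_of_le hl h)

theorem mem_Wl {i : ℕ} {j : Fin k} (h : (j : ℕ) < i) : x j ∈ Wl F x i :=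
  Submodule.subset_span ⟨j, h, rfl⟩

/-- projection to the complement of the system -/
def prj (Q : QuadraticForm F V) (x y : Fin k → V) (v : V) : V :=
  v - ∑ i, (polar Q (y i) v • x i + polar Q (x i) v • y i)

theorem Hs.polar_x_sum (h : Hs Q k x y) (c d : Fin k → F) (j : Fin k) :
    polar Q (x j) (∑ i, (c i • x i + d i • y i)) = d j := by
  have h1 : polar Q (x j) (∑ i, (c i • x i + d i • y i)) = polarBilin Q (x j) (∑ i, (c i • x i + d i • y i)) := rfl
  rw [h1, map_sum, Finset.sum_eq_single j]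
  · rw [map_add, map_smul, map_smul, polarBilin_apply_apply, polarBilin_apply_apply, h.xx, h.xy, if_pos rfl, smul_zero,
      zero_add, smul_eq_mul, mul_one]
  · intro i _ hij
    rw [map_add, map_smul, map_smul, polarBilin_apply_apply, polarBilin_apply_apply, h.xx, h.xy, if_neg (Ne.symm hij),
      smul_zero, smul_zero, zero_add]
  · intro hj; exact absurd (Finset.mem_univ j) hj

theorem Hs.polar_y_sum (h : Hs Q k x y) (c d : Fin k → F) (j : Fin k) :
    polar Q (y j) (∑ i, (c i • x i + d i • y i)) = c j := by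
  have h1 : polar Q (y j) (∑ i, (c i • x i + d i • y i)) = polarBilin Q (y j) (∑ i, (c i • x i + d i • y i)) := rfl
  rw [h1, map_sum, Finset.sum_eq_single j]
  · rw [map_add, map_smul, map_smul, polarBilin_apply_apply, polarBilin_apply_apply, h.yy, polar_comm Q (y j) (x j), h.xy,
      if_pos rfl, smul_zero, add_zero, smul_eq_mul, mul_one]
  · intro i _ hij
    rw [map_add, map_smul, map_smul, polarBilin_apply_apply, polarBilin_apply_apply, h.yy, polar_comm Q (y j) (x i), h.xy,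
      if_neg hij, smul_zero, smul_zero, zero_add]
  · intro hj; exact absurd (Finset.mem_univ j) hj

theorem Hs.polar_x_prj (h : Hs Q k x y) (v : V) (j : Fin k) : polar Q (x j) (prj Q x y v) = 0 := by
  rw [prj, polar_sub_right, h.polar_x_sum, sub_self]

theorem Hs.polar_y_prj (h : Hs Q k x y) (v : V) (j : Fin k) : polar Q (y j) (prj Q x y v) = 0 := by
  rw [prj, polar_sub_right, h.polar_y_sum, sub_self]

/-- extending a hyperbolic system -/
theorem Hs.snoc (h : Hs Q k x y) {a b : V} (ha : Q a = 0) (hb : Q b = 0) (hab : polar Q a b = 1)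
    (hxa : ∀ i, polar Q (x i) a = 0) (hya : ∀ i, polar Q (y i) a = 0) (hxb : ∀ i, polar Q (x i) b = 0)
    (hyb : ∀ i, polar Q (y i) b = 0) : Hs Q (k + 1) (Fin.snoc x a) (Fin.snoc y b) := by
  have haa : polar Q a a = 0 := by rw [polar_self, ha, smul_zero]
  have hbb : polar Q b b = 0 := by rw [polar_self, hb, smul_zero]
  refine ⟨fun i => ?_, fun i => ?_, fun i j => ?_, fun i j => ?_, fun i j => ?_⟩
  · refine Fin.lastCases ?_ (fun i => ?_) i
    · rw [Fin.snoc_last, ha]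
    · rw [Fin.snoc_castSucc, h.qx]
  · refine Fin.lastCases ?_ (fun i => ?_) i
    · rw [Fin.snoc_last, hb]
    · rw [Fin.snoc_castSucc, h.qy]
  · refine Fin.lastCases ?_ (fun i => ?_) i <;> refine Fin.lastCases ?_ (fun j => ?_) j
    · rw [Fin.snoc_last, haa]
    · rw [Fin.snoc_last, Fin.snoc_castSucc, polar_comm, hxa]
    · rw [Fin.snoc_last, Fin.snoc_castSucc, hxa]
    · rw [Fin.snoc_castSucc, Fin.snoc_castSucc, h.xx]
  · refine Fin.lastCases ?_ (fun i => ?_) i <;> refine Fin.lastCases ?_ (fun j => ?_) j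
    · rw [Fin.snoc_last, hbb]
    · rw [Fin.snoc_last, Fin.snoc_castSucc, polar_comm, hyb]
    · rw [Fin.snoc_last, Fin.snoc_castSucc, hyb]
    · rw [Fin.snoc_castSucc, Fin.snoc_castSucc, h.yy]
  · refine Fin.lastCases ?_ (fun i => ?_) i <;> refine Fin.lastCases ?_ (fun j => ?_) j
    · rw [Fin.snoc_last, Fin.snoc_last, hab, if_pos rfl]
    · rw [Fin.snoc_last, Fin.snoc_castSucc, polar_comm, hya, if_neg (Fin.castSucc_lt_last j).ne']
    · rw [Fin.snoc_last, Fin.snoc_castSucc, hxb, if_neg (Fin.castSucc_lt_last i).ne]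
    · rw [Fin.snoc_castSucc, Fin.snoc_castSucc, h.xy]
      simp only [Fin.castSucc_inj]

theorem Wl_snoc {a : V} (i : Fin k) : Wl F (Fin.snoc x a : Fin (k + 1) → V) i = Wl F x i := by
  unfold Wl
  congr 1
  ext v
  constructor
  · rintro ⟨j, hj, rfl⟩
    refine Fin.lastCases (fun hj => ?_) (fun j hj => ?_) j hj
    · exfalso
      have h1 : (Fin.last k : ℕ) < i := hj
      rw [Fin.val_last] at h1
      omega
    · rw [Fin.snoc_castSucc]
      exact ⟨j, hj, rfl⟩
  · rintro ⟨j, hj, rfl⟩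
    exact ⟨j.castSucc, hj, by rw [Fin.snoc_castSucc]⟩

theorem Wl_polar {i : ℕ} {t : V} (ht : ∀ j : Fin k, (j : ℕ) < i → polar Q (x j) t = 0) {s : V} (hs : s ∈ Wl F x i) :
    polar Q s t = 0 := by
  induction hs using Submodule.span_induction with
  | mem v hv =>
    obtain ⟨l, hl, rfl⟩ := hv
    exact ht l hl
  | zero => rw [polar_zero_left]
  | add v w _ _ h1 h2 => rw [polar_add_left, h1, h2, add_zero]
  | smul c v _ h1 => rw [polar_smul_left, h1, smul_zero]

theorem Hs.Wl_x (h : Hs Q k x y) {i : ℕ} {s : V} (hs : s ∈ Wl F x i) (j : Fin k) : polar Q (x j) s = 0 := by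
  rw [polar_comm]
  exact Wl_polar (fun l _ => h.xx l j) hs

theorem Hs.Wl_Q (h : Hs Q k x y) {i : ℕ} {s : V} (hs : s ∈ Wl F x i) : Q s = 0 := by
  induction hs using Submodule.span_induction with
  | mem v hv =>
    obtain ⟨l, -, rfl⟩ := hv
    exact h.qx l
  | zero => rw [QuadraticMap.map_zero]
  | add v w hv hw h1 h2 =>
    rw [Q_add, h1, h2, Wl_polar (fun l _ => h.Wl_x hw l) hv]
    ring
  | smul c v _ h1 => rw [QuadraticMap.map_smul, h1, smul_zero]

theorem Hs.Wl_sum (h : Hs Q k x y) {i : ℕ} {s : V} (hs : s ∈ Wl F x i) : s = ∑ j, polar Q (y j) s • x j := by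
  induction hs using Submodule.span_induction with
  | mem v hv =>
    obtain ⟨l, -, rfl⟩ := hv
    rw [Finset.sum_eq_single l]
    · rw [polar_comm, h.xy, if_pos rfl, one_smul]
    · intro j _ hj
      rw [polar_comm, h.xy, if_neg (Ne.symm hj), zero_smul]
    · intro hl; exact absurd (Finset.mem_univ l) hl
  | zero => simp only [polar_zero_right, _root_.zero_smul, _root_.Finset.sum_const_zero]
  | add v w _ _ h1 h2 =>
    conv_lhs => rw [h1, h2]
    rw [← Finset.sum_add_distrib]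
    exact Finset.sum_congr rfl fun j _ => by rw [polar_add_right, add_smul]
  | smul c v _ h1 =>
    conv_lhs => rw [h1]
    rw [Finset.smul_sum]
    exact Finset.sum_congr rfl fun j _ => by rw [polar_smul_right, smul_smul, smul_eq_mul]

theorem Hs.Wl_eq_zero (h : Hs Q k x y) {i : ℕ} {s : V} (hs : s ∈ Wl F x i) (h0 : ∀ j, polar Q (y j) s = 0) : s = 0 := by
  rw [h.Wl_sum hs]
  exact Finset.sum_eq_zero fun j _ => by rw [h0, zero_smul]

/-- stability of the lower spans -/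
theorem Wl_stable {g : V ≃ₗ[F] V} (hg : ∀ i : Fin k, g (x i) - x i ∈ Wl F x i) {i : ℕ} {s : V} (hs : s ∈ Wl F x i) :
    g s ∈ Wl F x i := by
  induction hs using Submodule.span_induction with
  | mem v hv =>
    obtain ⟨l, hl, rfl⟩ := hv
    have h1 : g (x l) = (g (x l) - x l) + x l := by abel
    rw [h1]
    exact Submodule.add_mem _ (Wl_mono (le_of_lt hl) (hg l)) (mem_Wl hl)
  | zero => rw [map_zero]; exact Submodule.zero_mem _
  | add v w _ _ h1 h2 => rw [map_add]; exact Submodule.add_mem _ h1 h2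
  | smul c v _ h1 => rw [map_smul]; exact Submodule.smul_mem _ _ h1

theorem Hs.finrank_Wl [FiniteDimensional F V] (h : Hs Q k x y) : finrank F (Wl F x k) = k := by
  have h1 : Wl F x k = Submodule.span F (Set.range x) := by
    unfold Wl
    rw [← Set.image_univ]
    congr 2
    ext j
    simp
  have h2 : LinearIndependent F x := by
    rw [Fintype.linearIndependent_iff]
    intro c hc i
    have h3 := congrArg (polarBilin Q (y i)) hc
    rw [map_sum, map_zero, Finset.sum_eq_single i] at h3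
    · rw [map_smul, polarBilin_apply_apply, polar_comm, h.xy, if_pos rfl, smul_eq_mul, mul_one] at h3
      exact h3
    · intro j _ hj
      rw [map_smul, polarBilin_apply_apply, polar_comm, h.xy, if_neg hj, smul_zero]
    · intro hi; exact absurd (Finset.mem_univ i) hi
  rw [h1, finrank_span_eq_card h2, Fintype.card_fin]

section flag

variable [Finite F] [FiniteDimensional F V] {p : ℕ} [Fact p.Prime] [CharP F p]

/-- **Flags fixed by `p`-groups.** -/
theorem exists_flag (hN : Nondeg Q) {X : Subgroup (V ≃ₗ[F] V)} (hX : IsPGroup p X) (hXO : X ≤ O Q) (k : ℕ)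
    (hk : 2 * k + 1 ≤ finrank F V) :
    ∃ x y : Fin k → V, Hs Q k x y ∧ ∀ g ∈ X, ∀ i : Fin k, g (x i) - x i ∈ Wl F x i := by
  induction k with
  | zero =>
    exact ⟨fun i => i.elim0, fun i => i.elim0, ⟨fun i => i.elim0, fun i => i.elim0, fun i => i.elim0, fun i => i.elim0,
      fun i => i.elim0⟩, fun _ _ i => i.elim0⟩
  | succ k ih =>
    obtain ⟨x, y, h, hg⟩ := ih (by omega)
    set! hB := frm_polar Q with hBd
    have hmem : ∀ v, v ∈ hB.perp (Wl F x k) ↔ ∀ j, polar Q (x j) v = 0 := by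
      intro v
      constructor
      · intro hv j
        rw [polar_comm]
        exact hv _ (mem_Wl j.2)
      · intro hv s hs
        rw [BB_apply, polar_comm]
        exact Wl_polar (fun j _ => hv j) hs
    have hSX : ∀ g ∈ X, ∀ s ∈ Wl F x k, g s ∈ Wl F x k := fun g hgX s hs => Wl_stable (hg g hgX) hs
    have h1 := hB.finrank_add_perp_ge (Wl F x k)
    rw [h.finrank_Wl] at h1
    obtain ⟨v, hv, hvS, hvQ, hvX⟩ := exists_rel hX hXO (S := Wl F x k) (U := hB.perp (Wl F x k))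
      (fun s hs => (hmem s).2 fun j => h.Wl_x hs j) hSX (perp_stable hXO hSX)
      (fun u hu s hs => by
        have h2 : polar Q u s = 0 := hu s hs
        rw [Q_add, h.Wl_Q hs, h2]
        ring) (by rw [h.finrank_Wl]; omega)
    rw [hmem] at hv
    -- the new vector
    set! s := ∑ i, (polar Q (y i) v • x i + polar Q (x i) v • y i) with hs
    have hsW : s ∈ Wl F x k := by
      refine Submodule.sum_mem _ fun i _ => ?_
      rw [hv i, zero_smul, add_zero]
      exact Submodule.smul_mem _ _ (mem_Wl i.2)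
    have hpa : prj Q x y v = v - s := rfl
    set a := prj Q x y v with ha
    have hxa : ∀ i, polar Q (x i) a = 0 := h.polar_x_prj v
    have hya : ∀ i, polar Q (y i) a = 0 := h.polar_y_prj v
    have haQ : Q a = 0 := by
      have h2 : a = v + -s := by rw [hpa]; abel
      have h3 : polar Q v (-s) = 0 := by
        rw [polar_comm]
        exact Wl_polar (fun j _ => hv j) (Submodule.neg_mem _ hsW)
      rw [h2, Q_add, hvQ, h.Wl_Q (Submodule.neg_mem _ hsW), h3]
      ring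
    have ha0 : a ≠ 0 := by
      intro h0
      apply hvS
      have h2 : v = s := sub_eq_zero.1 (hpa ▸ h0)
      rw [h2]; exact hsW
    have haX : ∀ g ∈ X, g a - a ∈ Wl F x k := by
      intro g hgX
      have h2 : g a - a = (g v - v) - (g s - s) := by rw [hpa, map_sub]; abel
      rw [h2]
      exact Submodule.sub_mem _ (hvX g hgX) (Submodule.sub_mem _ (hSX g hgX s hsW) hsW)
    obtain ⟨u, hu⟩ : ∃ u, polar Q a u ≠ 0 := by
      by_contra hcon
      push Not at hcon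
      exact ha0 (hN a hcon)
    set! u' := prj Q x y u with hu'
    have hau' : polar Q a u' = polar Q a u := by
      rw [hu', prj, polar_sub_right]
      have h2 : polar Q a (∑ i, (polar Q (y i) u • x i + polar Q (x i) u • y i)) = 0 := by
        have h3 : polar Q a (∑ i, (polar Q (y i) u • x i + polar Q (x i) u • y i)) =
            polarBilin Q a (∑ i, (polar Q (y i) u • x i + polar Q (x i) u • y i)) := rfl
        rw [h3, map_sum]
        refine Finset.sum_eq_zero fun i _ => ?_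
        rw [map_add, map_smul, map_smul, polarBilin_apply_apply, polarBilin_apply_apply, polar_comm Q a (x i),
          polar_comm Q a (y i), hxa, hya, smul_zero, smul_zero, add_zero]
      rw [h2, sub_zero]
    set! c := (polar Q a u)⁻¹ with hc
    have h4 : polar Q a (c • u') = 1 := by
      rw [polar_smul_right, hau', smul_eq_mul, hc, inv_mul_cancel₀ hu]
    have haa : polar Q a a = 0 := by rw [polar_self, haQ, smul_zero]
    set! b := c • u' + (-(Q (c • u'))) • a with hb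
    have hbQ : Q b = 0 := by
      rw [hb, Q_add, QuadraticMap.map_smul Q (-(Q (c • u'))) a, haQ, polar_smul_right, polar_comm Q (c • u') a, h4,
        smul_eq_mul, smul_eq_mul]
      ring
    have hab : polar Q a b = 1 := by
      rw [hb, polar_add_right, h4, polar_smul_right, haa, smul_zero, add_zero]
    refine ⟨Fin.snoc x a, Fin.snoc y b, h.snoc haQ hbQ hab hxa hya (fun i => ?_) (fun i => ?_), fun g hgX i => ?_⟩
    · rw [hb, polar_add_right, polar_smul_right, polar_smul_right, hxa, h.polar_x_prj, smul_zero, smul_zero, add_zero]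
    · rw [hb, polar_add_right, polar_smul_right, polar_smul_right, hya, h.polar_y_prj, smul_zero, smul_zero, add_zero]
    · refine Fin.lastCases ?_ (fun i => ?_) i
      · rw [Fin.snoc_last, Fin.val_last, ]
        have h5 : Wl F (Fin.snoc x a : Fin (k + 1) → V) k = Wl F x k := by
          unfold Wl
          congr 1
          ext v
          constructor
          · rintro ⟨j, hj, rfl⟩
            refine Fin.lastCases (fun hj => ?_) (fun j hj => ?_) j hj
            · exact absurd hj (by simp)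
            · rw [Fin.snoc_castSucc]
              exact ⟨j, hj, rfl⟩
          · rintro ⟨j, hj, rfl⟩
            exact ⟨j.castSucc, hj, by rw [Fin.snoc_castSucc]⟩
        rw [h5]
        exact haX g hgX
      · rw [Fin.snoc_castSucc, Fin.val_castSucc, Wl_snoc]
        exact hg g hgX i

end flag

/-! ### The unipotent radical -/

/-- an element of order prime to the characteristic fixes `v` if it fixes `h v - v` -/
theorem fix_of_fix {h : V ≃ₗ[F] V} {m : ℕ} (hm : (m : F) ≠ 0) (hh : h ^ m = 1) {v : V} (hv : h (h v - v) = h v - v) :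
    h v = v := by
  have h1 : ∀ n : ℕ, (h ^ n) v = v + (n : F) • (h v - v) := by
    intro n
    induction n with
    | zero => simp only [_root_.pow_zero, _root_.LinearEquiv.coe_one, _root_.id_eq, _root_.Nat.cast_zero, _root_.zero_smul, _root_.add_zero]
    | succ n ih =>
      rw [pow_succ', LinearEquiv.mul_apply, ih, map_add, map_smul, hv, Nat.cast_succ, add_smul, one_smul]
      abel
  have h2 := h1 m
  rw [hh] at h2
  have h3 : (m : F) • (h v - v) = 0 := by
    have h4 : v = v + (m : F) • (h v - v) := h2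
    exact left_eq_add.1 h4
  exact sub_eq_zero.1 ((smul_eq_zero.1 h3).resolve_left hm)

/-- the condition for the radical -/
def IsK (Q : QuadraticForm F V) (x : Fin k → V) (g : V ≃ₗ[F] V) : Prop :=
  (∀ i : Fin k, g (x i) - x i ∈ Wl F x i) ∧ ∀ v, (∀ j, polar Q (x j) v = 0) → g v - v ∈ Wl F x k

theorem Wl_inv [FiniteDimensional F V] {g : V ≃ₗ[F] V} (hg : ∀ i : Fin k, g (x i) - x i ∈ Wl F x i) {i : ℕ} {s : V}
    (hs : s ∈ Wl F x i) : (g⁻¹ : V ≃ₗ[F] V) s ∈ Wl F x i := by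
  have h1 : (Wl F x i).map (g : V →ₗ[F] V) = Wl F x i := by
    apply Submodule.eq_of_le_of_finrank_eq
    · rintro _ ⟨s, hs, rfl⟩
      exact Wl_stable hg hs
    · exact LinearEquiv.finrank_map_eq g _
  rw [← h1] at hs
  obtain ⟨t, ht, rfl⟩ := hs
  have h2 : (g⁻¹ : V ≃ₗ[F] V) ((g : V →ₗ[F] V) t) = t := g.symm_apply_apply t
  rw [h2]
  exact ht

/-- the unipotent radical -/
def KK [FiniteDimensional F V] (Q : QuadraticForm F V) (x : Fin k → V) : Subgroup ↥(E Q) where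
  carrier := {g | IsK Q x (g : V ≃ₗ[F] V)}
  one_mem' := by
    refine ⟨fun i => ?_, fun v _ => ?_⟩
    · show x i - x i ∈ _
      rw [sub_self]; exact Submodule.zero_mem _
    · show v - v ∈ _
      rw [sub_self]; exact Submodule.zero_mem _
  mul_mem' := by
    rintro ⟨g, hgE⟩ ⟨h, hhE⟩ ⟨hg1, hg2⟩ ⟨hh1, hh2⟩
    have key : ∀ v, (g * h) v - v = g (h v - v) + (g v - v) := fun v => by
      rw [LinearEquiv.mul_apply, map_sub]; abel
    refine ⟨fun i => ?_, fun v hv => ?_⟩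
    · show (g * h) (x i) - x i ∈ _
      rw [key]
      exact Submodule.add_mem _ (Wl_stable hg1 (hh1 i)) (hg1 i)
    · show (g * h) v - v ∈ _
      rw [key]
      exact Submodule.add_mem _ (Wl_stable hg1 (hh2 v hv)) (hg2 v hv)
  inv_mem' := by
    rintro ⟨g, hgE⟩ ⟨hg1, hg2⟩
    have key : ∀ v, (g⁻¹ : V ≃ₗ[F] V) v - v = - (g⁻¹ : V ≃ₗ[F] V) (g v - v) := fun v => by
      have h2 : (g⁻¹ : V ≃ₗ[F] V) (g v) = v := g.symm_apply_apply v
      rw [map_sub, h2]; abel
    refine ⟨fun i => ?_, fun v hv => ?_⟩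
    · show (g⁻¹ : V ≃ₗ[F] V) (x i) - x i ∈ _
      rw [key]
      exact Submodule.neg_mem _ (Wl_inv hg1 (hg1 i))
    · show (g⁻¹ : V ≃ₗ[F] V) v - v ∈ _
      rw [key]
      exact Submodule.neg_mem _ (Wl_inv hg1 (hg2 v hv))

theorem IsK.trivial {h : V ≃ₗ[F] V} (hhO : h ∈ O Q) (hh : IsK Q x h) {m : ℕ} (hm : (m : F) ≠ 0) (hhm : h ^ m = 1) :
    h = 1 := by
  have hW : ∀ i : ℕ, (∀ j : Fin k, (j : ℕ) < i → h (x j) = x j) → ∀ s ∈ Wl F x i, h s = s := by
    intro i hi s hs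
    induction hs using Submodule.span_induction with
    | mem v hv =>
      obtain ⟨l, hl, rfl⟩ := hv
      exact hi l hl
    | zero => rw [map_zero]
    | add v w _ _ h1 h2 => rw [map_add, h1, h2]
    | smul c v _ h1 => rw [map_smul, h1]
  have h1 : ∀ n : ℕ, ∀ i : Fin k, (i : ℕ) = n → h (x i) = x i := by
    intro n
    induction n using Nat.strong_induction_on with
    | _ n ih =>
      intro i hi
      apply fix_of_fix hm hhm
      exact hW i (fun j hj => ih j (by omega) j rfl) _ (hh.1 i)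
  have h2 : ∀ v, (∀ j, polar Q (x j) v = 0) → h v = v := by
    intro v hv
    apply fix_of_fix hm hhm
    exact hW k (fun j _ => h1 j j rfl) _ (hh.2 v hv)
  apply LinearEquiv.ext
  intro v
  apply fix_of_fix hm hhm
  apply h2
  intro j
  rw [polar_sub_right, sub_eq_zero]
  conv_lhs => rw [← h1 j j rfl]
  exact polar_map hhO _ _

section syl

variable [Finite F] [FiniteDimensional F V] {p : ℕ} [Fact p.Prime] [CharP F p]

theorem KK_isPGroup : IsPGroup p (KK Q x) := by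
  have hfV : Finite V := Module.finite_of_finite F
  have hfin : Finite (V ≃ₗ[F] V) := DFunLike.finite _
  rintro ⟨g, hg⟩
  have hp : p.Prime := Fact.out
  obtain ⟨a, m, hm, ha⟩ := Nat.exists_eq_pow_mul_and_not_dvd (orderOf_pos g).ne' p hp.ne_one
  refine ⟨a, Subtype.ext ?_⟩
  show g ^ p ^ a = 1
  have h1 : g ^ p ^ a ∈ KK Q x := (KK Q x).pow_mem hg _
  have h2 : (((g ^ p ^ a : ↥(E Q)) : V ≃ₗ[F] V)) ^ m = 1 := by
    have h3 : (g ^ p ^ a) ^ m = 1 := by rw [← pow_mul, ← ha, pow_orderOf_eq_one]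
    exact congrArg Subtype.val h3
  have h3 : (m : F) ≠ 0 := fun h => hm ((CharP.cast_eq_zero_iff F p m).1 h)
  exact Subtype.ext (IsK.trivial (Q := Q) (x := x) (E_le_O (g ^ p ^ a).2) h1 h3 h2)

/-- **Sylow subgroups are radicals of flags.** -/
theorem exists_sylow (hN : Nondeg Q) (h2 : (2 : F) ≠ 0) (U : Sylow p ↥(E Q)) (hk : 2 * k + 1 ≤ finrank F V)
    (hk2 : finrank F V ≤ 2 * k + 2) : ∃ x y : Fin k → V, Hs Q k x y ∧ (U : Subgroup ↥(E Q)) = KK Q x := by
  have hX : IsPGroup p (((U : Subgroup ↥(E Q)).map (E Q).subtype :)) := U.isPGroup'.map _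
  have hXO : (U : Subgroup ↥(E Q)).map (E Q).subtype ≤ O Q := (Subgroup.map_subtype_le _).trans E_le_O
  obtain ⟨x, y, h, hg⟩ := exists_flag hN hX hXO k hk
  refine ⟨x, y, h, ?_⟩
  symm
  refine U.is_maximal' (KK_isPGroup (p := p)) fun g hgU => ?_
  have hgX : (g : V ≃ₗ[F] V) ∈ (U : Subgroup ↥(E Q)).map (E Q).subtype := ⟨g, hgU, rfl⟩
  refine ⟨hg _ hgX, fun v hv => ?_⟩
  refine sub_mem_of_end (p := p) h2 (hXO hgX) ?_ (S := Wl F x k) (U := ⊤) ?_ le_top (fun s hs => h.Wl_Q hs)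
    (fun s hs => Wl_stable (hg _ hgX) hs) (fun u _ => Submodule.mem_top) ?_ v Submodule.mem_top (fun s hs => ?_)
  · obtain ⟨j, hj⟩ := hX ⟨_, hgX⟩
    exact ⟨j, congrArg Subtype.val hj⟩
  · intro u _ hu
    by_contra hcon
    push Not at hcon
    exact hu (hN u fun v => hcon v Submodule.mem_top)
  · rw [finrank_top, h.finrank_Wl]
    exact hk2
  · rw [polar_comm]
    exact Wl_polar (fun j _ => hv j) hs

end syl

/-! ### the 2-group -/

theorem Hs.decomp (_h : Hs Q k x y) (v : V) :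
    v = ∑ i, (polar Q (y i) v • x i + polar Q (x i) v • y i) + prj Q x y v := by
  rw [prj]; abel

/-- two maps which agree on the system and its complement are equal -/
theorem Hs.ext (h : Hs Q k x y) {f g : V ≃ₗ[F] V} (hx : ∀ i, f (x i) = g (x i)) (hy : ∀ i, f (y i) = g (y i))
    (h0 : ∀ v, (∀ j, polar Q (x j) v = 0) → (∀ j, polar Q (y j) v = 0) → f v = g v) : f = g := by
  apply LinearEquiv.ext
  intro v
  rw [h.decomp v, map_add, map_add, map_sum, map_sum, h0 _ (h.polar_x_prj v) (h.polar_y_prj v)]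
  congr 1
  exact Finset.sum_congr rfl fun i _ => by rw [map_add, map_add, map_smul, map_smul, map_smul, map_smul, hx, hy]

/-- `w` orthogonal to the system and its complement is zero -/
theorem Hs.eq_zero (h : Hs Q k x y) (hN : Nondeg Q) {w : V} (hx : ∀ i, polar Q (x i) w = 0)
    (hy : ∀ i, polar Q (y i) w = 0)
    (h0 : ∀ v, (∀ j, polar Q (x j) v = 0) → (∀ j, polar Q (y j) v = 0) → polar Q v w = 0) : w = 0 := by
  apply hN
  intro v
  rw [polar_comm, h.decomp v, polar_add_left, h0 _ (h.polar_x_prj v) (h.polar_y_prj v), add_zero, polar_comm]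
  have h1 : polar Q w (∑ i, (polar Q (y i) v • x i + polar Q (x i) v • y i)) =
      polarBilin Q w (∑ i, (polar Q (y i) v • x i + polar Q (x i) v • y i)) := rfl
  rw [h1, map_sum]
  refine Finset.sum_eq_zero fun i _ => ?_
  rw [map_add, map_smul, map_smul, polarBilin_apply_apply, polarBilin_apply_apply, polar_comm Q w (x i),
    polar_comm Q w (y i), hx, hy, smul_zero, smul_zero, add_zero]

/-- scalars `± 1` on the planes, trivial on the complement -/
def IsA (Q : QuadraticForm F V) (x y : Fin k → V) (ε : Fin k → F) (g : V ≃ₗ[F] V) : Prop :=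
  (∀ i, g (x i) = ε i • x i) ∧ (∀ i, g (y i) = ε i • y i) ∧
    ∀ v, (∀ j, polar Q (x j) v = 0) → (∀ j, polar Q (y j) v = 0) → g v = v

/-- the 2-group -/
def AA (Q : QuadraticForm F V) (x y : Fin k → V) : Subgroup ↥(E Q) where
  carrier := {g | ∃ ε : Fin k → F, (∀ i, ε i * ε i = 1) ∧ IsA Q x y ε (g : V ≃ₗ[F] V)}
  one_mem' := ⟨fun _ => 1, fun _ => one_mul 1, fun i => (one_smul F _).symm, fun i => (one_smul F _).symm,
    fun _ _ _ => rfl⟩
  mul_mem' := by
    rintro ⟨g, hgE⟩ ⟨h, hhE⟩ ⟨ε, hε, hg1, hg2, hg3⟩ ⟨δ, hδ, hh1, hh2, hh3⟩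
    refine ⟨fun i => ε i * δ i, fun i => by rw [mul_mul_mul_comm, hε, hδ, one_mul], fun i => ?_, fun i => ?_,
      fun v hv hv' => ?_⟩
    · show (g * h) (x i) = _
      rw [LinearEquiv.mul_apply, hh1, map_smul]
      rw [show g (x i) = ε i • x i from hg1 i, smul_smul, mul_comm]
    · show (g * h) (y i) = _
      rw [LinearEquiv.mul_apply, hh2, map_smul]
      rw [show g (y i) = ε i • y i from hg2 i, smul_smul, mul_comm]
    · show (g * h) v = _
      rw [LinearEquiv.mul_apply, hh3 v hv hv']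
      exact hg3 v hv hv'
  inv_mem' := by
    rintro ⟨g, hgE⟩ ⟨ε, hε, hg1, hg2, hg3⟩
    have key : ∀ v, (g⁻¹ : V ≃ₗ[F] V) (g v) = v := fun v => g.symm_apply_apply v
    refine ⟨ε, hε, fun i => ?_, fun i => ?_, fun v hv hv' => ?_⟩
    · show (g⁻¹ : V ≃ₗ[F] V) (x i) = _
      have h1 := key (ε i • x i)
      rw [map_smul, show g (x i) = ε i • x i from hg1 i, smul_smul, hε, one_smul] at h1
      exact h1
    · show (g⁻¹ : V ≃ₗ[F] V) (y i) = _
      have h1 := key (ε i • y i)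
      rw [map_smul, show g (y i) = ε i • y i from hg2 i, smul_smul, hε, one_smul] at h1
      exact h1
    · show (g⁻¹ : V ≃ₗ[F] V) v = _
      have h1 := key v
      rw [show g v = v from hg3 v hv hv'] at h1
      exact h1

theorem Hs.AA_isPGroup (h : Hs Q k x y) : IsPGroup 2 (AA Q x y) := by
  rintro ⟨⟨g, hgE⟩, ε, hε, hg1, hg2, hg3⟩
  refine ⟨1, Subtype.ext (Subtype.ext ?_)⟩
  show g ^ 2 ^ 1 = 1
  rw [pow_one, pow_two]
  refine h.ext (fun i => ?_) (fun i => ?_) fun v hv hv' => ?_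
  · rw [LinearEquiv.mul_apply, show g (x i) = ε i • x i from hg1 i, map_smul, show g (x i) = ε i • x i from hg1 i,
      smul_smul, hε, one_smul]
    rfl
  · rw [LinearEquiv.mul_apply, show g (y i) = ε i • y i from hg2 i, map_smul, show g (y i) = ε i • y i from hg2 i,
      smul_smul, hε, one_smul]
    rfl
  · rw [LinearEquiv.mul_apply, show g v = v from hg3 v hv hv', show g v = v from hg3 v hv hv']
    rfl

theorem IsA.Wl {ε : Fin k → F} {g : V ≃ₗ[F] V} (hg : IsA Q x y ε g) {i : ℕ} {s : V} (hs : s ∈ Wl F x i) :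
    g s ∈ Wl F x i := by
  induction hs using Submodule.span_induction with
  | mem v hv =>
    obtain ⟨l, hl, rfl⟩ := hv
    rw [hg.1]
    exact Submodule.smul_mem _ _ (mem_Wl hl)
  | zero => rw [map_zero]; exact Submodule.zero_mem _
  | add v w _ _ h1 h2 => rw [map_add]; exact Submodule.add_mem _ h1 h2
  | smul c v _ h1 => rw [map_smul]; exact Submodule.smul_mem _ _ h1

/-- `A` normalises the radical -/
theorem AA_conj [FiniteDimensional F V] {a g : ↥(E Q)} (ha : a ∈ AA Q x y) (hg : g ∈ KK Q x) :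
    a * g * a⁻¹ ∈ KK Q x := by
  have hai := (AA Q x y).inv_mem ha
  obtain ⟨ε, hε, ha'⟩ := ha
  obtain ⟨δ, hδ, hai'⟩ := hai
  have key : ∀ v, ((a * g * a⁻¹ : ↥(E Q)) : V ≃ₗ[F] V) v - v = (a : V ≃ₗ[F] V)
      ((g : V ≃ₗ[F] V) (((a⁻¹ : ↥(E Q)) : V ≃ₗ[F] V) v) - ((a⁻¹ : ↥(E Q)) : V ≃ₗ[F] V) v) := by
    intro v
    rw [map_sub]
    congr 1
    exact ((a : V ≃ₗ[F] V).apply_symm_apply v).symm
  refine ⟨fun i => ?_, fun v hv => ?_⟩
  · rw [key, hai'.1, map_smul, ← smul_sub]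
    exact ha'.Wl (Submodule.smul_mem _ _ (hg.1 i))
  · rw [key]
    refine ha'.Wl (hg.2 _ fun j => ?_)
    have h1 : x j = δ j • (((a⁻¹ : ↥(E Q)) : V ≃ₗ[F] V) (x j)) := by
      rw [hai'.1, smul_smul, hδ, one_smul]
    rw [h1, polar_smul_left, polar_map (E_le_O (a⁻¹ : ↥(E Q)).2), hv, smul_zero]

theorem AA_le_normalizer [FiniteDimensional F V] : AA Q x y ≤ Subgroup.normalizer ((KK Q x : Subgroup ↥(E Q)) : Set ↥(E Q)) := by
  intro a ha
  rw [Subgroup.mem_normalizer_iff]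
  intro g
  constructor
  · exact fun hg => AA_conj ha hg
  · intro hg
    have h1 := AA_conj ((AA Q x y).inv_mem ha) hg
    have h2 : a⁻¹ * (a * g * a⁻¹) * a⁻¹⁻¹ = g := by group
    rwa [h2] at h1

/-- the sign changes on two planes -/
theorem Hs.exists_z (h : Hs Q k x y) (hG : Good Q) {i j : Fin k} (hij : i ≠ j) :
    ∃ g ∈ AA Q x y, IsA Q x y (fun l => if l = i ∨ l = j then -1 else 1) (g : V ≃ₗ[F] V) := by
  have hQp : ∀ l, Q (x l + y l) = 1 := fun l => by
    rw [Q_add, h.qx, h.qy, h.xy, if_pos rfl]; ring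
  have hQm : ∀ l, Q (x l - y l) = -1 := fun l => by
    rw [sub_eq_add_neg, Q_add, QuadraticMap.map_neg, h.qx, h.qy, polar_neg_right, h.xy, if_pos rfl]; ring
  have hp : ∀ l, Q (x l + y l) ≠ 0 := fun l => by rw [hQp]; exact one_ne_zero
  have hm : ∀ l, Q (x l - y l) ≠ 0 := fun l => by rw [hQm]; exact neg_ne_zero.2 one_ne_zero
  -- the product of the two reflections of a plane
  let R : Fin k → V ≃ₗ[F] V := fun l => refl Q (x l + y l) (hp l) * refl Q (x l - y l) (hm l)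
  have hR : ∀ l v, R l v = v - (polar Q (y l) v • x l + polar Q (x l) v • y l) -
      (polar Q (y l) v • x l + polar Q (x l) v • y l) := by
    intro l v
    show refl Q (x l + y l) (hp l) (refl Q (x l - y l) (hm l) v) = _
    rw [refl_apply, refl_apply, hQp, hQm, polar_sub_right, polar_smul_right, polar_add_left, polar_add_left,
      polar_sub_left, polar_sub_right, polar_sub_right, h.xx, h.xy, h.yy, if_pos rfl, polar_comm Q (y l) (x l), h.xy,
      if_pos rfl]
    have : ((-1 : F))⁻¹ = -1 := by norm_num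
    rw [this, inv_one]
    simp only [smul_eq_mul]
    module
  have hcomm : refl Q (x i - y i) (hm i) * refl Q (x j + y j) (hp j) =
      refl Q (x j + y j) (hp j) * refl Q (x i - y i) (hm i) := by
    have h1 : polar Q (x i - y i) (x j + y j) = 0 := by
      rw [polar_sub_left, polar_add_right, polar_add_right, h.xx, h.yy, h.xy, if_neg hij, polar_comm Q (y i) (x j), h.xy,
        if_neg (Ne.symm hij)]
      ring
    apply LinearEquiv.ext
    intro v
    rw [LinearEquiv.mul_apply, LinearEquiv.mul_apply, refl_apply, refl_apply, refl_apply, refl_apply, polar_sub_right,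
      polar_sub_right, polar_smul_right, polar_smul_right, h1, polar_comm Q (x j + y j) (x i - y i), h1, smul_zero,
      smul_zero, sub_zero, sub_zero]
    abel
  have hE : R i * R j ∈ E Q := by
    have h1 : R i * R j = (refl Q (x i + y i) (hp i) * refl Q (x j + y j) (hp j)) *
        (refl Q (x i - y i) (hm i) * refl Q (x j - y j) (hm j)) := by
      show refl Q (x i + y i) (hp i) * refl Q (x i - y i) (hm i) *
        (refl Q (x j + y j) (hp j) * refl Q (x j - y j) (hm j)) = _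
      rw [mul_assoc, ← mul_assoc (refl Q (x i - y i) (hm i)), hcomm, mul_assoc, ← mul_assoc]
    rw [h1]
    exact E_mul (hG.refl_mul_refl_mem (hp j) (hp i) (by rw [hQp, hQp]))
      (hG.refl_mul_refl_mem (hm j) (hm i) (by rw [hQm, hQm]))
  have hRx : ∀ l l', R l (x l') = if l' = l then -x l' else x l' := by
    intro l l'
    rw [hR, polar_comm Q (y l) (x l'), h.xy, h.xx]
    split_ifs with hl
    · subst hl; module
    · module
  have hRy : ∀ l l', R l (y l') = if l' = l then -y l' else y l' := by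
    intro l l'
    rw [hR, h.yy, h.xy]
    split_ifs with h1 h2 h2
    · subst h1; module
    · exact absurd h1.symm h2
    · exact absurd h2.symm h1
    · module
  have hA : IsA Q x y (fun l => if l = i ∨ l = j then -1 else 1) (R i * R j) := by
    refine ⟨fun l => ?_, fun l => ?_, fun v hv hv' => ?_⟩
    · rw [LinearEquiv.mul_apply, hRx]
      dsimp only
      by_cases h1 : l = j
      · subst h1
        rw [if_pos rfl, map_neg, hRx, if_neg (Ne.symm hij), if_pos (Or.inr rfl), neg_one_smul]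
      · rw [if_neg h1, hRx]
        by_cases h2 : l = i
        · rw [if_pos h2, if_pos (Or.inl h2), neg_one_smul]
        · rw [if_neg h2, if_neg (by rintro (h | h); exacts [h2 h, h1 h]), one_smul]
    · rw [LinearEquiv.mul_apply, hRy]
      dsimp only
      by_cases h1 : l = j
      · subst h1
        rw [if_pos rfl, map_neg, hRy, if_neg (Ne.symm hij), if_pos (Or.inr rfl), neg_one_smul]
      · rw [if_neg h1, hRy]
        by_cases h2 : l = i
        · rw [if_pos h2, if_pos (Or.inl h2), neg_one_smul]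
        · rw [if_neg h2, if_neg (by rintro (h | h); exacts [h2 h, h1 h]), one_smul]
    · rw [LinearEquiv.mul_apply, hR, hR, hv j, hv' j]
      simp only [zero_smul, add_zero, sub_zero, hv i, hv' i]
  refine ⟨⟨R i * R j, hE⟩, ⟨_, fun l => ?_, hA⟩, hA⟩
  split_ifs <;> norm_num

/-- **The centraliser of `A` in the radical is trivial.** -/
theorem Hs.centralizer_eq_one [FiniteDimensional F V] (h : Hs Q k x y) (hG : Good Q) (h2 : (2 : F) ≠ 0) (hk : 3 ≤ k)
    {g : ↥(E Q)} (hg : g ∈ KK Q x) (hc : ∀ a ∈ AA Q x y, a * g = g * a) : g = 1 := by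
  obtain ⟨g', hgE⟩ := g
  have hgO : g' ∈ O Q := E_le_O hgE
  have key : ∀ c : F, c = -c → c = 0 := by
    intro c hc
    have : (2 : F) * c = 0 := by linear_combination hc
    exact (mul_eq_zero.1 this).resolve_left h2
  -- the rule
  have rule : ∀ (a : ↥(E Q)), a ∈ AA Q x y → ∀ (u v : V) (δ ε : F), (a : V ≃ₗ[F] V) u = δ • u →
      (a : V ≃ₗ[F] V) v = ε • v → polar Q u (g' v - v) = δ * ε * polar Q u (g' v - v) := by
    intro a ha u v δ ε hu hv
    have h1 : (a : V ≃ₗ[F] V) (g' v) = g' ((a : V ≃ₗ[F] V) v) :=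
      congrArg (fun t : ↥(E Q) => (t : V ≃ₗ[F] V) v) (hc a ha)
    have h3 : (a : V ≃ₗ[F] V) (g' v - v) = ε • (g' v - v) := by
      rw [map_sub, h1, hv, map_smul, smul_sub]
    calc polar Q u (g' v - v) = polar Q ((a : V ≃ₗ[F] V) u) ((a : V ≃ₗ[F] V) (g' v - v)) :=
          (polar_map (E_le_O a.2) _ _).symm
      _ = _ := by rw [h3, hu, polar_smul_left, polar_smul_right, smul_eq_mul, smul_eq_mul, mul_assoc]
  have hex : ∀ i j : Fin k, ∃ l : Fin k, l ≠ i ∧ l ≠ j := by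
    intro i j
    have h3 : 2 < Fintype.card (Fin k) := by rw [Fintype.card_fin]; omega
    obtain ⟨a, b, c, hab, hac, hbc⟩ := Fintype.two_lt_card_iff.1 h3
    by_cases h4 : a = i ∨ a = j
    · by_cases h5 : b = i ∨ b = j
      · refine ⟨c, ?_, ?_⟩
        · rintro rfl
          rcases h4 with h4 | h4
          · exact hac h4
          · rcases h5 with h5 | h5
            · exact hbc h5
            · exact hab (h4.trans h5.symm)
        · rintro rfl
          rcases h4 with h4 | h4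
          · rcases h5 with h5 | h5
            · exact hab (h4.trans h5.symm)
            · exact hbc h5
          · exact hac h4
      · exact ⟨b, fun h => h5 (Or.inl h), fun h => h5 (Or.inr h)⟩
    · exact ⟨a, fun h => h4 (Or.inl h), fun h => h4 (Or.inr h)⟩
  -- `z` is `- 1` on the plane `i`, trivial on the plane `j ≠ i` and the complement
  have hz : ∀ i j : Fin k, i ≠ j → ∃ a ∈ AA Q x y, (a : V ≃ₗ[F] V) (x i) = (-1 : F) • x i ∧
      (a : V ≃ₗ[F] V) (y i) = (-1 : F) • y i ∧ (a : V ≃ₗ[F] V) (x j) = (1 : F) • x j ∧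
      (a : V ≃ₗ[F] V) (y j) = (1 : F) • y j ∧
      ∀ v, (∀ j, polar Q (x j) v = 0) → (∀ j, polar Q (y j) v = 0) → (a : V ≃ₗ[F] V) v = (1 : F) • v := by
    intro i j hij
    obtain ⟨l, hl1, hl2⟩ := hex i j
    obtain ⟨a, ha, ha1, ha2, ha3⟩ := h.exists_z hG (Ne.symm hl1)
    refine ⟨a, ha, ?_, ?_, ?_, ?_, fun v hv hv' => by rw [one_smul]; exact ha3 v hv hv'⟩
    · rw [ha1]; dsimp only; rw [if_pos (Or.inl rfl)]
    · rw [ha2]; dsimp only; rw [if_pos (Or.inl rfl)]
    · rw [ha1]; dsimp only; rw [if_neg (by rintro (h | h); exacts [hij h.symm, hl2 h.symm])]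
    · rw [ha2]; dsimp only; rw [if_neg (by rintro (h | h); exacts [hij h.symm, hl2 h.symm])]
  have hneg : ∀ {c : F}, c = -1 * 1 * c → c = 0 := fun {c} hc => key c (by linear_combination hc)
  have hneg' : ∀ {c : F}, c = 1 * -1 * c → c = 0 := fun {c} hc => key c (by linear_combination hc)
  have hne : ∃ i j : Fin k, i ≠ j := ⟨⟨0, by omega⟩, ⟨1, by omega⟩, fun h => absurd (congrArg Fin.val h) (by norm_num)⟩
  -- the vectors `x i`
  have hx : ∀ i, g' (x i) = x i := by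
    intro i
    have hw : g' (x i) - x i ∈ Wl F x i := hg.1 i
    refine sub_eq_zero.1 (h.Wl_eq_zero hw fun j => ?_)
    by_cases hij : i = j
    · subst hij
      rw [polar_comm]
      exact Wl_polar (fun l hl => by
        rw [h.xy, if_neg]
        rintro rfl
        exact absurd hl (lt_irrefl _)) hw
    · obtain ⟨a, ha, hax, hay, -, hayj, -⟩ := hz i j hij
      exact hneg' (rule a ha (y j) (x i) _ _ hayj hax)
  -- the complement
  have h0 : ∀ v, (∀ j, polar Q (x j) v = 0) → (∀ j, polar Q (y j) v = 0) → g' v = v := by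
    intro v hv hv'
    have hw : g' v - v ∈ Wl F x k := hg.2 v hv
    refine sub_eq_zero.1 (h.Wl_eq_zero hw fun j => ?_)
    obtain ⟨l, hl, -⟩ := hex j j
    obtain ⟨a, ha, -, hay, -, -, ha0⟩ := hz j l (Ne.symm hl)
    exact hneg (rule a ha (y j) v _ _ hay (ha0 v hv hv'))
  -- the vectors `y i`
  have hy : ∀ i, g' (y i) = y i := by
    intro i
    have h1 : ∀ j, polar Q (x j) (g' (y i) - y i) = 0 := by
      intro j
      rw [polar_sub_right, sub_eq_zero]
      conv_lhs => rw [← hx j]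
      exact polar_map hgO _ _
    have h3 : ∀ v, (∀ j, polar Q (x j) v = 0) → (∀ j, polar Q (y j) v = 0) → polar Q v (g' (y i) - y i) = 0 := by
      intro v hv hv'
      rw [polar_sub_right, sub_eq_zero]
      conv_lhs => rw [← h0 v hv hv']
      exact polar_map hgO _ _
    have h4 : ∀ j, j ≠ i → polar Q (y j) (g' (y i) - y i) = 0 := by
      intro j hj
      obtain ⟨a, ha, -, hay, -, hayj, -⟩ := hz i j (Ne.symm hj)
      exact hneg' (rule a ha (y j) (y i) _ _ hayj hay)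
    set! c := polar Q (y i) (g' (y i) - y i) with hc
    have h5 : g' (y i) - y i - c • x i = 0 := by
      refine h.eq_zero hG.nondeg (fun j => ?_) (fun j => ?_) fun v hv hv' => ?_
      · rw [polar_sub_right, h1, polar_smul_right, h.xx, smul_zero, sub_zero]
      · rw [polar_sub_right, polar_smul_right, polar_comm Q (y j) (x i), h.xy]
        by_cases hj : j = i
        · subst hj
          rw [if_pos rfl, ← hc, smul_eq_mul, mul_one, sub_self]
        · rw [h4 j hj, if_neg (Ne.symm hj), smul_zero, sub_zero]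
      · rw [polar_sub_right, h3 v hv hv', polar_smul_right, polar_comm, hv, smul_zero, sub_zero]
    have h6 : g' (y i) = y i + c • x i := by
      have := sub_eq_zero.1 h5
      rw [← this]; abel
    have h7 : Q (g' (y i)) = Q (y i) := hgO (y i)
    rw [h6, Q_add, QuadraticMap.map_smul, h.qx, h.qy, polar_smul_right, polar_comm, h.xy, if_pos rfl, smul_zero,
      smul_eq_mul, mul_one] at h7
    have h8 : c = 0 := by linear_combination h7
    rw [h6, h8, zero_smul, add_zero]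
  exact Subtype.ext (h.ext hx hy h0)

/-! ### the conclusion -/

section inv

open Cfsg.Agent.H892.EP

theorem inv2_E [Finite F] [FiniteDimensional F V] {p : ℕ} [Fact p.Prime] [CharP F p] (hG : _root_.Cfsg.Agent.LieClassical.OrthTrans.Good Q)
    (h2 : (2 : F) ≠ 0) (h7 : 7 ≤ finrank F V) : Inv2 p ↥(E Q) := by
  obtain ⟨U⟩ : Nonempty (Sylow p ↥(E Q)) := inferInstance
  obtain ⟨x, y, h, hU⟩ := exists_sylow (k := (finrank F V - 1) / 2) hG.nondeg h2 U (by omega) (by omega)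
  refine ⟨U, AA Q x y, h.AA_isPGroup, ?_, fun u hu hc => ?_⟩
  · rw [hU]
    exact AA_le_normalizer
  · rw [hU] at hu
    exact h.centralizer_eq_one hG h2 (by omega) hu hc

universe u v

/-- passing to quotients by kernels of exponent 2 -/
theorem Inv2.of_surj {G : Type u} {L : Type v} [Group G] [Group L] [Finite G] {r : ℕ} [Fact r.Prime] (hr : r ≠ 2)
    (h : Inv2 r G) (φ : G →* L) (hφ : Function.Surjective φ) (hk : ∀ g, φ g = 1 → g * g = 1) : Inv2 r L := by
  obtain ⟨U, A, hA, hn, hfix⟩ := h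
  refine ⟨U.mapSurjective hφ, A.map φ, hA.map _, ?_, ?_⟩
  · rintro _ ⟨a, ha, rfl⟩
    have h1 := hn ha
    rw [Subgroup.mem_normalizer_iff] at h1 ⊢
    intro l
    constructor
    · rintro ⟨u, hu, rfl⟩
      exact ⟨a * u * a⁻¹, (h1 u).1 hu, by rw [map_mul, map_mul, map_inv]⟩
    · rintro ⟨u, hu, hul⟩
      refine ⟨a⁻¹ * u * a, ?_, ?_⟩
      · apply (h1 _).2
        have h3 : a * (a⁻¹ * u * a) * a⁻¹ = u := by group
        rw [h3]
        exact hu
      · rw [map_mul, map_mul, map_inv, hul]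
        group
  · rintro _ ⟨u, hu, rfl⟩ hc
    have h1 : u = 1 := by
      refine hfix u hu fun a ha => ?_
      have h3 := hc (φ a) ⟨a, ha, rfl⟩
      have h4 : φ (a * u * a⁻¹ * u⁻¹) = 1 := by
        rw [map_mul, map_mul, map_mul, map_inv, map_inv, h3]
        group
      have h5 : a * u * a⁻¹ * u⁻¹ ∈ (U : Subgroup G) :=
        (U : Subgroup G).mul_mem ((Subgroup.mem_normalizer_iff.1 (hn ha) u).1 hu) ((U : Subgroup G).inv_mem hu)
      have h6 := hk _ h4
      obtain ⟨j, hj⟩ := U.isPGroup' ⟨_, h5⟩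
      have hj' : (a * u * a⁻¹ * u⁻¹) ^ r ^ j = 1 := congrArg Subtype.val hj
      have h7 : a * u * a⁻¹ * u⁻¹ = 1 := by
        rw [← orderOf_eq_one_iff]
        have h8 : orderOf (a * u * a⁻¹ * u⁻¹) ∣ 2 := orderOf_dvd_of_pow_eq_one (by rw [pow_two]; exact h6)
        have h9 : orderOf (a * u * a⁻¹ * u⁻¹) ∣ r ^ j := orderOf_dvd_of_pow_eq_one hj'
        have h10 : Nat.Coprime 2 (r ^ j) := Nat.Coprime.pow_right _
          ((Nat.coprime_primes Nat.prime_two Fact.out).2 (Ne.symm hr))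
        exact Nat.eq_one_of_dvd_coprimes h10 h8 h9
      calc a * u = (a * u * a⁻¹ * u⁻¹) * (u * a) := by group
        _ = u * a := by rw [h7, one_mul]
    rw [h1, map_one]

open Cfsg.Agent.AutOrth.Main Cfsg.Agent.LieClassical.OrthSimple Cfsg.Agent.ClassicalGeometry.OrthAut1
open Cfsg.Agent.LieClassical.QuadForms Cfsg

theorem mul_self_of_center {F V : Type*} [Field F] [AddCommGroup V] [Module F V] {Q : QuadraticForm F V}
    (hG : _root_.Cfsg.Agent.LieClassical.OrthTrans.Good Q) {z : ↥(E Q)} (hz : z ∈ Subgroup.center ↥(E Q)) : z * z = 1 := by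
  obtain ⟨c, hc⟩ := center_scalar hG hz
  obtain ⟨a, b, hab⟩ := hG.exists_hyp
  have h1 : Q (a + b) = 1 := by
    rw [Q_add, hab.left, hab.right, hab.pair]
    ring
  have h2 : Q ((z : V ≃ₗ[F] V) (a + b)) = Q (a + b) := E_le_O z.2 _
  rw [hc, QuadraticMap.map_smul, h1, smul_eq_mul, mul_one] at h2
  apply Subtype.ext
  apply LinearEquiv.ext
  intro v
  show (z : V ≃ₗ[F] V) ((z : V ≃ₗ[F] V) v) = v
  rw [hc, hc, smul_smul, h2, one_smul]

seal _root_.Finset.sum _root_.dotProduct in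
theorem parU_POmega {F : Type*} [Field F] [Finite F] {ι : Type} [Fintype ι] [DecidableEq ι]
    {Q : QuadraticForm F (ι → F)} {p : ℕ} [Fact p.Prime] [CharP F p] (hG : _root_.Cfsg.Agent.LieClassical.OrthTrans.Good Q) (hp : p ≠ 2)
    (h7 : 7 ≤ Fintype.card ι) {Q' : (ι → F) → F} (hQ : ⇑Q = Q') : ParU p (Cfsg.POmega F Q') := by
  subst hQ
  have h2 : (2 : F) ≠ 0 := by
    intro h
    have h1 : ((2 : ℕ) : F) = 0 := by exact_mod_cast h
    rw [CharP.cast_eq_zero_iff F p, Nat.prime_dvd_prime_iff_eq Fact.out Nat.prime_two] at h1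
    exact hp h1
  have hfV : Finite (ι → F) := inferInstance
  have hfin : Finite ((ι → F) ≃ₗ[F] (ι → F)) := DFunLike.finite _
  have hfO : Finite (Cfsg.POmega F (⇑Q)) := inferInstance
  refine parU_of_inv2 hp (Inv2.of_surj hp (inv2_E hG h2 (by rwa [Module.finrank_fintype_fun_eq_card]))
    ((((pe hG).symm : P Q →* Cfsg.POmega F (⇑Q)).comp (QuotientGroup.mk' (Subgroup.center ↥(E Q))) :))
    ((pe hG).symm.surjective.comp (QuotientGroup.mk'_surjective _)) fun g hg => ?_)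
  apply mul_self_of_center hG
  rw [← QuotientGroup.eq_one_iff]
  exact (pe hG).symm.injective (hg.trans (map_one (pe hG).symm).symm)

section rows

variable {F : Type} [Field F] [Fintype F] {r : ℕ} [Fact r.Prime] [CharP F r]

theorem pu_oodd (hr : r ≠ 2) {m : ℕ} (hm : 3 ≤ m) : ParU r (POmega F (quadFormOdd m F)) := by
  have h2 : (2 : F) ≠ 0 := by
    intro h
    have h1 : ((2 : ℕ) : F) = 0 := by exact_mod_cast h
    rw [CharP.cast_eq_zero_iff F r, Nat.prime_dvd_prime_iff_eq Fact.out Nat.prime_two] at h1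
    exact hr h1
  exact parU_POmega (good_odd (by omega) h2) hr (by simp only [_root_.Fintype.card_sum, _root_.Fintype.card_unique, _root_.Fintype.card_fin]; omega) (coe_oddForm m)

theorem pu_oplus (hr : r ≠ 2) {m : ℕ} (hm : 4 ≤ m) : ParU r (POmega F (quadFormPlus m F)) :=
  parU_POmega (good_plus (by omega)) hr (by simp only [_root_.Fintype.card_sum, _root_.Fintype.card_fin]; omega) (coe_plusForm m)

theorem pu_ominus (hr : r ≠ 2) {m : ℕ} (hm : 4 ≤ m) (a b : F)
    (hab : ∀ z₁ z₂ : F, z₁ ^ 2 + a * z₁ * z₂ + b * z₂ ^ 2 = 0 → z₁ = 0 ∧ z₂ = 0) :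
    ParU r (POmega F (quadFormMinus (m - 1) F a b)) :=
  parU_POmega (good_minus (by omega) hab) hr (by simp only [_root_.Fintype.card_sum, _root_.Fintype.card_fin, _root_.Nat.reduceLeDiff]; omega) (coe_minusForm (m - 1) a b)

end rows

end inv

end Cfsg.Agent.H485.EP
end

-- part: H334/EP/Inv
section
/-!
# `Inv2` for groups with a root group datum of odd characteristic (S4929)

If for every fundamental root some element of the (abelian) torus inverts the root group, the 2-part of the torus has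
trivial centraliser in `U`.
-/

set_option autoImplicit false
set_option linter.unusedSectionVars false

namespace Cfsg.Agent.H334.EP

open CoxeterSystem Cfsg.Agent.ChevalleyStructure.CoxeterGeom Cfsg.Agent.Tits.Roots Cfsg.Agent.Tits.Core
  Cfsg.Agent.Tits.Exchange Cfsg.Agent.Nodes.Reps
  Cfsg.Agent.Nodes.BNOf Cfsg.Agent.Nodes.StabComb
  Cfsg.Agent.Nodes.RGDLib Cfsg.Agent.Nodes.Bruhat Cfsg.Agent.Nodes.OppDec Cfsg.Agent.Nodes.LeviDec
  Cfsg.Agent.Nodes.NormalForm Cfsg.Agent.H892.EP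

variable {I W Y : Type*} [Fintype I] [DecidableEq I] [Group W] [Group Y] {M : CoxeterMatrix I}
  {cs : CoxeterSystem M W} {A : I → I → ℤ} {h : IsCartan M A} {r : ℕ} {T : Subgroup Y} {n : I → Y}
  {X : (I → ℤ) → Subgroup Y}

/-- the elements of 2-power order of an abelian group -/
def twoPart (T : Subgroup Y) (hT : ∀ a ∈ T, ∀ b ∈ T, a * b = b * a) : Subgroup Y where
  carrier := {s | s ∈ T ∧ ∃ k : ℕ, s ^ 2 ^ k = 1}
  one_mem' := ⟨one_mem _, 0, one_pow _⟩
  mul_mem' := by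
    rintro a b ⟨ha, k, hk⟩ ⟨hb, l, hl⟩
    refine ⟨mul_mem ha hb, k + l, ?_⟩
    have hc : Commute a b := hT a ha b hb
    rw [hc.mul_pow, pow_add, pow_mul, hk, one_pow, one_mul, mul_comm (2 ^ k), pow_mul, hl, one_pow]
  inv_mem' := by
    rintro a ⟨ha, k, hk⟩
    exact ⟨inv_mem ha, k, by rw [inv_pow, hk, inv_one]⟩

theorem isPGroup_twoPart (T : Subgroup Y) (hT : ∀ a ∈ T, ∀ b ∈ T, a * b = b * a) : IsPGroup 2 (twoPart T hT) := by
  rintro ⟨s, hs, k, hk⟩
  exact ⟨k, Subtype.ext hk⟩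

/-- an odd power of an element inverting `a` inverts `a` -/
theorem conj_odd_pow {t : Y} {S : Subgroup Y} (ht : ∀ a ∈ S, t * a * t⁻¹ = a⁻¹) {m : ℕ} (hm : Odd m) {a : Y} (ha : a ∈ S) :
    t ^ m * a * (t ^ m)⁻¹ = a⁻¹ := by
  obtain ⟨j, rfl⟩ := hm
  have h2 : ∀ j : ℕ, t ^ (2 * j) * a * (t ^ (2 * j))⁻¹ = a := by
    intro j
    induction j with
    | zero => simp
    | succ j ih =>
      have e : t ^ (2 * (j + 1)) = t * t * t ^ (2 * j) := by
        rw [mul_add, mul_one, pow_add, pow_two, ← mul_assoc]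
        have : Commute (t ^ (2 * j)) t := Commute.pow_self t _
        calc t ^ (2 * j) * t * t = t * t ^ (2 * j) * t := by rw [this.eq]
          _ = t * (t ^ (2 * j) * t) := by rw [mul_assoc]
          _ = t * (t * t ^ (2 * j)) := by rw [this.eq]
          _ = t * t * t ^ (2 * j) := by rw [mul_assoc]
      calc t ^ (2 * (j + 1)) * a * (t ^ (2 * (j + 1)))⁻¹
          = t * (t * (t ^ (2 * j) * a * (t ^ (2 * j))⁻¹) * t⁻¹) * t⁻¹ := by rw [e]; group
        _ = a := by rw [ih, ht a ha, ht _ (inv_mem ha), inv_inv]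
  calc t ^ (2 * j + 1) * a * (t ^ (2 * j + 1))⁻¹ = t * (t ^ (2 * j) * a * (t ^ (2 * j))⁻¹) * t⁻¹ := by
        rw [pow_succ']; group
    _ = a⁻¹ := by rw [h2, ht a ha]

/-- **`Inv2` from a root group datum.** -/
theorem inv2_of_rgd [Finite W] [Finite Y] [Fact r.Prime] (hr : r ≠ 2) (R : RGD cs h r T n X) (hG : G1 cs h X = ⊤)
    (hT : ∀ a ∈ T, ∀ b ∈ T, a * b = b * a)
    (hinv : ∀ i, ∃ t ∈ T, ∀ a ∈ X (sr i), t * a * t⁻¹ = a⁻¹) : Inv2 r Y := by
  have hGG : GG cs h T X = ⊤ := by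
    have h1 : RGD.Sup X {x | IsRoot cs h x} = ⊤ := hG
    unfold GG
    rw [h1]
    exact sup_top_eq _
  refine ⟨⟨RGD.Sup X (RGD.Pos cs h), R.isPGroup_Upos, fun {Q} hQ hle => eq_U_of_isPGroup R hQ hle (by rw [hGG]; exact le_top)⟩,
    twoPart T hT, isPGroup_twoPart T hT, ?_, ?_⟩
  · intro s hs
    exact R.T_le_normalizer_U hs.1
  · intro u hu hc
    have hu' : u ∈ RGD.Sup X (RGD.Pos cs h) := hu
    have h1 : u ∈ RGD.Sup X (RGD.Pos cs h) ⊓ Subgroup.centralizer (twoPart T hT : Set Y) :=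
      Subgroup.mem_inf.2 ⟨hu', Subgroup.mem_centralizer_iff.2 fun s hs => hc s hs⟩
    rw [centralizer_U R (fun s hs => hs.1)] at h1
    have h2 : RGD.Sup (fun x => X x ⊓ Subgroup.centralizer (twoPart T hT : Set Y)) (RGD.Pos cs h) ≤ ⊥ := by
      refine RGD.Sup_le fun x hx => ?_
      obtain ⟨w, i, rfl⟩ := hx.1
      rintro a ⟨ha, hac⟩
      rw [Subgroup.mem_bot]
      obtain ⟨k, hk⟩ := exists_rp cs R.nsys w
      obtain ⟨t, ht, hti⟩ := hinv i
      -- the 2-part of `t`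
      have hn0 : orderOf t ≠ 0 := (orderOf_pos t).ne'
      obtain ⟨e, m, hm, hem⟩ := Nat.exists_eq_two_pow_mul_odd hn0
      have h2t : (t ^ m) ^ 2 ^ e = 1 := by
        rw [← pow_mul, mul_comm, ← hem, pow_orderOf_eq_one]
      have hb : k⁻¹ * a * k ∈ X (sr i) := by
        have h3 := R.conj_mem' hk (isRoot_sr cs h i |>.act w) ha
        rwa [rep_inv_apply] at h3
      have hs : k * t ^ m * k⁻¹ ∈ twoPart T hT := by
        refine ⟨?_, e, ?_⟩
        · have h3 : k * t ^ m * k⁻¹ ∈ cj k T := conj_mem_cj.2 (pow_mem ht m)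
          rwa [cj_T R hk] at h3
        · rw [conj_pow, h2t, mul_one, mul_inv_cancel]
      have hcomm := Subgroup.mem_centralizer_iff.1 hac _ hs
      have h4 := conj_odd_pow hti hm hb
      have h5 : t ^ m * (k⁻¹ * a * k) * (t ^ m)⁻¹ = k⁻¹ * a * k := by
        calc t ^ m * (k⁻¹ * a * k) * (t ^ m)⁻¹ = k⁻¹ * ((k * t ^ m * k⁻¹) * a) * (k * t ^ m * k⁻¹)⁻¹ * k := by group
          _ = k⁻¹ * (a * (k * t ^ m * k⁻¹)) * (k * t ^ m * k⁻¹)⁻¹ * k := by rw [hcomm]
          _ = k⁻¹ * a * k := by group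
      rw [h5] at h4
      have h6 : (k⁻¹ * a * k) * (k⁻¹ * a * k) = 1 := by
        nth_rewrite 1 [h4]
        exact inv_mul_cancel _
      have h7 : k⁻¹ * a * k = 1 := by
        obtain ⟨j, hj⟩ := R.pgrp i ⟨k⁻¹ * a * k, hb⟩
        have hj' : (k⁻¹ * a * k) ^ r ^ j = 1 := congrArg Subtype.val hj
        have ho : Odd (r ^ j) := ((Fact.out : r.Prime).odd_of_ne_two hr).pow
        obtain ⟨l, hl⟩ := ho
        rw [hl, pow_add, pow_mul, pow_two, h6, one_pow, one_mul, pow_one] at hj'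
        exact hj'
      calc a = k * (k⁻¹ * a * k) * k⁻¹ := by group
        _ = 1 := by rw [h7, mul_one, mul_inv_cancel]
    exact Subgroup.mem_bot.1 (h2 h1)

end Cfsg.Agent.H334.EP
end

-- part: H334/EP/InvTab
section
/-!
# Torus elements inverting the fundamental root groups (S4929)
-/

set_option autoImplicit false
set_option linter.unusedSectionVars false

namespace Cfsg.Agent.H334.EP

open CoxeterSystem Cfsg.Agent.ChevalleyStructure.CoxeterGeom Cfsg.Agent.Tits.Roots Cfsg.Agent.Tits.Core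
  Cfsg.Agent.Nodes.BNOf Cfsg.Agent.Nodes.RGDTwGen Cfsg.Agent.Nodes.RGDChev Cfsg.Agent.Nodes.RGDFold
  Cfsg.Agent.Nodes.RGDFoldSL Cfsg.Agent.Nodes.RGDTwCoord
open Cfsg.Lie Cfsg.Agent.ChevalleyStructure Cfsg.Agent.ChevalleyStructure.Elts
  Cfsg.Agent.ChevalleyStructure.SL2Hom

universe u

/-- the torus of `GL` is abelian -/
theorem diag_comm {D : ChevalleyDatum} {l : ℕ} {M : CoxeterMatrix (Fin l)} (hp : IsType D l M) {K : Type u} [Field K]
    {s t : GL D.Idx K} (hs : s ∈ D.diagonalSubgroup K) (ht : t ∈ D.diagonalSubgroup K) : s * t = t * s := by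
  obtain ⟨χ, h1⟩ := HMatDiagAll.diagonalSubgroup_le_torus (D := D) hp.inList hs
  obtain ⟨ψ, h2⟩ := HMatDiagAll.diagonalSubgroup_le_torus (D := D) hp.inList ht
  apply Units.ext
  rw [Units.val_mul, Units.val_mul, h1, h2, Matrix.diagonal_mul_diagonal, Matrix.diagonal_mul_diagonal]
  congr 1
  funext i
  exact mul_comm _ _

section chev

open Cfsg.Agent.H162.GaussExc Cfsg.Agent.OddHalf.NI.ModelChev Cfsg.Agent.KFacts.RgdChevCoord Cfsg.Agent.Nodes.ChevCls

variable {D : ChevalleyDatum} {l : ℕ} {M : CoxeterMatrix (Fin l)} (hp : IsType D l M) {K : Type u} [Field K]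

include hp in
/-- **Chevalley groups.** -/
theorem inv_chev (htab : ∀ i : Fin l, ∃ j : Fin l, Odd (D.cartan j (D.simple i))) (i : Fin l) :
    ∃ t ∈ (D.diagonalSubgroup K).subgroupOf (D.group K), ∀ a ∈ (XV D l K (sr i)).subgroupOf (D.group K),
      t * a * t⁻¹ = a⁻¹ := by
  obtain ⟨j, hj⟩ := htab i
  have hr : D.simple i < D.nroots := NPerm.simple_lt hp.inList (lt_rank hp i)
  refine ⟨sg hp (Pi.single j 1) (-1 : Kˣ), sg_mem hp _ _, fun a ha => ?_⟩
  rw [← vec_simple hp i] at ha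
  obtain ⟨c, rfl⟩ := (mem_XX hp hr a).1 ha
  rw [act_sg hp _ _ hr, xc_neg hp hr]
  congr 1
  have h1 : ∑ k : Fin l, (Pi.single j (1 : ℤ) : Fin l → ℤ) k * D.cartan k (D.simple i) = D.cartan j (D.simple i) := by
    rw [Finset.sum_eq_single j]
    · rw [Pi.single_eq_same, one_mul]
    · intro k _ hk
      rw [Pi.single_eq_of_ne hk, zero_mul]
    · intro h
      exact absurd (Finset.mem_univ j) h
  rw [h1, hj.neg_one_zpow, Units.val_neg, Units.val_one, neg_one_mul]

end chev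

section fold

variable {D : ChevalleyDatum} {l m : ℕ} {M' : CoxeterMatrix (Fin l)} {hp : IsType D l M'} {K : Type u} [Field K]
  {J : Fin m → List (Fin l)} {L : List (List ℕ)}
  {σ : GL D.Idx K →* GL D.Idx K} {ρ ρ' : ℕ → ℕ} {f : ℕ → K → K} {G : Subgroup (GL D.Idx K)} {φ : K →+* K}

theorem wt_neg_one (o : List (Fin l)) (s : ℕ) : wt D φ o s (-1) = (-1 : K) ^ (o.map fun k : Fin l => D.cartan k s).sum := by
  induction o with
  | nil => rw [List.map_nil, List.sum_nil, zpow_zero]; rfl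
  | cons j o ih =>
    show (-1 : K) ^ D.cartan j s * wt D φ o s (φ (-1)) = _
    rw [map_neg, map_one, ih, List.map_cons, List.sum_cons, zpow_add₀ (neg_ne_zero.2 one_ne_zero)]

theorem conj_yv {o' : List (Fin l)} : ∀ (o : List ℕ), (∀ s ∈ o, s < D.nroots ∧ wt D φ o' s (-1) = -1) → ∀ u : K,
    hI hp φ o' (-1) * yv (xG hp.inList) φ o u * (hI hp φ o' (-1))⁻¹ = yv (xG hp.inList) φ o (-u) := by
  intro o
  induction o with
  | nil =>
    intro _ u
    show hI hp φ o' (-1) * 1 * _ = 1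
    rw [mul_one, mul_inv_cancel]
  | cons s o ih =>
    intro h u
    show hI hp φ o' (-1) * (xG hp.inList s u * yv (xG hp.inList) φ o (φ u)) * _ =
      xG hp.inList s (-u) * yv (xG hp.inList) φ o (φ (-u))
    obtain ⟨h1, h2⟩ := h s List.mem_cons_self
    have h3 := hI_conj (hp := hp) (φ := φ) o' h1 (neg_ne_zero.2 one_ne_zero) u
    have h4 := ih (fun s' hs' => h s' (List.mem_cons_of_mem _ hs')) (φ u)
    rw [h2, neg_one_mul] at h3
    rw [map_neg, ← h3, ← h4]
    group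

/-- **Twisted groups.** -/
theorem inv_fold (FG : FoldGrp hp K J L σ ρ ρ' f G) {rp : Fin m → ℕ} {rest : Fin m → List ℕ}
    (N : ∀ i, NodeOK D J L ρ i (rp i) (rest i)) (hf : ∀ i, ∀ s ∈ rp i :: rest i, ∀ t, f s t = φ t)
    (htab : ∀ i, ∃ j, ∀ s ∈ rp i :: rest i, Odd ((J j).map fun k : Fin l => D.cartan k s).sum) (i : Fin m) :
    ∃ t ∈ (D.diagonalSubgroup K ⊓ G).subgroupOf G, ∀ a ∈ (R D hp K J σ (sr i)).subgroupOf G, t * a * t⁻¹ = a⁻¹ := by
  obtain ⟨j, hj⟩ := htab i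
  have h0 : (-1 : Fx φ ((rest j).length + 1)) ≠ 0 := neg_ne_zero.2 one_ne_zero
  refine ⟨Phi FG (N j) (hf j) (hS (-1)), Phi_hS FG (N j) (hf j) h0, fun a ha => ?_⟩
  obtain ⟨u, rfl⟩ := (mem_X_iff FG (N i) (hf i) a).1 ha
  have hz : ((Phi FG (N j) (hf j) (hS (-1)) : ↥G) : GL D.Idx K) = hI hp φ (J j) (-1) := by
    show Ph hp K (N j) φ (Matrix.SpecialLinearGroup.map _ (hS _)) = _
    rw [map_hS, map_neg, map_one]
    exact hv_eq_hI (N j).Jn (N j).lt _
  have hup : (Phi FG (N i) (hf i) (up u))⁻¹ = Phi FG (N i) (hf i) (up (-u)) := by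
    rw [← map_inv]
    congr 1
    rw [inv_eq_iff_mul_eq_one]
    apply Matrix.SpecialLinearGroup.ext
    intro a b
    rw [Matrix.SpecialLinearGroup.coe_mul, Matrix.mul_apply, Fin.sum_univ_two, Matrix.SpecialLinearGroup.coe_one]
    (revert a b; simp only [up, _root_.Fin.forall_fin_succ, Fin.isValue, _root_.Matrix.of_apply, _root_.Matrix.cons_val', _root_.Matrix.cons_val_zero, _root_.Matrix.cons_val_fin_one, _root_.Matrix.cons_val_one, _root_.mul_one, _root_.MulZeroClass.mul_zero, _root_.add_zero, _root_.Matrix.cons_val_succ, _root_.mul_neg, _root_.IsEmpty.forall_iff, _root_.and_true, _root_.Matrix.one_apply_eq, _root_.one_mul, _root_.neg_add_cancel, Nat.reduceAdd, _root_.Fin.succ_zero_eq_one, _root_.ne_eq, _root_.zero_ne_one, _root_.not_false_eq_true, _root_.Matrix.one_apply_ne, _root_.and_self, _root_.Fin.succ_ne_zero, _root_.MulZeroClass.zero_mul, _root_.neg_zero, _root_.zero_add, _root_.true_and])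
  rw [hup]
  apply Subtype.ext
  rw [Subgroup.coe_mul, Subgroup.coe_mul, Subgroup.coe_inv, hz, coe_Phi_up, coe_Phi_up]
  have h1 := conj_yv (hp := hp) (φ := φ) (o' := J j) (rp i :: rest i) (fun s hs => ⟨(N i).lt s hs, by
    rw [wt_neg_one, (hj s hs).neg_one_zpow]⟩) (u : K)
  exact h1

end fold

end Cfsg.Agent.H334.EP
end

-- part: H334/EP/InvChev
section
/-!
# Parity rows of S4929 for the exceptional groups (odd characteristic)
-/

set_option autoImplicit false
set_option linter.unusedSectionVars false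

namespace Cfsg.Agent.H334.EP

open CoxeterSystem Cfsg.Agent.ChevalleyStructure.CoxeterGeom Cfsg.Agent.Tits.Roots Cfsg.Agent.Tits.Core
  Cfsg.Agent.Nodes.BNOf Cfsg.Agent.Nodes.RGDChev Cfsg.Agent.Nodes.RGDFold
  Cfsg.Agent.Nodes.RGDFoldSL Cfsg.Agent.H892.EP
open Cfsg.Lie Cfsg.Agent.ChevalleyStructure

section

variable {F : Type} [Field F] [Fintype F] {r : ℕ} [Fact r.Prime] [CharP F r]

theorem inv2_chev {D : ChevalleyDatum} {l : ℕ} {M : CoxeterMatrix (Fin l)} (hp : IsType D l M) (hr : r ≠ 2)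
    (htab : ∀ i : Fin l, ∃ j : Fin l, Odd (D.cartan j (D.simple i))) : Inv2 r ↥(D.group F) := by
  have : Finite M.Group := _root_.Cfsg.Agent.Nodes.RGDChev.finite_W hp M.toCoxeterSystem
  refine inv2_of_rgd hr (_root_.Cfsg.Agent.Nodes.RGDChev.rgd (K := F) hp M.toCoxeterSystem r) (_root_.Cfsg.Agent.Nodes.RGDChev.G1_eq_top hp M.toCoxeterSystem) ?_
    (inv_chev hp htab)
  intro a ha b hb
  exact Subtype.ext (diag_comm hp ha hb)

theorem pu_g2 (hr : r ≠ 2) : ParU r ↥(Lie.chevG2.group F) :=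
  parU_of_inv2 hr (inv2_chev (M := CoxeterMatrix.G₂) (l := 2) (by simp [IsType, typeList]) hr (by decide +kernel))

theorem pu_f4 (hr : r ≠ 2) : ParU r ↥(Lie.chevF4.group F) :=
  parU_of_inv2 hr (inv2_chev (M := CoxeterMatrix.F₄) (l := 4) (by simp [IsType, typeList]) hr (by decide +kernel))

theorem pu_e6 (hr : r ≠ 2) : ParU r ↥(Lie.chevE6.group F) :=
  parU_of_inv2 hr (inv2_chev (M := CoxeterMatrix.E₆) (l := 6) (by simp [IsType, typeList]) hr (by decide +kernel))

theorem pu_e7 (hr : r ≠ 2) : ParU r ↥(Lie.chevE7.group F) :=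
  parU_of_inv2 hr (inv2_chev (M := CoxeterMatrix.E₇) (l := 7) (by simp [IsType, typeList]) hr (by decide +kernel))

theorem pu_e8 (hr : r ≠ 2) : ParU r ↥(Lie.chevE8.group F) :=
  parU_of_inv2 hr (inv2_chev (M := CoxeterMatrix.E₈) (l := 8) (by simp [IsType, typeList]) hr (by decide +kernel))

theorem tab_e6 : ∀ i, ∃ j, ∀ s ∈ Cfsg.Agent.Nodes.RGDTwNode.E6.rep i :: Cfsg.Agent.Nodes.RGDTwNode.E6.rest i,
    Odd ((Cfsg.Agent.Nodes.RGDTwE6.J j).map fun k : Fin 6 => chevE6.cartan k s).sum := by decide +kernel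

theorem tab_d4 : ∀ i, ∃ j, ∀ s ∈ Cfsg.Agent.Nodes.RGDTwNode.D4.rep i :: Cfsg.Agent.Nodes.RGDTwNode.D4.rest i,
    Odd ((Cfsg.Agent.Nodes.RGDTwD4.J j).map fun k : Fin 4 => chevD4.cartan k s).sum := by decide +kernel

theorem inv2_te6 (hr : r ≠ 2) {q : ℕ} (hq : IsPrimePow q) (hF : Fintype.card F = q ^ 2) :
    Inv2 r ↥(Lie.twistedE6 F q) := by
  obtain ⟨φ, hφ, hqq⟩ := Cfsg.Agent.ChevalleyStructure.TwE6Basic.exists_frob hq hF
  have : Finite (CoxeterMatrix.F₄).Group :=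
    Cfsg.Agent.Nodes.RGDFold.finite_W (hp := Cfsg.Agent.Nodes.RGDTwE6.hp) CoxeterMatrix.F₄.toCoxeterSystem
      Cfsg.Agent.Nodes.RGDTwE6.isCartan Cfsg.Agent.Nodes.RGDTwE6.foldData
  refine inv2_of_rgd hr (Cfsg.Agent.Nodes.RGDTwE6.rgd CoxeterMatrix.F₄.toCoxeterSystem hφ hqq r)
    (Cfsg.Agent.Nodes.RGDTwE6.G1_eq_top CoxeterMatrix.F₄.toCoxeterSystem hφ hqq) ?_ ?_
  · intro a ha b hb
    exact Subtype.ext (diag_comm Cfsg.Agent.Nodes.RGDTwE6.hp ha.1 hb.1)
  · exact inv_fold (Cfsg.Agent.Nodes.RGDTwE6.foldGrp hφ hqq) Cfsg.Agent.Nodes.RGDTwNode.E6.nodeOK (fun i s hs t => by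
      rw [Cfsg.Agent.Nodes.RGDTwNode.E6.eps_one i s hs, Int.cast_one, one_mul]) tab_e6

theorem pu_te6 (hr : r ≠ 2) {q : ℕ} (hq : IsPrimePow q) (hF : Fintype.card F = q ^ 2) : ParU r (Lie.twistedE6 F q) :=
  parU_of_inv2 hr (inv2_te6 hr hq hF)

theorem inv2_td4 (hr : r ≠ 2) {q : ℕ} (hq : IsPrimePow q) (hF : Fintype.card F = q ^ 3) :
    Inv2 r ↥(Lie.twistedD4 F q) := by
  obtain ⟨φ, hφ⟩ := D4Fixed.exists_frob hq hF
  have : Finite (CoxeterMatrix.G₂).Group :=
    Cfsg.Agent.Nodes.RGDFold.finite_W (hp := Cfsg.Agent.Nodes.RGDTwD4.hp) CoxeterMatrix.G₂.toCoxeterSystem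
      Cfsg.Agent.Nodes.RGDTwD4.isCartan Cfsg.Agent.Nodes.RGDTwD4.foldData
  refine inv2_of_rgd hr (Cfsg.Agent.Nodes.RGDTwD4.rgd CoxeterMatrix.G₂.toCoxeterSystem hF hφ r)
    (Cfsg.Agent.Nodes.RGDTwD4.G1_eq_top CoxeterMatrix.G₂.toCoxeterSystem hF hφ) ?_ ?_
  · intro a ha b hb
    exact Subtype.ext (diag_comm Cfsg.Agent.Nodes.RGDTwD4.hp ha.1 hb.1)
  · exact inv_fold (Cfsg.Agent.Nodes.RGDTwD4.foldGrp hφ (D4Fixed.twisted_le_fix hF hφ))
      Cfsg.Agent.Nodes.RGDTwNode.D4.nodeOK (fun i s hs t => by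
      rw [Cfsg.Agent.Nodes.RGDTwNode.D4.eps_one i s hs, Int.cast_one, one_mul]) tab_d4

theorem pu_td4 (hr : r ≠ 2) {q : ℕ} (hq : IsPrimePow q) (hF : Fintype.card F = q ^ 3) : ParU r (Lie.twistedD4 F q) :=
  parU_of_inv2 hr (inv2_td4 hr hq hF)

end

end Cfsg.Agent.H334.EP
end

-- part: H892/EP/PcPU
section
/-!
# S4929: the pieces in the form used by the assembly (`PcPU`)
-/

set_option autoImplicit false
set_option linter.unusedSectionVars false
set_option linter.unusedVariables false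

open Cfsg Cfsg.Agent.Characters.Core Cfsg.Agent.H892.EP
open CoxeterSystem Cfsg.Agent.ChevalleyStructure.CoxeterGeom Cfsg.Agent.Tits.Roots Cfsg.Agent.Tits.Core
  Cfsg.Agent.Nodes.Reps Cfsg.Agent.Nodes.BNOf Cfsg.Agent.Omega.EH3.Kf.Lev Cfsg.Agent.Nodes.StabComb
open Matrix

namespace Cfsg.Agent.H892.EP.Pc

universe u v

section TM

variable {F : Type} [Field F] [Fintype F] {r : ℕ} [Fact r.Prime] [CharP F r]

theorem pu_psl (hr : r ≠ 2) {n : ℕ} (hn : 3 ≤ n) : ParU r (ProjectiveSpecialLinearGroup (Fin n) F) :=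
  Cfsg.Agent.H724.EP.pu_psl hr hn

theorem pu_psp (hr : r ≠ 2) {m : ℕ} (hm : 2 ≤ m) (hmq : Even m ∨ Fintype.card F % 4 = 1) : ParU r (PSp m F) :=
  Cfsg.Agent.H65.EP.pu_psp hr hm hmq

theorem pu_psu (hr : r ≠ 2) {n q : ℕ} (hq : Fintype.card F = q ^ 2) (hn : 3 ≤ n) : ParU r (PSU n F q) :=
  Cfsg.Agent.H724.EP.pu_psu hr hq hn

theorem pu_oodd (hr : r ≠ 2) {m : ℕ} (hm : 3 ≤ m) : ParU r (POmega F (quadFormOdd m F)) :=
  Cfsg.Agent.H485.EP.pu_oodd hr hm

theorem pu_oplus (hr : r ≠ 2) {m : ℕ} (hm : 4 ≤ m) : ParU r (POmega F (quadFormPlus m F)) :=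
  Cfsg.Agent.H485.EP.pu_oplus hr hm

theorem pu_ominus (hr : r ≠ 2) {m : ℕ} (hm : 4 ≤ m) (a b : F)
    (hab : ∀ z₁ z₂ : F, z₁ ^ 2 + a * z₁ * z₂ + b * z₂ ^ 2 = 0 → z₁ = 0 ∧ z₂ = 0) :
    ParU r (POmega F (quadFormMinus (m - 1) F a b)) :=
  Cfsg.Agent.H485.EP.pu_ominus hr hm a b hab

theorem pu_g2 (hr : r ≠ 2) : ParU r ↥(Lie.chevG2.group F) :=
  Cfsg.Agent.H334.EP.pu_g2 hr

theorem pu_f4 (hr : r ≠ 2) : ParU r ↥(Lie.chevF4.group F) :=
  Cfsg.Agent.H334.EP.pu_f4 hr

theorem pu_e6 (hr : r ≠ 2) : ParU r ↥(Lie.chevE6.group F) :=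
  Cfsg.Agent.H334.EP.pu_e6 hr

theorem pu_e7 (hr : r ≠ 2) : ParU r ↥(Lie.chevE7.group F) :=
  Cfsg.Agent.H334.EP.pu_e7 hr

theorem pu_e8 (hr : r ≠ 2) : ParU r ↥(Lie.chevE8.group F) :=
  Cfsg.Agent.H334.EP.pu_e8 hr

theorem pu_te6 (hr : r ≠ 2) {q : ℕ} (hq : IsPrimePow q) (hF : Fintype.card F = q ^ 2) : ParU r (Lie.twistedE6 F q) :=
  Cfsg.Agent.H334.EP.pu_te6 hr hq hF

theorem pu_td4 (hr : r ≠ 2) {q : ℕ} (hq : IsPrimePow q) (hF : Fintype.card F = q ^ 3) : ParU r (Lie.twistedD4 F q) :=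
  Cfsg.Agent.H334.EP.pu_td4 hr hq hF

end TM

end Cfsg.Agent.H892.EP.Pc
end

private theorem dce_a6d27319eded : _root_.True := by
  try have : _root_.True := by simp only [_root_.Cfsg.Agent.H485.EP.prj.eq_1]
  try have : _root_.True := by simp only [_root_.Cfsg.Agent.H724.EP.hh.eq_1]
  exact _root_.True.intro
end

-- part: H269/EP/EvenFinal_mg
section
prune_inst 0x203444482202000000050200001040c8000090004b840044a10e4202088260200206010c000111401200000000002000100010421000000a0004000000010000a810000100000002000e000084000000000000000000000000000000000000000000000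
set_option linter.all false
open scoped Cfsg.Agent.FastGrp

-- part: H269/EP/Even
section
/-!
# S4929, piece EVEN: groups with a root group datum in characteristic 2

`ev_even_aux` : `HasTM 2 m Y → Ev Y` from the pieces EA (`even_par`) and EB (`even_exists`).
-/

set_option autoImplicit false

open Cfsg Cfsg.Agent.Characters.Core Cfsg.Agent.H892.EP
open CoxeterSystem Cfsg.Agent.ChevalleyStructure.CoxeterGeom Cfsg.Agent.Tits.Roots Cfsg.Agent.Tits.Core
  Cfsg.Agent.Nodes.Reps Cfsg.Agent.Nodes.BNOf Cfsg.Agent.Omega.EH3.Kf.Lev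

namespace Cfsg.Agent.H269.EP

universe u

/-- the statement of EA for `Fin l`, the Coxeter group of a Coxeter matrix -/
def EAStmt (Y : Type u) [Group Y] : Prop :=
  ∀ (l : ℕ) (M : CoxeterMatrix (Fin l)) (A : Fin l → Fin l → ℤ) (h : IsCartan M A) (T : Subgroup Y) (n : Fin l → Y)
    (X : (Fin l → ℤ) → Subgroup Y), Finite M.Group → RGD M.toCoxeterSystem h 2 T n X →
      Nodes.RGDLib.G1 M.toCoxeterSystem h X = ⊤ → CommGen M.toCoxeterSystem h X →
      ∀ χ : IrrCharacter Y, χ ≠ oneChar Y → ∑ᶠ b : ↥(RGD.B M.toCoxeterSystem h T X), (χ : Y → ℂ) b ≠ 0 →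
        2 ∣ charDegree (χ : Y → ℂ)

/-- the statement of EB for `Fin l`, the Coxeter group of a Coxeter matrix, characteristic 2 -/
def EBStmt (Y : Type u) [Group Y] : Prop :=
  ∀ (l : ℕ) (M : CoxeterMatrix (Fin l)) (A : Fin l → Fin l → ℤ) (h : IsCartan M A) (T : Subgroup Y) (n : Fin l → Y)
    (X : (Fin l → ℤ) → Subgroup Y), Finite M.Group → RGD M.toCoxeterSystem h 2 T n X →
      Nodes.RGDLib.G1 M.toCoxeterSystem h X = ⊤ → (∀ a ∈ T, ∀ b ∈ T, a * b = b * a) →
      ∀ (p : ℕ) [Fact p.Prime], p ≠ 2 → p ∣ Nat.card Y →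
        (p ∣ Nat.card T → ∃ i, ∃ t ∈ T, (∃ k : ℕ, t ^ p ^ k = 1) ∧ n i * t ≠ t * n i) →
        ∀ M' : Ideal AlgInt, IsPModular p M' →
          ∃ χ : IrrCharacter Y, χ ∈ principalBlock M' Y ∧ χ ≠ oneChar Y ∧
            ∑ᶠ b : ↥(RGD.B M.toCoxeterSystem h T X), (χ : Y → ℂ) b ≠ 0

/-- [EVEN] from EA and EB -/
theorem ev_even_aux {Y : Type u} [Group Y] [Finite Y] (hEA : EAStmt Y) (hEB : EBStmt Y) {m : ℕ}
    (hTM : HasTM 2 m Y) : Ev Y := by
  obtain ⟨l, M, A, h, T, n, X, hW, R, hX, hT, h1, -, h3⟩ := hTM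
  intro p hp hp2 hd M' hM
  have : Fact p.Prime := ⟨hp⟩
  obtain ⟨χ, hχ, hχ1, hχB⟩ := hEB l M A h T n X hW R hX hT p hp2 hd (fun hdT => h1 p hp hp2 hdT) M' hM
  exact ⟨χ, hχ, hEA l M A h T n X hW R hX (h3 rfl) χ hχ1 hχB⟩

end Cfsg.Agent.H269.EP
end

-- part: H966/EP/EB
section
/-!
# [EB]: a nontrivial constituent of `1_B^G` in the principal block (S4929)
-/

set_option autoImplicit false
set_option linter.unusedSectionVars false

universe u

open scoped ComplexConjugate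
open Cfsg Cfsg.Agent.Characters.Core Cfsg.Agent.H892.EP
open CoxeterSystem Cfsg.Agent.ChevalleyStructure.CoxeterGeom Cfsg.Agent.Tits.Roots Cfsg.Agent.Tits.Core
  Cfsg.Agent.Nodes.Reps Cfsg.Agent.Nodes.BNOf Cfsg.Agent.Omega.EH3.Kf.Lev Cfsg.Agent.Nodes.StabComb

namespace Cfsg.Agent.H966.EP

variable {I W : Type*} {Y : Type u} [Fintype I] [DecidableEq I] [Group W] [Group Y] [Finite Y] {M : CoxeterMatrix I}
  {cs : CoxeterSystem M W} {A : I → I → ℤ} {h : IsCartan M A} {T : Subgroup Y} {n : I → Y} {X : (I → ℤ) → Subgroup Y}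

section rgd

variable [Finite W] {r : ℕ} [Fact r.Prime] (R : RGD cs h r T n X)

include R

/-- `T ∩ U = 1` -/
theorem eq_one_of_T_U {y : Y} (hT : y ∈ T) (hU : y ∈ RGD.Sup X (RGD.Pos cs h)) : y = 1 := by
  obtain ⟨k, hk⟩ := R.isPGroup_Upos ⟨y, hU⟩
  have h1 : orderOf y ∣ r ^ k := orderOf_dvd_of_pow_eq_one (by simpa only [_root_.SubmonoidClass.mk_pow, _root_.OneMemClass.coe_one] using congrArg Subtype.val hk)
  have h2 : orderOf y ∣ Nat.card T := by
    rw [← Subgroup.orderOf_mk y hT]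
    exact orderOf_dvd_natCard _
  have hc : (r ^ k).Coprime (Nat.card T) := Nat.Coprime.pow_left k R.tcop.symm
  exact orderOf_eq_one_iff.1 (Nat.dvd_one.1 (hc ▸ Nat.dvd_gcd h1 h2))

theorem card_B : Nat.card ↥(RGD.B cs h T X) = Nat.card T * Nat.card ↥(RGD.Sup X (RGD.Pos cs h)) := by
  rw [← Nat.card_prod]
  symm
  refine Nat.card_eq_of_bijective (fun a : T × ↥(RGD.Sup X (RGD.Pos cs h)) =>
    (⟨a.1 * a.2, mul_mem (RGD.T_le_B a.1.2) (RGD.U_le_B a.2.2)⟩ : ↥(RGD.B cs h T X))) ⟨?_, ?_⟩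
  · rintro ⟨t, u⟩ ⟨t', u'⟩ he
    have he' : (t : Y) * u = t' * u' := congrArg Subtype.val he
    have h1 : (t' : Y)⁻¹ * t = u' * (u : Y)⁻¹ := by
      rw [inv_mul_eq_iff_eq_mul, ← mul_assoc, ← he']; group
    have h2 : (t' : Y)⁻¹ * t = 1 := eq_one_of_T_U R (mul_mem (inv_mem t'.2) t.2) (by
      rw [h1]; exact mul_mem u'.2 (inv_mem u.2))
    have h3 : t = t' := Subtype.ext (inv_mul_eq_one.1 h2).symm
    subst h3
    rw [Subtype.ext (mul_left_cancel he')]
  · rintro ⟨x, hx⟩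
    obtain ⟨t, ht, u, hu, rfl⟩ := R.mem_B.1 hx
    exact ⟨(⟨t, ht⟩, ⟨u, hu⟩), rfl⟩

theorem n_notMem_B (i : I) : n i ∉ RGD.B cs h T X := by
  intro hi
  have h1 := R.eq_one_of_mem_B (rp_simple cs R.nsys i) hi
  have h2 := cs.length_simple i
  rw [h1, cs.length_one] at h2
  exact zero_ne_one h2

/-- `X_{-α_i} ∩ B = 1` -/
theorem neg_inf_B (i : I) {y : Y} (hy : y ∈ X (-sr i)) (hB : y ∈ RGD.B cs h T X) : y = 1 := by
  by_contra hne
  obtain ⟨a, ha, t, ht, b, hb, e⟩ := R.rk1 i y hy hne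
  have haB : a ∈ RGD.B cs h T X := RGD.X_le_B (isRoot_sr cs h i) (sr_nonneg i) ha
  have hbB : b ∈ RGD.B cs h T X := RGD.X_le_B (isRoot_sr cs h i) (sr_nonneg i) hb
  have htB : t ∈ RGD.B cs h T X := RGD.T_le_B ht
  apply n_notMem_B R i
  have h1 : n i = (a * t)⁻¹ * y * b⁻¹ := by rw [e]; group
  rw [h1]
  exact mul_mem (mul_mem (inv_mem (mul_mem haB htB)) hB) (inv_mem hbB)

theorem conj_n_X (i : I) {u : Y} (hu : u ∈ X (sr i)) : n i * u * (n i)⁻¹ ∈ X (-sr i) := by
  have := R.conj_mem (rp_simple cs R.nsys i) (isRoot_sr cs h i) hu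
  rwa [rep_simple_sr] at this

theorem conj_n_X' (i : I) {u : Y} (hu : u ∈ X (sr i)) : (n i)⁻¹ * u * n i ∈ X (-sr i) := by
  have := R.conj_mem' (rp_simple cs R.nsys i) (isRoot_sr cs h i) hu
  rwa [inv_simple, rep_simple_sr] at this

theorem V_le_B (i : I) : RGD.Sup X (RGD.PosNe cs h i) ≤ RGD.B cs h T X :=
  (RGD.Sup_mono (S := RGD.PosNe cs h i) (S' := RGD.Pos cs h) fun _ hz => ⟨hz.1, hz.2.1⟩).trans RGD.U_le_B

theorem conj_n_V (i : I) {v : Y} (hv : v ∈ RGD.Sup X (RGD.PosNe cs h i)) :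
    n i * v * (n i)⁻¹ ∈ RGD.Sup X (RGD.PosNe cs h i) := by
  have h1 : n i * v * (n i)⁻¹ ∈ cj (n i) (RGD.Sup X (RGD.PosNe cs h i)) := conj_mem_cj.2 hv
  rwa [R.cj_n_V i] at h1

theorem conj_n_V' (i : I) {v : Y} (hv : v ∈ RGD.Sup X (RGD.PosNe cs h i)) :
    (n i)⁻¹ * v * n i ∈ RGD.Sup X (RGD.PosNe cs h i) := by
  rw [← R.cj_n_V i, mem_cj] at hv
  exact hv

/-- `V_i ∩ X_i = 1` -/
theorem V_inf_X (i : I) {y : Y} (hV : y ∈ RGD.Sup X (RGD.PosNe cs h i)) (hX : y ∈ X (sr i)) : y = 1 := by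
  have h1 := neg_inf_B R i (conj_n_X R i hX) (V_le_B R i (conj_n_V R i hV))
  have h2 : y = (n i)⁻¹ * (n i * y * (n i)⁻¹) * n i := by group
  rw [h2, h1]; group

theorem conj_n_T (i : I) {t : Y} (ht : t ∈ T) : n i * t * (n i)⁻¹ ∈ T :=
  (Subgroup.mem_normalizer_iff.1 (R.nsys.norm i) t).1 ht

theorem conj_n_T' (i : I) {t : Y} (ht : t ∈ T) : (n i)⁻¹ * t * n i ∈ T := by
  have := (Subgroup.mem_normalizer_iff.1 (inv_mem (R.nsys.norm i)) t).1 ht
  rwa [inv_inv] at this

/-- conjugation of `X_α` by `T` -/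
theorem conj_T_X {x : I → ℤ} (hx : IsRoot cs h x) {t u : Y} (ht : t ∈ T) (hu : u ∈ X x) : t * u * t⁻¹ ∈ X x := by
  have h1 : t * u * t⁻¹ ∈ cj t (X x) := conj_mem_cj.2 hu
  rwa [R.tor x hx t ht] at h1

/-- the minimal parabolic subgroup -/
def Pmin (i : I) : Subgroup Y where
  carrier := {g | g ∈ RGD.B cs h T X ∨ ∃ b ∈ RGD.B cs h T X, ∃ c ∈ RGD.B cs h T X, g = b * n i * c}
  one_mem' := Or.inl (one_mem _)
  mul_mem' := by
    rintro a b (ha | ⟨a1, ha1, a2, ha2, rfl⟩) (hb | ⟨b1, hb1, b2, hb2, rfl⟩)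
    · exact Or.inl (mul_mem ha hb)
    · exact Or.inr ⟨a * b1, mul_mem ha hb1, b2, hb2, by group⟩
    · exact Or.inr ⟨a1, ha1, a2 * b, mul_mem ha2 hb, by group⟩
    · rcases R.bn3 i (rp_simple cs R.nsys i) (mul_mem ha2 hb1) with h1 | h1
      · left
        rw [DoubleCoset.mem_doubleCoset] at h1
        obtain ⟨c, hc, d, hd, e⟩ := h1
        have h2 : a1 * n i * a2 * (b1 * n i * b2) = a1 * (n i * (a2 * b1) * n i) * b2 := by group
        rw [h2, e]
        exact mul_mem (mul_mem ha1 (mul_mem (mul_mem hc (RGD.T_le_B (R.sq_mem_T i))) hd)) hb2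
      · right
        rw [DoubleCoset.mem_doubleCoset] at h1
        obtain ⟨c, hc, d, hd, e⟩ := h1
        have h2 : a1 * n i * a2 * (b1 * n i * b2) = a1 * (n i * (a2 * b1) * n i) * b2 := by group
        refine ⟨a1 * c, mul_mem ha1 hc, d * b2, mul_mem hd hb2, ?_⟩
        rw [h2, e]; group
  inv_mem' := by
    rintro a (ha | ⟨a1, ha1, a2, ha2, rfl⟩)
    · exact Or.inl (inv_mem ha)
    · refine Or.inr ⟨a2⁻¹ * (n i * n i)⁻¹, mul_mem (inv_mem ha2) (inv_mem (RGD.T_le_B (R.sq_mem_T i))), a1⁻¹,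
        inv_mem ha1, by group⟩

variable (hT : ∀ a ∈ T, ∀ b ∈ T, a * b = b * a)

include hT

/-- the centraliser of `x` in `X_i` -/
theorem cent_X {i : I} {x : Y} (hx : x ∈ T) (hn : n i * x * (n i)⁻¹ = x⁻¹) (hx2 : x * x ≠ 1) {u : Y}
    (hu : u ∈ X (sr i)) (hc : x * u * x⁻¹ = u) : u = 1 := by
  by_contra hne
  have hne' : n i * u * (n i)⁻¹ ≠ 1 := by
    intro h0
    apply hne
    have : u = (n i)⁻¹ * (n i * u * (n i)⁻¹) * n i := by group
    rw [this, h0]; group
  have hroot := isRoot_sr cs h i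
  obtain ⟨a, ha, s, hs, b, hb, e⟩ := R.rk1 i _ (conj_n_X R i hu) hne'
  -- `x` centralises `n u n⁻¹`
  have h1 : x * (n i * u * (n i)⁻¹) * x⁻¹ = n i * u * (n i)⁻¹ := by
    have h2 : x = n i * x⁻¹ * (n i)⁻¹ := by
      have : n i * x⁻¹ * (n i)⁻¹ = (n i * x * (n i)⁻¹)⁻¹ := by group
      rw [this, hn, inv_inv]
    have h3 : x⁻¹ * u * x = u := by
      calc x⁻¹ * u * x = x⁻¹ * (x * u * x⁻¹) * x := by rw [hc]
        _ = u := by group
    calc x * (n i * u * (n i)⁻¹) * x⁻¹ = (n i * x⁻¹ * (n i)⁻¹) * (n i * u * (n i)⁻¹) * (n i * x⁻¹ * (n i)⁻¹)⁻¹ := by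
          rw [← h2]
      _ = n i * (x⁻¹ * u * x) * (n i)⁻¹ := by group
      _ = n i * u * (n i)⁻¹ := by rw [h3]
  -- `x n x⁻¹ = x² n`
  have hxn : x * n i * x⁻¹ = x * x * n i := by
    have : n i * x⁻¹ = x * n i := by
      have h3 : n i * x⁻¹ * (n i)⁻¹ = (n i * x * (n i)⁻¹)⁻¹ := by group
      rw [hn, inv_inv] at h3
      exact mul_inv_eq_iff_eq_mul.1 h3
    rw [mul_assoc, this, mul_assoc]
  have hxs : x * s * x⁻¹ = s := by rw [hT x hx s hs]; group
  have e2 : a * s * n i * b = (x * a * x⁻¹) * s * (x * x * n i) * (x * b * x⁻¹) := by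
    calc a * s * n i * b = x * (a * s * n i * b) * x⁻¹ := by rw [← e, h1]
      _ = (x * a * x⁻¹) * (x * s * x⁻¹) * (x * n i * x⁻¹) * (x * b * x⁻¹) := by group
      _ = _ := by rw [hxs, hxn]
  have ha' : x * a * x⁻¹ ∈ X (sr i) := conj_T_X R hroot hx ha
  have hb' : x * b * x⁻¹ ∈ X (sr i) := conj_T_X R hroot hx hb
  -- `n (b b'⁻¹) n⁻¹ ∈ B`
  have h4 : n i * (b * (x * b * x⁻¹)⁻¹) * (n i)⁻¹ = s⁻¹ * (a⁻¹ * (x * a * x⁻¹)) * s * (x * x) := by
    have : n i * (b * (x * b * x⁻¹)⁻¹) * (n i)⁻¹ = (a * s)⁻¹ * (a * s * n i * b) * (x * b * x⁻¹)⁻¹ * (n i)⁻¹ := by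
      group
    rw [this, e2]; group
  have hB : s⁻¹ * (a⁻¹ * (x * a * x⁻¹)) * s * (x * x) ∈ RGD.B cs h T X :=
    mul_mem (mul_mem (mul_mem (RGD.T_le_B (inv_mem hs)) (RGD.X_le_B hroot (sr_nonneg i) (mul_mem (inv_mem ha) ha')))
      (RGD.T_le_B hs)) (RGD.T_le_B (mul_mem hx hx))
  have h5 := neg_inf_B R i (conj_n_X R i (mul_mem hb (inv_mem hb'))) (by rw [h4]; exact hB)
  rw [h4] at h5
  apply hx2
  have h6 : (x * x)⁻¹ ∈ X (sr i) := by
    have h7 : (x * x)⁻¹ = s⁻¹ * (a⁻¹ * (x * a * x⁻¹)) * s⁻¹⁻¹ := by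
      rw [inv_inv]
      exact (eq_inv_of_mul_eq_one_left h5).symm
    rw [h7]
    exact conj_T_X R hroot (inv_mem hs) (mul_mem (inv_mem ha) ha')
  have h8 := eq_one_of_T_U R (inv_mem (mul_mem hx hx)) (RGD.le_Sup (S := RGD.Pos cs h) ⟨hroot, sr_nonneg i⟩ h6)
  exact inv_eq_one.1 h8

/-- elements of the parabolic subgroup commuting with `x` -/
theorem fixed_of_comm {i : I} {x : Y} (hx : x ∈ T) (hn : n i * x * (n i)⁻¹ = x⁻¹) (hx2 : x * x ≠ 1) {g : Y}
    (hg : g ∈ Pmin R i) (hc : g * x = x * g) : g ∈ RGD.B cs h T X ∧ (n i)⁻¹ * g * n i ∈ RGD.B cs h T X := by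
  have hroot := isRoot_sr cs h i
  have hc' : x * g * x⁻¹ = g := by rw [← hc]; group
  have hxn : x * n i * x⁻¹ = x * x * n i := by
    have : n i * x⁻¹ = x * n i := by
      have h3 : n i * x⁻¹ * (n i)⁻¹ = (n i * x * (n i)⁻¹)⁻¹ := by group
      rw [hn, inv_inv] at h3
      exact mul_inv_eq_iff_eq_mul.1 h3
    rw [mul_assoc, this, mul_assoc]
  have hVT : ∀ {v : Y}, v ∈ RGD.Sup X (RGD.PosNe cs h i) → ∀ {t : Y}, t ∈ T →
      t * v * t⁻¹ ∈ RGD.Sup X (RGD.PosNe cs h i) := fun {v} hv {t} ht =>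
    (Subgroup.mem_normalizer_iff.1 (R.T_le_normalizer (S := RGD.PosNe cs h i) (fun _ hz => hz.1) ht) v).1 hv
  rcases hg with hg | ⟨b1, hb1, b2, hb2, e⟩
  · refine ⟨hg, ?_⟩
    obtain ⟨v, hv, u, hu, t, ht, e⟩ := R.mem_B' i hg
    have hxt : x * t * x⁻¹ = t := by rw [hT x hx t ht]; group
    have h1 : (x * v * x⁻¹) * (x * u * x⁻¹) * t = v * u * t := by
      calc (x * v * x⁻¹) * (x * u * x⁻¹) * t = (x * v * x⁻¹) * (x * u * x⁻¹) * (x * t * x⁻¹) := by rw [hxt]
        _ = x * (v * u * t) * x⁻¹ := by group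
        _ = v * u * t := by rw [← e]; exact hc'
    have h2 : v⁻¹ * (x * v * x⁻¹) = u * (x * u * x⁻¹)⁻¹ := by
      have h3 := mul_right_cancel h1
      calc v⁻¹ * (x * v * x⁻¹) = v⁻¹ * ((x * v * x⁻¹) * (x * u * x⁻¹)) * (x * u * x⁻¹)⁻¹ := by group
        _ = v⁻¹ * (v * u) * (x * u * x⁻¹)⁻¹ := by rw [h3]
        _ = _ := by group
    have hu' : x * u * x⁻¹ ∈ X (sr i) := conj_T_X R hroot hx hu
    have h3 : u * (x * u * x⁻¹)⁻¹ = 1 := V_inf_X R i (by rw [← h2]; exact mul_mem (inv_mem hv) (hVT hv hx))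
      (mul_mem hu (inv_mem hu'))
    have h4 : u = 1 := cent_X R hT hx hn hx2 hu (mul_inv_eq_one.1 h3).symm
    have h5 : (n i)⁻¹ * g * n i = ((n i)⁻¹ * v * n i) * ((n i)⁻¹ * t * n i) := by rw [e, h4]; group
    rw [h5]
    exact mul_mem (V_le_B R i (conj_n_V' R i hv)) (RGD.T_le_B (conj_n_T' R i ht))
  · exfalso
    obtain ⟨v, hv, u, hu, t, ht, e'⟩ := R.mem_B' i hb1
    -- `g = u n b`
    have h1 : g = u * n i * (((n i)⁻¹ * (u⁻¹ * v * u) * n i) * ((n i)⁻¹ * t * n i) * b2) := by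
      rw [e, e']; group
    have hv' : u⁻¹ * v * u ∈ RGD.Sup X (RGD.PosNe cs h i) := by
      have := (Subgroup.mem_normalizer_iff.1 (R.X_le_normalizer_V i (inv_mem hu)) v).1 hv
      rwa [inv_inv] at this
    have hb : (((n i)⁻¹ * (u⁻¹ * v * u) * n i) * ((n i)⁻¹ * t * n i) * b2) ∈ RGD.B cs h T X :=
      mul_mem (mul_mem (V_le_B R i (conj_n_V' R i hv')) (RGD.T_le_B (conj_n_T' R i ht))) hb2
    generalize (((n i)⁻¹ * (u⁻¹ * v * u) * n i) * ((n i)⁻¹ * t * n i) * b2) = b at h1 hb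
    have hxB : x ∈ RGD.B cs h T X := RGD.T_le_B hx
    have hu' : x * u * x⁻¹ ∈ X (sr i) := conj_T_X R hroot hx hu
    have hb' : x * b * x⁻¹ ∈ RGD.B cs h T X := mul_mem (mul_mem hxB hb) (inv_mem hxB)
    have h2 : (x * u * x⁻¹) * (x * x * n i) * (x * b * x⁻¹) = u * n i * b := by
      calc (x * u * x⁻¹) * (x * x * n i) * (x * b * x⁻¹) = (x * u * x⁻¹) * (x * n i * x⁻¹) * (x * b * x⁻¹) := by
            rw [hxn]
        _ = x * (u * n i * b) * x⁻¹ := by group
        _ = u * n i * b := by rw [← h1]; exact hc'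
    have h3 : (n i)⁻¹ * ((x * u * x⁻¹)⁻¹ * u) * n i = ((n i)⁻¹ * (x * x) * n i) * (x * b * x⁻¹) * b⁻¹ := by
      calc (n i)⁻¹ * ((x * u * x⁻¹)⁻¹ * u) * n i = (n i)⁻¹ * (x * u * x⁻¹)⁻¹ * (u * n i * b) * b⁻¹ := by group
        _ = (n i)⁻¹ * (x * u * x⁻¹)⁻¹ * ((x * u * x⁻¹) * (x * x * n i) * (x * b * x⁻¹)) * b⁻¹ := by rw [h2]
        _ = _ := by group
    have h4 : (n i)⁻¹ * ((x * u * x⁻¹)⁻¹ * u) * n i = 1 := by
      refine neg_inf_B R i (conj_n_X' R i (mul_mem (inv_mem hu') hu)) ?_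
      rw [h3]
      exact mul_mem (mul_mem (RGD.T_le_B (conj_n_T' R i (mul_mem hx hx))) hb') (inv_mem hb)
    have h5 : (x * u * x⁻¹)⁻¹ * u = 1 := by
      have : (x * u * x⁻¹)⁻¹ * u = n i * ((n i)⁻¹ * ((x * u * x⁻¹)⁻¹ * u) * n i) * (n i)⁻¹ := by group
      rw [this, h4]; group
    have h6 : x * u * x⁻¹ = u := inv_mul_eq_one.1 h5
    have h7 : ((n i)⁻¹ * (x * x) * n i) * (x * b * x⁻¹) * b⁻¹ = 1 := by rw [← h3, h4]
    -- `n⁻¹ x² n = x⁻²`
    have h8 : (n i)⁻¹ * (x * x) * n i = x⁻¹ * x⁻¹ := by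
      have h9 : (n i)⁻¹ * x * n i = x⁻¹ := by
        have h10 : x = (n i * x * (n i)⁻¹)⁻¹ := by rw [hn, inv_inv]
        calc (n i)⁻¹ * x * n i = (n i)⁻¹ * (n i * x * (n i)⁻¹)⁻¹ * n i := by rw [← h10]
          _ = x⁻¹ := by group
      calc (n i)⁻¹ * (x * x) * n i = ((n i)⁻¹ * x * n i) * ((n i)⁻¹ * x * n i) := by group
        _ = _ := by rw [h9]
    rw [h8] at h7
    -- `x² = (x b x⁻¹) b⁻¹ ∈ U`
    have h9 : x * x = (x * b * x⁻¹) * b⁻¹ := by
      have : (x * b * x⁻¹) * b⁻¹ = x * x * (x⁻¹ * x⁻¹ * (x * b * x⁻¹) * b⁻¹) := by group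
      rw [this, h7, mul_one]
    obtain ⟨s, hs, w, hw, eb⟩ := R.mem_B.1 hb
    have hUn : ∀ {y : Y}, y ∈ RGD.Sup X (RGD.Pos cs h) → ∀ {t : Y}, t ∈ T →
        t * y * t⁻¹ ∈ RGD.Sup X (RGD.Pos cs h) := fun {y} hy {t} ht =>
      (Subgroup.mem_normalizer_iff.1 (R.T_le_normalizer_U ht) y).1 hy
    have h10 : (x * b * x⁻¹) * b⁻¹ = s * ((x * w * x⁻¹) * w⁻¹) * s⁻¹ := by
      have hxs : x * s * x⁻¹ = s := by rw [hT x hx s hs]; group
      calc (x * b * x⁻¹) * b⁻¹ = (x * s * x⁻¹) * (x * w * x⁻¹) * w⁻¹ * s⁻¹ := by rw [eb]; group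
        _ = _ := by rw [hxs]; group
    exact hx2 (eq_one_of_T_U R (mul_mem hx hx) (by
      rw [h9, h10]
      exact hUn (mul_mem (hUn hw hx) (inv_mem hw)) hs))

end rgd

/-- **[EB]** a nontrivial constituent of `1_B^G` in the principal block -/
theorem even_exists [Finite W] {r : ℕ} [Fact r.Prime] (R : RGD cs h r T n X) (hG : Cfsg.Agent.Nodes.RGDLib.G1 cs h X = ⊤)
    (hT : ∀ a ∈ T, ∀ b ∈ T, a * b = b * a) {p : ℕ} [Fact p.Prime] (hp2 : p ≠ 2) (hpr : p ≠ r) (hd : p ∣ Nat.card Y)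
    (hmv : p ∣ Nat.card T → ∃ i, ∃ t ∈ T, (∃ k : ℕ, t ^ p ^ k = 1) ∧ n i * t ≠ t * n i)
    {M' : Ideal AlgInt} (hM : IsPModular p M') :
    ∃ χ : IrrCharacter Y, χ ∈ principalBlock M' Y ∧ χ ≠ oneChar Y ∧
      ∑ᶠ b : ↥(RGD.B cs h T X), (χ : Y → ℂ) b ≠ 0 := by
  have hp : p.Prime := Fact.out
  suffices hs : ∃ χ ∈ principalBlock M' Y, χ ≠ oneChar Y ∧ md (RGD.B cs h T X) (χ : Y → ℂ) ≠ 0 by
    obtain ⟨χ, hχ, hne, h1⟩ := hs
    refine ⟨χ, hχ, hne, fun h0 => h1 ?_⟩
    rw [md_eq_zero_iff]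
    exact h0
  by_cases hpT : p ∣ Nat.card T
  · obtain ⟨i, t, ht, ⟨k, hk⟩, hne⟩ := hmv hpT
    -- the element `x = [n i, t]`
    set s : Y := n i * t * (n i)⁻¹ with hsdef
    have hs : s ∈ T := conj_n_T R i ht
    have hx : s * t⁻¹ ∈ T := mul_mem hs (inv_mem ht)
    have hs2 : n i * s * (n i)⁻¹ = t := by
      have h1 : n i * s * (n i)⁻¹ = (n i * n i) * t * (n i * n i)⁻¹ := by rw [hsdef]; group
      rw [h1, hT _ (R.sq_mem_T i) t ht]; group
    have hn : n i * (s * t⁻¹) * (n i)⁻¹ = (s * t⁻¹)⁻¹ := by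
      calc n i * (s * t⁻¹) * (n i)⁻¹ = (n i * s * (n i)⁻¹) * (n i * t * (n i)⁻¹)⁻¹ := by group
        _ = t * s⁻¹ := by rw [hs2]
        _ = _ := by group
    have hx1 : s * t⁻¹ ≠ 1 := by
      intro h0
      apply hne
      have h1 : s = t := mul_inv_eq_one.1 h0
      rw [hsdef] at h1
      rw [← h1]
      have h2 : n i * t * (n i)⁻¹ * n i = n i * t := by group
      rw [h2, h1]
    have hxk : (s * t⁻¹) ^ p ^ k = 1 := by
      have h1 : Commute s t⁻¹ := (show Commute s t from hT s hs t ht).inv_right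
      rw [h1.mul_pow, inv_pow, hk, inv_one, mul_one, hsdef, conj_pow, hk]
      group
    obtain ⟨j, -, hj⟩ := (Nat.dvd_prime_pow hp).1 (orderOf_dvd_of_pow_eq_one hxk)
    have hx2 : (s * t⁻¹) * (s * t⁻¹) ≠ 1 := by
      intro h0
      have h1 : orderOf (s * t⁻¹) ∣ 2 := orderOf_dvd_of_pow_eq_one (by rw [pow_two, h0])
      rw [hj] at h1
      have h3 : j = 0 := by
        by_contra hj0
        exact hp2 ((Nat.prime_dvd_prime_iff_eq hp Nat.prime_two).1 ((dvd_pow_self p hj0).trans h1))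
      rw [h3, pow_zero, orderOf_eq_one_iff] at hj
      exact hx1 hj
    have hnP : n i ∈ Pmin R i := Or.inr ⟨1, one_mem _, 1, one_mem _, by group⟩
    have hxB : s * t⁻¹ ∈ RGD.B cs h T X := RGD.T_le_B hx
    have hBP : RGD.B cs h T X ≤ Pmin R i := fun b hb => Or.inl hb
    have hxP : s * t⁻¹ ∈ Pmin R i := hBP hxB
    refine exists_over_md hM (Pmin R i) (RGD.B cs h T X) hBP ?_
    refine exists_of_fixed hM ((RGD.B cs h T X).subgroupOf (Pmin R i)) (x := ⟨s * t⁻¹, hxP⟩) (n := ⟨n i, hnP⟩)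
      ⟨j, by rw [Subgroup.orderOf_mk, hj]⟩ ?_ ?_
    · rw [Subgroup.mem_subgroupOf]
      exact n_notMem_B R i
    · rintro ⟨g, hg⟩ hgc
      have h1 := fixed_of_comm R hT hx hn hx2 hg (congrArg Subtype.val hgc)
      rw [Subgroup.mem_subgroupOf, Subgroup.mem_subgroupOf]
      exact h1
  · refine exists_of_coprime hM (RGD.B cs h T X) hd ?_
    rw [card_B R]
    obtain ⟨k, hk⟩ := IsPGroup.iff_card.1 R.isPGroup_Upos
    rw [hk]
    intro h0
    rcases hp.dvd_mul.1 h0 with h1 | h1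
    · exact hpT h1
    · exact hpr ((Nat.prime_dvd_prime_iff_eq hp Fact.out).1 (hp.dvd_of_dvd_pow h1))

end Cfsg.Agent.H966.EP
end

-- part: H269/EP/EvenFinal
section
/-!
# S4929, piece EVEN, complete

`ev_even` : `HasTM 2 m Y → Ev Y`, from `H274.EP.Even.even_par` and `H966.EP.EB.even_exists`.
-/

set_option autoImplicit false

open Cfsg Cfsg.Agent.H892.EP

namespace Cfsg.Agent.H269.EP

universe u

/-- **[EVEN]** -/
theorem ev_even {Y : Type u} [Group Y] [Finite Y] {m : ℕ} (hTM : HasTM 2 m Y) : Ev Y :=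
  ev_even_aux
    (fun _ _ _ _ _ _ _ hW R hG hC χ h1 h2 => haveI := hW; H274.EP.even_par R hG hC χ h1 h2)
    (fun _ _ _ _ _ _ _ hW R hG hT _ _ hp2 hd hmv _ hM =>
      haveI := hW
      haveI : Fact (Nat.Prime 2) := ⟨Nat.prime_two⟩
      H966.EP.even_exists R hG hT hp2 hp2 hd hmv hM) hTM

end Cfsg.Agent.H269.EP
end

-- part: H848/EP/Moved
section
/-!
# S4929 [TM-O]: moved torus elements in Witt frames of orthogonal type (helper848)

* `moved_gen` : `p ∣ |T|` odd: an element of order `p` of `T` which does not commute with some `φ (ν i)`.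
-/

set_option autoImplicit false
set_option linter.unusedSectionVars false

namespace Cfsg.Agent.H848.EP

open Cfsg
open Cfsg.Agent.Nodes.WittRoot
open Cfsg.Agent.Nodes.WittRGD (Tor mem_Tor b_ne_zero)
open Cfsg.Agent.TitsThree Cfsg.Agent.TitsThree.Siegel Cfsg.Agent.TitsThree.WittFrame

variable {F : Type*} [Field F] {V : Type*} [AddCommGroup V] [Module F V] {H : HForm F V} {n : ℕ}
  {Fr : Frame H (Fin n)} {G0 : Subgroup (V ≃ₗ[F] V)} {K : Type*} [Group K]

/-- scalars of isometries, orthogonal case -/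
theorem sq_of_scalar (Fr : Frame H (Fin n)) (hσ : ∀ t, H.σ t = t) (x : Fin n × Bool) {g k : V ≃ₗ[F] V} (hg : H.IsIso g) (hk : H.IsIso k)
    {c : F} (h : ∀ v, g v = c • k v) : c * c = 1 := by
  have h1 := hg (Fr.b x) (Fr.b (neg x))
  rw [h, h, H.smul_left, H.smul_right, hσ, hk, ← mul_assoc] at h1
  have h2 : H.h (Fr.b x) (Fr.b (neg x)) ≠ 0 := by
    rw [Fr.hb_self_neg]
    exact Fr.η_ne _
  exact mul_right_cancel₀ h2 (h1.trans (one_mul _).symm)

theorem moved_gen (φ : G0 →* K) (hker : ∀ g : G0, φ g = 1 → ∃ a : F, ∀ v, g.1 v = a • v)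
    (hiso : ∀ g ∈ G0, H.IsIso g) (hσ : ∀ t, H.σ t = t) (x0 : Fin n × Bool) {ι : Type*} (ν : ι → G0)
    (π : ι → Fin n × Bool → Fin n × Bool) (hm : ∀ i, Mono Fr (ν i).1 (π i))
    (htr : ∀ d : Fin n × Bool → F, (∀ i x, d (π i x) = d x) → ∀ x, d x = d (neg x)) [Finite K] {p : ℕ} (hp : p.Prime)
    (hp2 : p ≠ 2)
    (hlast : ∀ s ∈ Tor Fr G0, s ^ p = 1 → (∀ x, s (Fr.b x) = Fr.b x) → (∀ i, ∀ v, (ν i).1 (s v) = s ((ν i).1 v)) →
      s = 1)
    (hd : p ∣ Nat.card (((Tor Fr G0).subgroupOf G0).map φ)) :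
    ∃ i, ∃ t ∈ ((Tor Fr G0).subgroupOf G0).map φ, (∃ k : ℕ, t ^ p ^ k = 1) ∧ φ (ν i) * t ≠ t * φ (ν i) := by
  have : Fact p.Prime := ⟨hp⟩
  obtain ⟨⟨t, htT⟩, ht⟩ := exists_prime_orderOf_dvd_card' (G := ↥(((Tor Fr G0).subgroupOf G0).map φ)) p hd
  rw [Subgroup.orderOf_mk] at ht
  have htp : t ^ p = 1 := by rw [← ht, pow_orderOf_eq_one]
  by_contra hcon
  have hc : ∀ i, φ (ν i) * t = t * φ (ν i) := fun i => by
    by_contra hne
    exact hcon ⟨i, t, htT, ⟨1, by rw [pow_one, htp]⟩, hne⟩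
  obtain ⟨s, hs, rfl⟩ := htT
  have hsT : s.1 ∈ Tor Fr G0 := hs
  have hsI : H.IsIso s.1 := hiso _ s.2
  -- the commutators are scalars
  have h1 : ∀ i, ∃ c : F, ∀ v, (ν i).1 (s.1 v) = c • s.1 ((ν i).1 v) := by
    intro i
    let z : G0 := (s * ν i)⁻¹ * (ν i * s)
    have hz : φ z = 1 := by
      rw [map_mul, map_inv, map_mul, map_mul, hc, inv_mul_cancel]
    obtain ⟨a, ha⟩ := hker z hz
    refine ⟨a, fun v => ?_⟩
    have h2 : ν i * s = s * ν i * z := by
      change ν i * s = s * ν i * ((s * ν i)⁻¹ * (ν i * s))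
      group
    have h3 := congrArg (fun g : G0 => g.1 v) h2
    change (ν i).1 (s.1 v) = s.1 ((ν i).1 (z.1 v)) at h3
    rw [h3, ha, map_smul, map_smul]
  have h2 : ∀ i v, (ν i).1 ((s.1 * s.1) v) = (s.1 * s.1) ((ν i).1 v) := by
    intro i v
    obtain ⟨c, hcv⟩ := h1 i
    have hcc : c * c = 1 := by
      refine sq_of_scalar Fr hσ x0 (g := (ν i).1 * s.1) (k := s.1 * (ν i).1) ?_ ?_ hcv
      · intro v w
        exact (hiso _ (ν i).2 _ _).trans (hsI _ _)
      · intro v w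
        exact (hsI _ _).trans (hiso _ (ν i).2 _ _)
    change (ν i).1 (s.1 (s.1 v)) = s.1 (s.1 ((ν i).1 v))
    rw [hcv, hcv, map_smul, smul_smul, hcc, one_smul]
  have h3 : (s.1 * s.1) ^ p = 1 := by
    obtain ⟨a, ha⟩ := hker (s ^ p) (by rw [map_pow, htp])
    have ha' : ∀ v, (s.1 ^ p) v = a • v := ha
    have haa : a * a = 1 := by
      refine sq_of_scalar Fr hσ x0 (g := s.1 ^ p) (k := 1) ?_ (fun _ _ => rfl) ha'
      exact hiso _ (pow_mem s.2 p)
    have h4 : (s.1 * s.1) ^ p = s.1 ^ p * s.1 ^ p := by rw [← pow_two, ← pow_mul, mul_comm, pow_mul, pow_two]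
    rw [h4]
    ext1 v
    change (s.1 ^ p) ((s.1 ^ p) v) = v
    rw [ha', ha', smul_smul, haa, one_smul]
  have hs2T : s.1 * s.1 ∈ Tor Fr G0 := mul_mem hsT hsT
  -- the eigenvalues
  choose d hd0 hdx using hs2T.2
  have hdx' : ∀ x, (s.1 * s.1) (Fr.b x) = d x • Fr.b x := hdx
  have h4 : ∀ i x, d (π i x) = d x := by
    intro i x
    obtain ⟨l, hl, e⟩ := hm i x
    have h5 := h2 i (Fr.b x)
    rw [hdx', map_smul, e, map_smul, hdx', smul_smul, smul_smul, mul_comm (d x)] at h5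
    have h6 : (l * d x - l * d (π i x)) • Fr.b (π i x) = 0 := by rw [sub_smul, h5, sub_self]
    have h7 := (smul_eq_zero.1 h6).resolve_right (b_ne_zero (π i x))
    exact (mul_left_cancel₀ hl (sub_eq_zero.1 h7)).symm
  have h5 : ∀ x, s.1 * s.1 ∈ G0 ∧ (s.1 * s.1) (Fr.b x) = Fr.b x := by
    intro x
    refine ⟨hs2T.1, ?_⟩
    have h6 := htr d h4 x
    have h7 := hiso _ hs2T.1 (Fr.b x) (Fr.b (neg x))
    rw [hdx', hdx', H.smul_left, H.smul_right, hσ, ← h6, ← mul_assoc] at h7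
    have h8 : H.h (Fr.b x) (Fr.b (neg x)) ≠ 0 := by
      rw [Fr.hb_self_neg]
      exact Fr.η_ne _
    have h9 : d x * d x = 1 := mul_right_cancel₀ h8 (h7.trans (one_mul _).symm)
    have h10 : ∀ m : ℕ, ((s.1 * s.1) ^ m) (Fr.b x) = d x ^ m • Fr.b x := by
      intro m
      induction m with
      | zero => rw [pow_zero, pow_zero, one_smul]; rfl
      | succ m ih =>
        rw [pow_succ]
        change ((s.1 * s.1) ^ m) ((s.1 * s.1) (Fr.b x)) = _
        rw [hdx', map_smul, ih, smul_smul, pow_succ, mul_comm]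
    have h11 : d x ^ p = 1 := by
      have h12 := h10 p
      rw [h3] at h12
      have h13 : (d x ^ p - 1) • Fr.b x = 0 := by
        rw [sub_smul, one_smul, ← h12]
        exact sub_self _
      exact sub_eq_zero.1 ((smul_eq_zero.1 h13).resolve_right (b_ne_zero x))
    have h12 : d x = 1 := by
      obtain ⟨m, hm'⟩ := hp.odd_of_ne_two hp2
      rw [hm', pow_succ, pow_mul, pow_two, h9, one_pow, one_mul] at h11
      exact h11
    rw [hdx', h12, one_smul]
  have h6 : s.1 * s.1 = 1 := hlast _ hs2T h3 (fun x => (h5 x).2) h2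
  have h7 : φ s ^ 2 = 1 := by
    rw [← map_pow]
    have : s ^ 2 = 1 := Subtype.ext (by
      change (s ^ 2 : G0).1 = 1
      rw [pow_two]
      exact h6)
    rw [this, map_one]
  have h8 := orderOf_dvd_of_pow_eq_one h7
  rw [ht] at h8
  exact hp2 ((Nat.prime_dvd_prime_iff_eq hp Nat.prime_two).1 h8)

end Cfsg.Agent.H848.EP
end

-- part: H848/EP/Frame
section
/-!
# S4929 [TM-O]: `HasTM` for models of Witt frames of orthogonal type (helper848)

* `hasTM_C` : type `C_n`;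
* `fix_line` : the condition on the last reflection, `V₀` a line.
-/

set_option autoImplicit false
set_option linter.unusedSectionVars false

namespace Cfsg.Agent.H848.EP

open Cfsg
open CoxeterSystem Cfsg.Agent.ChevalleyStructure.CoxeterGeom Cfsg.Agent.Tits.Roots Cfsg.Agent.Tits.Core
open Cfsg.Agent.Nodes.Comb Cfsg.Agent.Nodes.Reps Cfsg.Agent.Nodes.WittRoot Cfsg.Agent.Nodes.BNOf
open Cfsg.Agent.Nodes Cfsg.Agent.Nodes.RGDLib Cfsg.Agent.Nodes.WittAll Cfsg.Agent.Nodes.WittU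
open Cfsg.Agent.Nodes.WittRGD (Tor mem_Tor b_ne_zero mono_nn nn)
open Cfsg.Agent.TitsThree Cfsg.Agent.TitsThree.Siegel Cfsg.Agent.TitsThree.SiegelGen
  Cfsg.Agent.TitsThree.WittFrame Cfsg.Agent.TitsThree.WBridge Cfsg.Agent.TitsThree.WittWeyl
  Cfsg.Agent.TitsThree.FrameCN
open Cfsg.Agent.Omega.EH3.Kf Cfsg.Agent.Omega.EH3.Kf.Lev
open Cfsg.Agent.H519.Dl.WittTor (dX dX_x dX_neg_x dX_pow)
open Cfsg.Agent.H892.EP (HasTM)
open Cfsg.Agent.H716.RGDAb (tor_comm_of eq_one_of_fix)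

variable {F : Type*} [Field F] {V : Type*} [AddCommGroup V] [Module F V] {H : HForm F V} {n : ℕ}
  {Fr : Frame H (Fin n)} {G0 : Subgroup (V ≃ₗ[F] V)} {K : Type*} [Group K]

/-- an element of order `p` of the torus -/
theorem dvd_of_elt (φ : G0 →* K) (hker : ∀ g : G0, φ g = 1 → ∃ a : F, ∀ v, g.1 v = a • v) [Finite K] {p : ℕ}
    (hp : p.Prime) (hp2 : p ≠ 2) {g : G0} (hg : g.1 ∈ Tor Fr G0) (hgp : g.1 ^ p = 1) {x : Fin n × Bool} {t : F}
    (htp : t ^ p = 1) (ht1 : t ≠ 1) (h1 : g.1 (Fr.b x) = t • Fr.b x)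
    (h2 : g.1 (Fr.b (neg x)) = t⁻¹ • Fr.b (neg x)) : p ∣ Nat.card (((Tor Fr G0).subgroupOf G0).map φ) := by
  have : Fact p.Prime := ⟨hp⟩
  have ht0 : t ≠ 0 := by
    rintro rfl
    rw [zero_pow hp.ne_zero] at htp
    exact zero_ne_one htp
  let y : ↥(((Tor Fr G0).subgroupOf G0).map φ) := ⟨φ g, g, Subgroup.mem_subgroupOf.2 hg, rfl⟩
  have hy : orderOf y = p := by
    refine orderOf_eq_prime ?_ ?_
    · apply Subtype.ext
      change φ g ^ p = 1
      rw [← map_pow]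
      have : g ^ p = 1 := Subtype.ext hgp
      rw [this, map_one]
    · intro h
      obtain ⟨a, ha⟩ := hker g (congrArg Subtype.val h)
      have e1 : t = a := by
        have h3 : (t - a) • Fr.b x = 0 := by rw [sub_smul, ← h1, ← ha, sub_self]
        exact sub_eq_zero.1 ((smul_eq_zero.1 h3).resolve_right (b_ne_zero x))
      have e2 : t⁻¹ = a := by
        have h3 : (t⁻¹ - a) • Fr.b (neg x) = 0 := by rw [sub_smul, ← h2, ← ha, sub_self]
        exact sub_eq_zero.1 ((smul_eq_zero.1 h3).resolve_right (b_ne_zero _))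
      have e3 : t * t = 1 := by
        nth_rw 2 [e1]
        rw [← e2, mul_inv_cancel₀ ht0]
      obtain ⟨m, hm⟩ := hp.odd_of_ne_two hp2
      rw [hm, pow_succ, pow_mul, pow_two, e3, one_pow, one_mul] at htp
      exact ht1 htp
  rw [← hy]
  exact orderOf_dvd_natCard y

/-- elements of order `p` of a finite field -/
theorem exists_root [Fintype F] {p : ℕ} (hp : p.Prime) (hd : p ∣ Fintype.card F - 1) : ∃ t : F, t ^ p = 1 ∧ t ≠ 1 := by
  classical
  have : Fact p.Prime := ⟨hp⟩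
  obtain ⟨t, ht⟩ := exists_prime_orderOf_dvd_card (G := Fˣ) p (by rw [Fintype.card_units]; exact hd)
  refine ⟨t, ?_, fun h => ?_⟩
  · rw [← Units.val_pow_eq_pow_val, ← ht, pow_orderOf_eq_one, Units.val_one]
  · have : t = 1 := Units.ext h
    rw [this, orderOf_one] at ht
    exact hp.one_lt.ne ht

theorem kerC (M : Model Fr K) (g : M.I) (hg : M.φ g = 1) : ∃ a : F, ∀ v, g.1 v = a • v := by
  have hs : ∀ v, ∃ a : F, g.1 v = a • v := fun v => M.ker v g hg
  obtain ⟨c, hc'⟩ := LinearMap.exists_eq_smul_id_of_forall_notLinearIndependent (R := F)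
    (f := (g.1 : V →ₗ[F] V)) (by
      intro v hli
      obtain ⟨a, ha⟩ := hs v
      rw [LinearIndependent.pair_iff] at hli
      have h1 := hli a (-1) (by
        rw [neg_smul, one_smul]
        change a • v + -(g.1 v) = 0
        rw [ha, add_neg_cancel])
      exact absurd h1.2 (by simp))
  exact ⟨c, fun v => LinearMap.congr_fun hc' v⟩

/-- functions constant on the steps are constant -/
theorem const_of {n : ℕ} {s : Bool} {d : Fin n × Bool → F}
    (h : ∀ (i : Fin n) (hi : (i : ℕ) + 1 < n), d (⟨i + 1, hi⟩, s) = d (i, s)) (i j : Fin n) : d (i, s) = d (j, s) := by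
  have key : ∀ (k : ℕ) (hk : k < n) (h0 : 0 < n), d (⟨k, hk⟩, s) = d (⟨0, h0⟩, s) := by
    intro k
    induction k with
    | zero => intro _ _; rfl
    | succ k ih =>
      intro hk h0
      rw [← ih (by omega) h0]
      exact h ⟨k, by omega⟩ hk
  have h0 : 0 < n := by have := i.2; omega
  rw [show i = ⟨i, i.2⟩ from rfl, show j = ⟨j, j.2⟩ from rfl, key i i.2 h0, key j j.2 h0]

theorem trC {n : ℕ} (hn : 0 < n) (d : Fin n × Bool → F) (h : ∀ i x, d (TypeC.sg i x) = d x) (x : Fin n × Bool) :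
    d x = d (neg x) := by
  obtain ⟨i, s⟩ := x
  have h1 : ∀ (s : Bool) (i : Fin n) (hi : (i : ℕ) + 1 < n), d (⟨i + 1, hi⟩, s) = d (i, s) := fun s i hi => by
    rw [← TypeC.sg_up hi s]
    exact h i _
  have hl : ¬ ((⟨n - 1, by omega⟩ : Fin n) : ℕ) + 1 < n := by simp only [_root_.not_lt]; omega
  have h2 := h ⟨n - 1, by omega⟩ (⟨n - 1, by omega⟩, s)
  rw [TypeC.sg_last hl] at h2
  change d (i, s) = d (i, !s)
  rw [const_of (h1 s) i ⟨n - 1, by omega⟩, const_of (h1 (!s)) i ⟨n - 1, by omega⟩]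
  exact h2.symm

theorem trD {n : ℕ} (d : Fin (n + 2) × Bool → F) (h : ∀ i x, d (TypeD.sg i x) = d x) (x : Fin (n + 2) × Bool) :
    d x = d (neg x) := by
  obtain ⟨i, s⟩ := x
  have h1 : ∀ (s : Bool) (i : Fin (n + 2)) (hi : (i : ℕ) + 1 < n + 2), d (⟨i + 1, hi⟩, s) = d (i, s) := fun s i hi => by
    rw [← TypeD.sg_up hi s]
    exact h i _
  have hl : ¬ ((⟨n + 1, by omega⟩ : Fin (n + 2)) : ℕ) + 1 < n + 2 := by simp
  have h2 := h ⟨n + 1, by omega⟩ (⟨n + 1, by omega⟩, s)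
  rw [TypeD.sg_last hl] at h2
  change d (i, s) = d (i, !s)
  rw [const_of (h1 s) i ⟨n + 1, by omega⟩, const_of (h1 (!s)) i (TypeD.pd n)]
  exact h2.symm

/-- `V₀` a line: elements of odd order of the torus fixing the frame -/
theorem fix_line (hV : ∀ v, (∀ x, H.h v (Fr.b x) = 0) → v ∈ Fr.V0) (hσ : ∀ t, H.σ t = t) {s : V ≃ₗ[F] V}
    (hmap : ∀ w ∈ Fr.V0, s w ∈ Fr.V0) (hiso : H.IsIso s) {d : V} (hd0 : d ∈ Fr.V0) (hd : H.h d d ≠ 0)
    (hline : ∀ w ∈ Fr.V0, ∃ a : F, w = a • d) {p : ℕ} (hp : p.Prime) (hp2 : p ≠ 2) (hs : s ^ p = 1)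
    (hb : ∀ x, s (Fr.b x) = Fr.b x) : s = 1 := by
  obtain ⟨μ, hμ⟩ := hline _ (hmap d hd0)
  have hd' : d ≠ 0 := by
    rintro rfl
    exact hd (H.zero_left _)
  have h1 : μ * μ = 1 := by
    have h2 := hiso d d
    rw [hμ, H.smul_left, H.smul_right, hσ, ← mul_assoc] at h2
    exact mul_right_cancel₀ hd (h2.trans (one_mul _).symm)
  have h2 : μ ^ p = 1 := by
    have h3 : ∀ m : ℕ, (s ^ m) d = μ ^ m • d := by
      intro m
      induction m with
      | zero => rw [pow_zero, pow_zero, one_smul]; rfl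
      | succ m ih =>
        rw [pow_succ]
        change (s ^ m) (s d) = _
        rw [hμ, map_smul, ih, smul_smul, pow_succ, mul_comm]
    have h4 := h3 p
    rw [hs] at h4
    have h5 : (μ ^ p - 1) • d = 0 := by
      rw [sub_smul, one_smul, ← h4]
      exact sub_self _
    exact sub_eq_zero.1 ((smul_eq_zero.1 h5).resolve_right hd')
  have h3 : μ = 1 := by
    obtain ⟨m, hm⟩ := hp.odd_of_ne_two hp2
    rw [hm, pow_succ, pow_mul, pow_two, h1, one_pow, one_mul] at h2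
    exact h2
  refine _root_.Cfsg.Agent.H716.RGDAb.eq_one_of_fix hV hb fun w hw => ?_
  obtain ⟨a, rfl⟩ := hline w hw
  rw [map_smul, hμ, h3, one_smul]

theorem hasTM_C (M : Model Fr K) [Finite K] [Fintype F] {r : ℕ} (hA : AmbT Fr r M.I) [Finite V] [Fact r.Prime]
    [CharP F r] {p0 : Fr.Adm} (hp0 : p0.c ≠ 0) (hn : 2 ≤ n) (hσ : ∀ t, H.σ t = t)
    (hT : ∀ s ∈ Tor Fr M.I, ∀ t ∈ Tor Fr M.I, ∀ w ∈ Fr.V0, s (t w) = t (s w))
    (hlast : ∀ p : ℕ, p.Prime → p ≠ 2 → ∀ s ∈ Tor Fr M.I, s ^ p = 1 → (∀ x, s (Fr.b x) = Fr.b x) →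
      (∀ v, _root_.Cfsg.Agent.Nodes.WittRGD.nn Fr p0 ⟨n - 1, by omega⟩ (s v) = s (_root_.Cfsg.Agent.Nodes.WittRGD.nn Fr p0 ⟨n - 1, by omega⟩ v)) → s = 1)
    (hG : r = 2 → TwC.Gd (Nodes.WittModel.X M)) : HasTM r (Fintype.card F - 1) K := by
  refine ⟨n, CoxeterMatrix.B n, TypeC.A n, TypeC.isCartan n, WittModel.T M, _, WittModel.X M,
    TypeC.finite_W (CoxeterMatrix.B n).toCoxeterSystem, rgdC_model M hA hp0 _, WittModel.G1_eq_top _ (by omega) _,
    ?_, ?_, ?_, fun hr => ?_⟩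
  · rintro _ ⟨s, hs, rfl⟩ _ ⟨t, ht, rfl⟩
    rw [← map_mul, ← map_mul]
    congr 1
    exact Subtype.ext (tor_comm_of hA.V0 (Subgroup.mem_subgroupOf.1 hs) (Subgroup.mem_subgroupOf.1 ht)
        (hT _ (Subgroup.mem_subgroupOf.1 hs) _ (Subgroup.mem_subgroupOf.1 ht)))
  · intro p hp hp2 hd
    exact moved_gen M.φ (kerC M) hA.iso hσ (⟨n - 1, by omega⟩, true)
      (fun i => ⟨_root_.Cfsg.Agent.Nodes.WittRGD.nn Fr p0 i, nn_mem hA p0 i⟩) TypeC.sg (fun i => mono_nn hp0 i) (trC (by omega)) hp hp2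
      (fun s hs hsp hb hc => hlast p hp hp2 s hs hsp hb (hc _)) hd
  · intro p hp hp2 hd
    obtain ⟨t, ht, ht1⟩ := exists_root hp hd
    have ht0 : t ≠ 0 := by
      rintro rfl
      rw [zero_pow hp.ne_zero] at ht
      exact zero_ne_one ht
    have hxy : ((⟨0, by omega⟩, true) : Fin n × Bool).1 ≠ ((⟨1, by omega⟩, true) : Fin n × Bool).1 := by
      simp [Fin.ext_iff]
    exact dvd_of_elt M.φ (kerC M) hp hp2 (g := ⟨_, Cfsg.Agent.H519.Dl.WittTor.dX_mem M hA _ _ t⟩)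
      (Cfsg.Agent.H519.Dl.WittTor.dX_mem_Tor M hA hxy ht0) (dX_pow hA.V0 hxy ht0 ht) ht ht1 (dX_x hxy ht0)
      (by rw [← hσ t⁻¹, map_inv₀]; exact dX_neg_x hxy ht0)
  · exact fun _ hr' h0 hs => (hG hr).gen _ hr' h0 hs

end Cfsg.Agent.H848.EP
end
end

-- part: H298/EP/Mid
section
prune_inst 0x302045406422020000000592130020602d00009000630401c4e509420809c360000227012e5015114890a2800008006000000010420000000a00040000010120808352009318ad0436000f801880000000000000000000000000000000000000000000000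
set_option linter.all false
open scoped Cfsg.Agent.FastGrp

/-!
# S4929, `PSp_{2m}(q)`, `m` odd: `2 ≤ ord_p(q) ≤ m` (helper298, task 5324)
-/

set_option autoImplicit false
set_option linter.unusedSectionVars false

open Matrix Cfsg Cfsg.Agent.Characters.Core Cfsg.Agent.H892.EP

namespace Cfsg.Agent.H298.EP

open Cfsg.Agent.ChevalleyStructure.CoxeterGeom Cfsg.Agent.Tits.Roots Cfsg.Agent.Tits.Core
  Cfsg.Agent.Nodes Cfsg.Agent.Nodes.Reps Cfsg.Agent.Nodes.BNOf Cfsg.Agent.Nodes.StabComb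
  Cfsg.Agent.Nodes.Bruhat Cfsg.Agent.Nodes.OppDec Cfsg.Agent.Nodes.LeviDec
  Cfsg.Agent.Nodes.TypeC Cfsg.Agent.Nodes.WittRoot Cfsg.Agent.TitsThree Cfsg.Agent.TitsThree.WittFrame
  Cfsg.Agent.Nodes.WittAll Cfsg.Agent.TitsThree.WBridge Cfsg.Agent.H53.HC
open Cfsg.Agent.TitsThree.SpIdent (form frame e f toSp isos mat coe_toSp toPSp)
open Cfsg.Agent.LieRecognition.BNCox (cA)

variable {F : Type} [Field F] [Fintype F]

theorem card_X_sr {m : ℕ} (i : Fin m) (hi : (i : ℕ) + 1 < m) :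
    Nat.card (WittModel.X (KInstSp.model m F) (sr i)) = Fintype.card F := by
  have hnx : nx i = (⟨i + 1, hi⟩, false) := by unfold nx; rw [dif_pos hi]
  have hne : ((i, true) : Fin m × Bool).1 ≠ (nx i).1 := by rw [hnx]; simp [Fin.ext_iff]
  have hrg : rg (frame m F) (sr i) = XG (frame m F) (i, true) (nx i) := by
    rw [WittRGD.rg_sr, PG_ne _ hne]
  let φ : F → WittModel.X (KInstSp.model m F) (sr i) := fun t =>
    ⟨toPSp ⟨(frame m F).X (i, true) (nx i) t, (frame m F).isIso_X _ _ _⟩,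
      WittModel.mem_X_of (KInstSp.model m F) _ (by rw [hrg]; exact ⟨t, rfl⟩)⟩
  have hφ : Function.Bijective φ := by
    constructor
    · intro s t hst
      have h1 : toPSp ⟨(frame m F).X (i, true) (nx i) s, (frame m F).isIso_X _ _ _⟩ =
        toPSp ⟨(frame m F).X (i, true) (nx i) t, (frame m F).isIso_X _ _ _⟩ := congrArg Subtype.val hst
      have h2 : toPSp (⟨(frame m F).X (i, true) (nx i) (s + -t), (frame m F).isIso_X _ _ _⟩ : isos (form m F)) = 1 := by
        have e1 : (⟨(frame m F).X (i, true) (nx i) (s + -t), (frame m F).isIso_X _ _ _⟩ : isos (form m F)) =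
            ⟨(frame m F).X (i, true) (nx i) s, (frame m F).isIso_X _ _ _⟩ *
              (⟨(frame m F).X (i, true) (nx i) t, (frame m F).isIso_X _ _ _⟩)⁻¹ := by
          apply Subtype.ext
          show (frame m F).X (i, true) (nx i) (s + -t) = (frame m F).X (i, true) (nx i) s * ((frame m F).X (i, true) (nx i) t)⁻¹
          rw [(frame m F).X_add, (frame m F).X_neg]
        rw [e1, map_mul, map_inv, h1, mul_inv_cancel]
      obtain ⟨a, -, ha⟩ := SpIdent.exists_smul_of_toPSp_eq_one h2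
      have h3 := ha ((frame m F).b (i, true))
      have h4 : (frame m F).X (i, true) (nx i) (s + -t) ((frame m F).b (i, true)) = (frame m F).b (i, true) := by
        refine WittWeyl.X_apply_of_ne (frame m F) hne (by simp [WittFrame.neg]) ?_ _
        rw [hnx]
        simp [WittFrame.neg, Fin.ext_iff]
      have hb : (frame m F).b (i, true) (Sum.inr i) = 1 := by
        show SpIdent.e m F i (Sum.inr i) = 1
        rw [SpIdent.e, Pi.single_eq_same]
      have ha1 : a = 1 := by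
        have h5 := congrFun (h3.symm.trans h4) (Sum.inr i)
        rw [Pi.smul_apply, hb, smul_eq_mul, mul_one] at h5
        exact h5
      subst ha1
      have h5 := ha ((frame m F).b (WittFrame.neg (nx i)))
      have h6 : (frame m F).X (i, true) (nx i) (s + -t) ((frame m F).b (WittFrame.neg (nx i))) =
          (frame m F).b (WittFrame.neg (nx i)) + (s + -t) • (frame m F).b (i, true) :=
        WittWeyl.X_apply_neg (frame m F) hne _
      have h7 : (s + -t) • (frame m F).b (i, true) = 0 := by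
        have h8 := h6.symm.trans h5
        rw [_root_.one_smul] at h8
        exact add_eq_left.1 h8
      have h9 := congrFun h7 (Sum.inr i)
      rw [Pi.smul_apply, hb, smul_eq_mul, mul_one] at h9
      rw [← sub_eq_add_neg] at h9
      exact sub_eq_zero.1 h9
    · rintro ⟨y, hy⟩
      obtain ⟨g, hg, hgx, rfl⟩ := (WittModel.mem_X (KInstSp.model m F)).1 hy
      rw [hrg] at hgx
      obtain ⟨t, rfl⟩ := hgx
      exact ⟨t, rfl⟩
  rw [← Nat.card_congr (Equiv.ofBijective φ hφ), Nat.card_eq_fintype_card]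

/-- **`2 ≤ ord_p(q) ≤ m`** -/
theorem evAt_mid {r : ℕ} [Fact r.Prime] [CharP F r] (hr : r ≠ 2) {m : ℕ} (hm : 3 ≤ m) (hm2 : Odd m) {p d : ℕ}
    [Fact p.Prime] (hd : 2 ≤ d) (hdm : d ≤ m) (h1 : p ∣ Fintype.card F ^ d - 1)
    (h2 : ∀ i, 0 < i → i < d → ¬ p ∣ Fintype.card F ^ i - 1) : EvAt p (PSp m F) := by
  obtain ⟨k, rfl⟩ : ∃ k, m = k + 1 := ⟨m - 1, by omega⟩
  have hfin : Finite (PSp (k + 1) F) := Quotient.finite _
  have hfinW := finite_W (CoxeterMatrix.B (k + 1)).toCoxeterSystem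
  have hV : Finite (Fin (k + 1) ⊕ Fin (k + 1) → F) := inferInstance
  have R := rgdC_model (KInstSp.model (k + 1) F) (AmbT.of_amb WittU.amb_Sp r) (p0 := SpIdent.adm 1) one_ne_zero
    (CoxeterMatrix.B (k + 1)).toCoxeterSystem
  have hG1 := WittModel.G1_eq_top (KInstSp.model (k + 1) F) (Nat.succ_pos k) (CoxeterMatrix.B (k + 1)).toCoxeterSystem
  have hG : GG (CoxeterMatrix.B (k + 1)).toCoxeterSystem (isCartan (k + 1)) (WittModel.T (KInstSp.model (k + 1) F))
      (WittModel.X (KInstSp.model (k + 1) F)) = ⊤ := Cfsg.Agent.KFacts.RgdFilt.GG_eq_top hG1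
  let κ : Fin (d - 1) ↪ Fin (k + 1) := ⟨fun i => ⟨i, by omega⟩, fun i j hij => Fin.ext (by simpa using hij)⟩
  have hκ : ∀ i, ((κ i : Fin (k + 1)) : ℕ) = i := fun i => rfl
  have hB : ∀ i j : Fin (k + 1), i ≠ j → CoxeterMatrix.B (k + 1) i j =
      if (i : ℕ) = k ∧ (j : ℕ) = k - 1 ∨ (j : ℕ) = k ∧ (i : ℕ) = k - 1
        then 4 else (if (j : ℕ) + 1 = i ∨ (i : ℕ) + 1 = j then 3 else 2) := by
    intro i j hij
    show (if i = j then 1 else _) = _
    rw [if_neg hij]
    rfl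
  have hgood : Good p r ↥(MJ (CoxeterMatrix.B (k + 1)).toCoxeterSystem (isCartan (k + 1))
      (WittModel.X (KInstSp.model (k + 1) F)) (Set.range κ)) := by
    refine good_MJ_of_chain R (by omega) κ ?_ ?_ (q := Fintype.card F) ?_ ?_ ?_
    · intro i j
      by_cases hij : i = j
      · subst hij
        rw [(CoxeterMatrix.B (k + 1)).diagonal, (cA (d - 1)).diagonal]
      · rw [hB _ _ (fun h => hij (κ.injective h)), hκ, hκ]
        have hij' : (i : ℕ) ≠ j := fun h => hij (Fin.ext h)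
        have hi := i.2
        have hj := j.2
        rw [Cfsg.Agent.LieRecognition.BNCox.cA_apply]
        unfold Cfsg.Agent.LieRecognition.CoxClass.mA
        split_ifs <;> omega
    · intro hd1
      refine ⟨⟨0, by omega⟩, ⟨1, by omega⟩, rfl, ?_⟩
      rw [hB _ _ (by simp [Fin.ext_iff, κ]), hκ]
      have h0 : ((⟨0, by omega⟩ : Fin (d - 1)) : ℕ) = 0 := rfl
      have h1 : ((⟨1, by omega⟩ : Fin (k + 1)) : ℕ) = 1 := rfl
      rw [h0, h1, if_neg (by omega), if_pos (by omega)]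
    · exact card_X_sr _ (by rw [hκ]; simp; omega)
    · rw [show d - 1 + 1 = d by omega]
      exact h1
    · intro i hi hid
      exact h2 i hi (by omega)
  intro M hM
  have hlast : ¬ (((Fin.last k : Fin (k + 1)) : ℕ) + 1 < k + 1) := by simp
  obtain ⟨χ, hχ, hno⟩ := exists_noFix_VJ R hG (Set.range κ) {Fin.last k} (fun w x hx hx' => by
    obtain ⟨hr, h0, hs⟩ := hx
    have e1 : x = sr (Fin.last k) := hr.eq_sr h0 _ fun j hj => hs j hj
    rw [e1] at hx'
    refine rep_last (cs := (CoxeterMatrix.B (k + 1)).toCoxeterSystem) w (Fin.last k) hlast (hx'.2 _ ?_)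
    rintro ⟨i, hi⟩
    have h3 := congrArg (fun z : Fin (k + 1) => (z : ℕ)) hi
    simp only [hκ, Fin.val_last] at h3
    have := i.2
    omega) hgood hM
  refine ⟨χ, hχ, even_of_noFix hr (by omega) ?_ _ χ hno⟩
  obtain ⟨j, hj⟩ := hm2
  exact ⟨j, by omega⟩

end Cfsg.Agent.H298.EP
end

-- part: H298/EP/RowPsp3
section
set_option linter.all false
open scoped Cfsg.Agent.FastGrp

/-!
# S4929: the row `PSp_{2m}(q)`, `m` odd, `q ≡ 3 mod 4` (helper298, task 5324)
-/

set_option autoImplicit false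
set_option linter.unusedSectionVars false

open Cfsg Cfsg.Agent.H892.EP

namespace Cfsg.Agent.H298.EP

/-- **the row `PSp_{2m}(q)`, `m` odd, `q ≡ 3 mod 4`** -/
theorem row_psp3 (F : Type) [Field F] [Fintype F] (m : ℕ) (hm : 3 ≤ m) (ho : Odd m) (hq : Fintype.card F % 4 = 3) :
    Ev (PSp m F) := by
  intro p hp hp2 hd
  have : Fact p.Prime := ⟨hp⟩
  have hfin : Finite (PSp m F) := Quotient.finite _
  obtain ⟨r, hr⟩ := CharP.exists F
  have hr' : r.Prime := CharP.char_is_prime F r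
  have : Fact r.Prime := ⟨hr'⟩
  have hr2 : r ≠ 2 := by
    rintro rfl
    obtain ⟨n, -, hn⟩ := FiniteField.card F 2
    rw [hn] at hq
    have h1 : 2 ∣ 2 ^ (n : ℕ) := dvd_pow_self 2 n.ne_zero
    omega
  by_cases hpr : p = r
  · subst hpr
    exact Cfsg.Agent.H652.EP.evAt_own hp2 (Or.inr (Or.inl ⟨F, inferInstance, inferInstance, hr, m, by omega,
      fun h => by omega, ⟨MulEquiv.refl _⟩⟩))
  · by_cases h1 : ∀ i, 0 < i → i ≤ m → ¬ p ∣ Fintype.card F ^ i - 1
    · exact Cfsg.Agent.H188.EP.rest_psp hp2 hpr (by omega) hd h1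
    · classical
      have hex : ∃ i, 0 < i ∧ p ∣ Fintype.card F ^ i - 1 := by
        push Not at h1
        obtain ⟨i, hi, -, hi2⟩ := h1
        exact ⟨i, hi, hi2⟩
      obtain ⟨hd0, hd1⟩ := Nat.find_spec hex
      have hmin : ∀ i, 0 < i → i < Nat.find hex → ¬ p ∣ Fintype.card F ^ i - 1 :=
        fun i hi hlt h => Nat.find_min hex hlt ⟨hi, h⟩
      have hle : Nat.find hex ≤ m := by
        by_contra hcon
        apply h1
        intro i hi him
        exact hmin i hi (by omega)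
      by_cases h2 : Nat.find hex = 1
      · rw [h2, pow_one] at hd1
        exact evAt_split hp2 ho hq hd1
      · exact evAt_mid hr2 hm ho (d := Nat.find hex) (by omega) hle hd1 hmin

end Cfsg.Agent.H298.EP
end

-- part: H978/EP/Ree
section
set_option linter.all false
open scoped Cfsg.Agent.FastGrp

/-!
# S4929: the row of the Ree groups `²G₂(q)` (helper978)
-/

set_option autoImplicit false

open Cfsg Cfsg.Agent.H892.EP

namespace Cfsg.Agent.H978.EP

theorem row_ree : SpRow fun K => Lie.IsoRee K := by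
  intro K _ _ _ h p hp hp2 hd
  have : Fact p.Prime := ⟨hp⟩
  by_cases hp3 : p = 3
  · subst hp3
    refine Cfsg.Agent.H652.EP.evAt_own (by norm_num) ?_
    unfold IsLieTypeChar
    simp only [h, and_true]
    simp
  · have h3 : 3 < p := by
      have := hp.two_le
      omega
    have hcyc := fun P : Sylow p K => Cfsg.Agent.H315.RatB0.isCyclic_ree h h3 (P : Subgroup K) P.isPGroup'
    obtain ⟨F, _, _, m, hm, hF, ⟨e⟩⟩ := h
    rw [Nat.card_congr e.toEquiv] at hd
    obtain ⟨g, hg, hr⟩ := (Cfsg.Agent.H410.RealTw.real_ree hm hF hp2 hp3 hd).congr e.symm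
    exact evAt_of_real_cyclic hp2 hcyc hg hr

end Cfsg.Agent.H978.EP
end

-- part: H892/EP/PcRow
section
set_option linter.all false

/-!
# S4929: the pieces in the form used by the assembly (`PcRow`)
-/

set_option autoImplicit false
set_option linter.unusedSectionVars false
set_option linter.unusedVariables false

open Cfsg Cfsg.Agent.Characters.Core Cfsg.Agent.H892.EP
open CoxeterSystem Cfsg.Agent.ChevalleyStructure.CoxeterGeom Cfsg.Agent.Tits.Roots Cfsg.Agent.Tits.Core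
  Cfsg.Agent.Nodes.Reps Cfsg.Agent.Nodes.BNOf Cfsg.Agent.Omega.EH3.Kf.Lev Cfsg.Agent.Nodes.StabComb
open Matrix

namespace Cfsg.Agent.H892.EP.Pc

universe u v

theorem row_psl2 : ∀ (F : Type) [Field F] [Fintype F], 4 ≤ Fintype.card F →
    Ev (Matrix.ProjectiveSpecialLinearGroup (Fin 2) F) :=
  Cfsg.Agent.H652.EP.row_psl2

theorem row_psu3 : ∀ (F : Type) [Field F] [Fintype F] (q : ℕ), Fintype.card F = q ^ 2 → q ≠ 2 → Ev (PSU 3 F q) :=
  Cfsg.Agent.H906.EP.row_psu3

theorem row_ree : SpRow fun K => Lie.IsoRee K :=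
  Cfsg.Agent.H978.EP.row_ree

theorem row_tf4 : SpRow fun K => Lie.Iso2F4 K :=
  Cfsg.Agent.H743.EP.row_tf4

theorem row_f42 : ∀ (F : Type) [Field F] [Fintype F], Fintype.card F = 2 → Ev ↥(Lie.chevF4.group F) :=
  Cfsg.Agent.H531.EP.row_f42

theorem row_psp3 (F : Type) [Field F] [Fintype F] (m : ℕ) (hm : 3 ≤ m) (ho : Odd m) (hq : Fintype.card F % 4 = 3) :
    Ev (PSp m F) :=
  Cfsg.Agent.H298.EP.row_psp3 F m hm ho hq

end Cfsg.Agent.H892.EP.Pc
end
end
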